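import Mathlib
import Cfsg.Agent.Lib.W2.Tab

/-! Certified coset enumerations (generated by tools/cosetenum/w2tc.cpp). -/

set_option maxRecDepth 100000
set_option Elab.async false

namespace CfsgLib.W2

open CfsgLib.CosetEnum

/-- generators a b c d z t x y w; relators (za)^2 (zb)^2 (zc)^2 (zd)^2 (ab)^2 (cd)^2 (ac)^2 (bd)^2 (ad)^2z (bc)^2z xxx xax^-1b xbx^-1ab xcx^-1d xdx^-1cd xzx^-1z (tx)^2 (ta)^2 (tc)^2 (tz)^2 tbtab tdtcd yyy yby^-1b (dy)^2 yzy^-1a yay^-1za ycy^-1t yty^-1tc www wdw^-1d (bw)^2 wzw^-1c wcw^-1zc waw^-1t wtw^-1ta ywy^-1w^-1 (dy^-1tx^-1)^3 (bw^-1tx^-1)^3 -/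
def pA8_rels : List (List ℕ) := [[8, 0, 8, 0],
  [8, 2, 8, 2],
  [8, 4, 8, 4],
  [8, 6, 8, 6],
  [0, 2, 0, 2],
  [4, 6, 4, 6],
  [0, 4, 0, 4],
  [2, 6, 2, 6],
  [0, 6, 0, 6, 8],
  [2, 4, 2, 4, 8],
  [12, 12, 12],
  [12, 0, 13, 2],
  [12, 2, 13, 0, 2],
  [12, 4, 13, 6],
  [12, 6, 13, 4, 6],
  [12, 8, 13, 8],
  [10, 12, 10, 12],
  [10, 0, 10, 0],
  [10, 4, 10, 4],
  [10, 8, 10, 8],
  [10, 2, 10, 0, 2],
  [10, 6, 10, 4, 6],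
  [14, 14, 14],
  [14, 2, 15, 2],
  [6, 14, 6, 14],
  [14, 8, 15, 0],
  [14, 0, 15, 8, 0],
  [14, 4, 15, 10],
  [14, 10, 15, 10, 4],
  [16, 16, 16],
  [16, 6, 17, 6],
  [2, 16, 2, 16],
  [16, 8, 17, 4],
  [16, 4, 17, 8, 4],
  [16, 0, 17, 10],
  [16, 10, 17, 10, 0],
  [14, 16, 15, 17],
  [6, 15, 10, 13, 6, 15, 10, 13, 6, 15, 10, 13],
  [2, 17, 10, 13, 2, 17, 10, 13, 2, 17, 10, 13]]

def pA8_1_nets_n4_0 : ℕ := (nat_lit 0x1)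
def pA8_1_nets_n4 : Net :=
  (Net.cons pA8_1_nets_n4_0 (nat_lit 1) Net.nil)
def pA8_1_nets : List Net := [Net.nil, Net.nil, Net.nil, Net.nil, pA8_1_nets_n4, Net.nil, Net.nil, Net.nil, Net.nil]
def pA8_1_rels : List (List ℕ) := []
theorem pA8_1_nets_ok : allL (Net.ok 2) pA8_1_nets = true := by decide +kernel
theorem pA8_1_rel_s0 : relsAt pA8_1_nets 2 1 (List.range' 0 1) (sqW [0, 1, 2, 3, 4, 5] ++ pA8_1_rels) = true := by decide +kernel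
theorem pA8_1_rel : ∀ w ∈ (sqW [0, 1, 2, 3, 4, 5] ++ pA8_1_rels), ev (netGen pA8_1_nets) w = 1 :=
  SlicesOk.rel (K := 1) ((SlicesOk.zero _ _ _ _).step 1 pA8_1_rel_s0)
    pA8_1_nets_ok (by norm_num)
theorem pA8_1_model : Model 2 pA8_1_nets (imOf [0, 1, 2, 3, 4, 5]) pA8_1_rels := Model.of_rel pA8_1_nets_ok pA8_1_rel
def pA8_1_t : Tr := (Tr.node Tr.leaf [8] 0 0 0 Tr.leaf)
def pA8_1_m0 : ℕ := (nat_lit 0x2)
def pA8_1_p0 : List ℕ := [nat_lit 0x1001001001]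
noncomputable def pA8_1 : CE where
  p0 := 0
  F := (Nat.sub (Nat.shiftLeft 1 2) 1)
  masks := [pA8_1_m0]
  gprog := [0]
  cprog := []
  sids := []
  t0 := pA8_1_t
  s := 12
  progs := [pA8_1_p0]
  O := (Nat.sub (Nat.shiftLeft 1 2) 1)
  yids := [0]
theorem pA8_1_chk : ∃ progs, CE.check { pA8_1 with progs := progs } pA8_1_nets (imOf [0, 1, 2, 3, 4, 5]) pA8_1_rels [] [[8]] = true :=
  ⟨pA8_1.progs, by decide +kernel⟩
theorem pA8_1_idx {Γ : Type*} [Group Γ] {g : ℕ → Γ} (hi : InvOk g (imOf [0, 1, 2, 3, 4, 5])) (hr : ∀ r ∈ pA8_1_rels, ev g r = 1)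
    {H : Subgroup Γ} (hs : ∀ u ∈ ([] : List (List ℕ)), ev g u ∈ H) :
    H.relIndex (gen g [[8]]) ≠ 0 ∧ H.relIndex (gen g [[8]]) ≤ 2 :=
  Reach.relIndex_le pA8_1_model hi hr hs pA8_1_chk (by decide +kernel)

def pA8_2_nets_n0_0 : ℕ := (nat_lit 0x5)
def pA8_2_nets_n1_0 : ℕ := (nat_lit 0x3)
def pA8_2_nets_n0 : Net :=
  (Net.cons pA8_2_nets_n0_0 (nat_lit 1) Net.nil)
def pA8_2_nets_n1 : Net :=
  (Net.cons pA8_2_nets_n1_0 (nat_lit 2) Net.nil)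
def pA8_2_nets : List Net := [pA8_2_nets_n0, pA8_2_nets_n1, Net.nil, Net.nil, Net.nil, Net.nil, Net.nil, Net.nil, Net.nil]
def pA8_2_rels : List (List ℕ) := [[8, 0, 8, 0],
  [8, 2, 8, 2],
  [0, 2, 0, 2]]
theorem pA8_2_nets_ok : allL (Net.ok 4) pA8_2_nets = true := by decide +kernel
theorem pA8_2_rel_s0 : relsAt pA8_2_nets 4 2 (List.range' 0 2) (sqW [0, 1, 2, 3, 4, 5] ++ pA8_2_rels) = true := by decide +kernel
theorem pA8_2_rel : ∀ w ∈ (sqW [0, 1, 2, 3, 4, 5] ++ pA8_2_rels), ev (netGen pA8_2_nets) w = 1 :=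
  SlicesOk.rel (K := 2) ((SlicesOk.zero _ _ _ _).step 2 pA8_2_rel_s0)
    pA8_2_nets_ok (by norm_num)
theorem pA8_2_model : Model 4 pA8_2_nets (imOf [0, 1, 2, 3, 4, 5]) pA8_2_rels := Model.of_rel pA8_2_nets_ok pA8_2_rel
def pA8_2_t : Tr := (Tr.node (Tr.node Tr.leaf [0] 0 0 0 Tr.leaf) [8] 0 0 0 (Tr.node Tr.leaf [2] 0 0 0 Tr.leaf))
def pA8_2_m0 : ℕ := (nat_lit 0)
def pA8_2_m1 : ℕ := (nat_lit 0x2)
def pA8_2_m2 : ℕ := (nat_lit 0xc)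
def pA8_2_p0 : List ℕ := [nat_lit 0x1004003003,
  nat_lit 0x1004005005,
  nat_lit 0x5003002003003006,
  nat_lit 0x3001002001001004,
  nat_lit 0x5001002002001006]
noncomputable def pA8_2 : CE where
  p0 := 0
  F := (Nat.sub (Nat.shiftLeft 1 4) 1)
  masks := [pA8_2_m0, pA8_2_m1, pA8_2_m2]
  gprog := [1, 2]
  cprog := []
  sids := [0]
  t0 := pA8_2_t
  s := 12
  progs := [pA8_2_p0]
  O := (Nat.sub (Nat.shiftLeft 1 4) 1)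
  yids := [0, 1, 2]
theorem pA8_2_chk : ∃ progs, CE.check { pA8_2 with progs := progs } pA8_2_nets (imOf [0, 1, 2, 3, 4, 5]) pA8_2_rels [[8]] [[8], [0], [2]] = true :=
  ⟨pA8_2.progs, by decide +kernel⟩
theorem pA8_2_idx {Γ : Type*} [Group Γ] {g : ℕ → Γ} (hi : InvOk g (imOf [0, 1, 2, 3, 4, 5])) (hr : ∀ r ∈ pA8_2_rels, ev g r = 1)
    {H : Subgroup Γ} (hs : ∀ u ∈ ([[8]] : List (List ℕ)), ev g u ∈ H) :
    H.relIndex (gen g [[8], [0], [2]]) ≠ 0 ∧ H.relIndex (gen g [[8], [0], [2]]) ≤ 4 :=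
  Reach.relIndex_le pA8_2_model hi hr hs pA8_2_chk (by decide +kernel)

def pA8_3_nets_n2_0 : ℕ := (nat_lit 0x5)
def pA8_3_nets_n3_0 : ℕ := (nat_lit 0x3)
def pA8_3_nets_n2 : Net :=
  (Net.cons pA8_3_nets_n2_0 (nat_lit 1) Net.nil)
def pA8_3_nets_n3 : Net :=
  (Net.cons pA8_3_nets_n3_0 (nat_lit 2) Net.nil)
def pA8_3_nets : List Net := [Net.nil, Net.nil, pA8_3_nets_n2, pA8_3_nets_n3, Net.nil, Net.nil, Net.nil, Net.nil, Net.nil]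
def pA8_3_rels : List (List ℕ) := [[8, 0, 8, 0],
  [8, 2, 8, 2],
  [8, 4, 8, 4],
  [8, 6, 8, 6],
  [0, 2, 0, 2],
  [4, 6, 4, 6],
  [0, 4, 0, 4],
  [2, 6, 2, 6],
  [0, 6, 0, 6, 8],
  [2, 4, 2, 4, 8]]
theorem pA8_3_nets_ok : allL (Net.ok 4) pA8_3_nets = true := by decide +kernel
theorem pA8_3_rel_s0 : relsAt pA8_3_nets 4 2 (List.range' 0 2) (sqW [0, 1, 2, 3, 4, 5] ++ pA8_3_rels) = true := by decide +kernel
theorem pA8_3_rel : ∀ w ∈ (sqW [0, 1, 2, 3, 4, 5] ++ pA8_3_rels), ev (netGen pA8_3_nets) w = 1 :=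
  SlicesOk.rel (K := 2) ((SlicesOk.zero _ _ _ _).step 2 pA8_3_rel_s0)
    pA8_3_nets_ok (by norm_num)
theorem pA8_3_model : Model 4 pA8_3_nets (imOf [0, 1, 2, 3, 4, 5]) pA8_3_rels := Model.of_rel pA8_3_nets_ok pA8_3_rel
def pA8_3_t : Tr := (Tr.node (Tr.node (Tr.node Tr.leaf [4] 0 0 0 Tr.leaf) [0] 0 0 0 Tr.leaf) [8] 0 0 0 (Tr.node (Tr.node Tr.leaf [6] 0 0 0 Tr.leaf) [2] 0 0 0 Tr.leaf))
def pA8_3_m0 : ℕ := (nat_lit 0)
def pA8_3_m1 : ℕ := (nat_lit 0)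
def pA8_3_m2 : ℕ := (nat_lit 0)
def pA8_3_m3 : ℕ := (nat_lit 0x2)
def pA8_3_m4 : ℕ := (nat_lit 0xc)
def pA8_3_p0 : List ℕ := [nat_lit 0x100b007007,
  nat_lit 0x100b009009,
  nat_lit 0x900700200600700a,
  nat_lit 0x7001002003001008,
  nat_lit 0x900100200400100a,
  nat_lit 0x7003002007003008,
  nat_lit 0x900500200800500a,
  nat_lit 0x900300100700900300a,
  nat_lit 0x700500100700a005008]
noncomputable def pA8_3 : CE where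
  p0 := 0
  F := (Nat.sub (Nat.shiftLeft 1 4) 1)
  masks := [pA8_3_m0, pA8_3_m1, pA8_3_m2, pA8_3_m3, pA8_3_m4]
  gprog := [3, 4]
  cprog := []
  sids := [0, 1, 2]
  t0 := pA8_3_t
  s := 12
  progs := [pA8_3_p0]
  O := (Nat.sub (Nat.shiftLeft 1 4) 1)
  yids := [0, 1, 2, 3, 4]
theorem pA8_3_chk : ∃ progs, CE.check { pA8_3 with progs := progs } pA8_3_nets (imOf [0, 1, 2, 3, 4, 5]) pA8_3_rels [[8], [0], [2]] [[8], [0], [2], [4], [6]] = true :=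
  ⟨pA8_3.progs, by decide +kernel⟩
theorem pA8_3_idx {Γ : Type*} [Group Γ] {g : ℕ → Γ} (hi : InvOk g (imOf [0, 1, 2, 3, 4, 5])) (hr : ∀ r ∈ pA8_3_rels, ev g r = 1)
    {H : Subgroup Γ} (hs : ∀ u ∈ ([[8], [0], [2]] : List (List ℕ)), ev g u ∈ H) :
    H.relIndex (gen g [[8], [0], [2], [4], [6]]) ≠ 0 ∧ H.relIndex (gen g [[8], [0], [2], [4], [6]]) ≤ 4 :=
  Reach.relIndex_le pA8_3_model hi hr hs pA8_3_chk (by decide +kernel)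

def pA8_4_nets_n5_0 : ℕ := (nat_lit 0x1)
def pA8_4_nets_n5 : Net :=
  (Net.cons pA8_4_nets_n5_0 (nat_lit 1) Net.nil)
def pA8_4_nets : List Net := [Net.nil, Net.nil, Net.nil, Net.nil, Net.nil, pA8_4_nets_n5, Net.nil, Net.nil, Net.nil]
def pA8_4_rels : List (List ℕ) := [[8, 0, 8, 0],
  [8, 2, 8, 2],
  [8, 4, 8, 4],
  [8, 6, 8, 6],
  [0, 2, 0, 2],
  [4, 6, 4, 6],
  [0, 4, 0, 4],
  [2, 6, 2, 6],
  [0, 6, 0, 6, 8],
  [2, 4, 2, 4, 8],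
  [10, 0, 10, 0],
  [10, 4, 10, 4],
  [10, 8, 10, 8],
  [10, 2, 10, 0, 2],
  [10, 6, 10, 4, 6]]
theorem pA8_4_nets_ok : allL (Net.ok 2) pA8_4_nets = true := by decide +kernel
theorem pA8_4_rel_s0 : relsAt pA8_4_nets 2 1 (List.range' 0 1) (sqW [0, 1, 2, 3, 4, 5] ++ pA8_4_rels) = true := by decide +kernel
theorem pA8_4_rel : ∀ w ∈ (sqW [0, 1, 2, 3, 4, 5] ++ pA8_4_rels), ev (netGen pA8_4_nets) w = 1 :=
  SlicesOk.rel (K := 1) ((SlicesOk.zero _ _ _ _).step 1 pA8_4_rel_s0)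
    pA8_4_nets_ok (by norm_num)
theorem pA8_4_model : Model 2 pA8_4_nets (imOf [0, 1, 2, 3, 4, 5]) pA8_4_rels := Model.of_rel pA8_4_nets_ok pA8_4_rel
def pA8_4_t : Tr := (Tr.node (Tr.node (Tr.node Tr.leaf [4] 0 0 0 Tr.leaf) [0] 0 0 0 (Tr.node Tr.leaf [10] 0 0 0 Tr.leaf)) [8] 0 0 0 (Tr.node (Tr.node Tr.leaf [6] 0 0 0 Tr.leaf) [2] 0 0 0 Tr.leaf))
def pA8_4_m0 : ℕ := (nat_lit 0)
def pA8_4_m1 : ℕ := (nat_lit 0)
def pA8_4_m2 : ℕ := (nat_lit 0)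
def pA8_4_m3 : ℕ := (nat_lit 0)
def pA8_4_m4 : ℕ := (nat_lit 0)
def pA8_4_m5 : ℕ := (nat_lit 0x2)
def pA8_4_p0 : List ℕ := [nat_lit 0x101000b00b,
  nat_lit 0xb00300100b00300c,
  nat_lit 0xb00700100c00700c,
  nat_lit 0xb00100100d00100c,
  nat_lit 0xb00500300500e00500c,
  nat_lit 0xb00900700500f00900c]
noncomputable def pA8_4 : CE where
  p0 := 0
  F := (Nat.sub (Nat.shiftLeft 1 2) 1)
  masks := [pA8_4_m0, pA8_4_m1, pA8_4_m2, pA8_4_m3, pA8_4_m4, pA8_4_m5]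
  gprog := [5]
  cprog := []
  sids := [0, 1, 2, 3, 4]
  t0 := pA8_4_t
  s := 12
  progs := [pA8_4_p0]
  O := (Nat.sub (Nat.shiftLeft 1 2) 1)
  yids := [0, 1, 2, 3, 4, 5]
theorem pA8_4_chk : ∃ progs, CE.check { pA8_4 with progs := progs } pA8_4_nets (imOf [0, 1, 2, 3, 4, 5]) pA8_4_rels [[8], [0], [2], [4], [6]] [[8], [0], [2], [4], [6], [10]] = true :=
  ⟨pA8_4.progs, by decide +kernel⟩
theorem pA8_4_idx {Γ : Type*} [Group Γ] {g : ℕ → Γ} (hi : InvOk g (imOf [0, 1, 2, 3, 4, 5])) (hr : ∀ r ∈ pA8_4_rels, ev g r = 1)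
    {H : Subgroup Γ} (hs : ∀ u ∈ ([[8], [0], [2], [4], [6]] : List (List ℕ)), ev g u ∈ H) :
    H.relIndex (gen g [[8], [0], [2], [4], [6], [10]]) ≠ 0 ∧ H.relIndex (gen g [[8], [0], [2], [4], [6], [10]]) ≤ 2 :=
  Reach.relIndex_le pA8_4_model hi hr hs pA8_4_chk (by decide +kernel)

def pA8_5_nets_n5_0 : ℕ := (nat_lit 0x2)
def pA8_5_nets_n6_0 : ℕ := (nat_lit 0x1)
def pA8_5_nets_n6_1 : ℕ := (nat_lit 0x1)
def pA8_5_nets_n5 : Net :=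
  (Net.cons pA8_5_nets_n5_0 (nat_lit 1) Net.nil)
def pA8_5_nets_n6 : Net :=
  (Net.cons pA8_5_nets_n6_0 (nat_lit 1) (Net.cons pA8_5_nets_n6_1 (nat_lit 2) Net.nil))
def pA8_5_nets : List Net := [Net.nil, Net.nil, Net.nil, Net.nil, Net.nil, pA8_5_nets_n5, pA8_5_nets_n6, Net.nil, Net.nil]
def pA8_5_rels : List (List ℕ) := [[8, 0, 8, 0],
  [8, 2, 8, 2],
  [8, 4, 8, 4],
  [8, 6, 8, 6],
  [0, 2, 0, 2],
  [4, 6, 4, 6],
  [0, 4, 0, 4],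
  [2, 6, 2, 6],
  [0, 6, 0, 6, 8],
  [2, 4, 2, 4, 8],
  [12, 12, 12],
  [12, 0, 13, 2],
  [12, 2, 13, 0, 2],
  [12, 4, 13, 6],
  [12, 6, 13, 4, 6],
  [12, 8, 13, 8],
  [10, 12, 10, 12],
  [10, 0, 10, 0],
  [10, 4, 10, 4],
  [10, 8, 10, 8],
  [10, 2, 10, 0, 2],
  [10, 6, 10, 4, 6]]
theorem pA8_5_nets_ok : allL (Net.ok 3) pA8_5_nets = true := by decide +kernel
theorem pA8_5_rel_s0 : relsAt pA8_5_nets 3 2 (List.range' 0 2) (sqW [0, 1, 2, 3, 4, 5] ++ pA8_5_rels) = true := by decide +kernel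
theorem pA8_5_rel : ∀ w ∈ (sqW [0, 1, 2, 3, 4, 5] ++ pA8_5_rels), ev (netGen pA8_5_nets) w = 1 :=
  SlicesOk.rel (K := 2) ((SlicesOk.zero _ _ _ _).step 2 pA8_5_rel_s0)
    pA8_5_nets_ok (by norm_num)
theorem pA8_5_model : Model 3 pA8_5_nets (imOf [0, 1, 2, 3, 4, 5]) pA8_5_rels := Model.of_rel pA8_5_nets_ok pA8_5_rel
def pA8_5_t : Tr := (Tr.node (Tr.node (Tr.node (Tr.node Tr.leaf [13] 0 0 0 Tr.leaf) [6] 0 0 0 Tr.leaf) [2] 0 0 0 (Tr.node Tr.leaf [10] 0 0 0 Tr.leaf)) [0] 0 0 0 (Tr.node (Tr.node Tr.leaf [8] 0 0 0 Tr.leaf) [4] 0 0 0 (Tr.node Tr.leaf [12] 0 0 0 Tr.leaf)))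
def pA8_5_m0 : ℕ := (nat_lit 0)
def pA8_5_m1 : ℕ := (nat_lit 0)
def pA8_5_m2 : ℕ := (nat_lit 0)
def pA8_5_m3 : ℕ := (nat_lit 0)
def pA8_5_m4 : ℕ := (nat_lit 0)
def pA8_5_m5 : ℕ := (nat_lit 0)
def pA8_5_m6 : ℕ := (nat_lit 0x4)
def pA8_5_m7 : ℕ := (nat_lit 0x2)
def pA8_5_p0 : List ℕ := [nat_lit 0x101700d00f,
  nat_lit 0xd00100b00d00d,
  nat_lit 0xd00300400c00100e,
  nat_lit 0xd00700400e00500e,
  nat_lit 0xd00900401000900e,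
  nat_lit 0xe00c00201100b00e,
  nat_lit 0x101700b00b,
  nat_lit 0xe00100100c00300d,
  nat_lit 0xd00300100500d00300e,
  nat_lit 0xe00500100e00700d,
  nat_lit 0xd00700500500f00700e,
  nat_lit 0xe00900101000900d,
  nat_lit 0xb00100101200100c,
  nat_lit 0xb00500101300500c]
noncomputable def pA8_5 : CE where
  p0 := 0
  F := (Nat.sub (Nat.shiftLeft 1 3) 1)
  masks := [pA8_5_m0, pA8_5_m1, pA8_5_m2, pA8_5_m3, pA8_5_m4, pA8_5_m5, pA8_5_m6, pA8_5_m7]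
  gprog := [6, 7]
  cprog := []
  sids := [4, 0, 1, 2, 3, 5]
  t0 := pA8_5_t
  s := 12
  progs := [pA8_5_p0]
  O := (Nat.sub (Nat.shiftLeft 1 3) 1)
  yids := [0, 1, 2, 3, 4, 5, 6]
theorem pA8_5_chk : ∃ progs, CE.check { pA8_5 with progs := progs } pA8_5_nets (imOf [0, 1, 2, 3, 4, 5]) pA8_5_rels [[8], [0], [2], [4], [6], [10]] [[0], [2], [4], [6], [8], [10], [12]] = true :=
  ⟨pA8_5.progs, by decide +kernel⟩
theorem pA8_5_idx {Γ : Type*} [Group Γ] {g : ℕ → Γ} (hi : InvOk g (imOf [0, 1, 2, 3, 4, 5])) (hr : ∀ r ∈ pA8_5_rels, ev g r = 1)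
    {H : Subgroup Γ} (hs : ∀ u ∈ ([[8], [0], [2], [4], [6], [10]] : List (List ℕ)), ev g u ∈ H) :
    H.relIndex (gen g [[0], [2], [4], [6], [8], [10], [12]]) ≠ 0 ∧ H.relIndex (gen g [[0], [2], [4], [6], [8], [10], [12]]) ≤ 3 :=
  Reach.relIndex_le pA8_5_model hi hr hs pA8_5_chk (by decide +kernel)

def pA8_6_nets_n2_0 : ℕ := (nat_lit 0x28)
def pA8_6_nets_n3_0 : ℕ := (nat_lit 0xa)
def pA8_6_nets_n5_0 : ℕ := (nat_lit 0x18)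
def pA8_6_nets_n6_0 : ℕ := (nat_lit 0x6)
def pA8_6_nets_n6_1 : ℕ := (nat_lit 0x6)
def pA8_6_nets_n7_0 : ℕ := (nat_lit 0x9)
def pA8_6_nets_n7_1 : ℕ := (nat_lit 0x9)
def pA8_6_nets_n2 : Net :=
  (Net.cons pA8_6_nets_n2_0 (nat_lit 1) Net.nil)
def pA8_6_nets_n3 : Net :=
  (Net.cons pA8_6_nets_n3_0 (nat_lit 1) Net.nil)
def pA8_6_nets_n5 : Net :=
  (Net.cons pA8_6_nets_n5_0 (nat_lit 2) Net.nil)
def pA8_6_nets_n6 : Net :=
  (Net.cons pA8_6_nets_n6_0 (nat_lit 2) (Net.cons pA8_6_nets_n6_1 (nat_lit 4) Net.nil))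
def pA8_6_nets_n7 : Net :=
  (Net.cons pA8_6_nets_n7_0 (nat_lit 1) (Net.cons pA8_6_nets_n7_1 (nat_lit 2) Net.nil))
def pA8_6_nets : List Net := [Net.nil, Net.nil, pA8_6_nets_n2, pA8_6_nets_n3, Net.nil, pA8_6_nets_n5, pA8_6_nets_n6, pA8_6_nets_n7, Net.nil]
def pA8_6_rels : List (List ℕ) := [[8, 0, 8, 0],
  [8, 2, 8, 2],
  [8, 4, 8, 4],
  [8, 6, 8, 6],
  [0, 2, 0, 2],
  [4, 6, 4, 6],
  [0, 4, 0, 4],
  [2, 6, 2, 6],
  [0, 6, 0, 6, 8],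
  [2, 4, 2, 4, 8],
  [12, 12, 12],
  [12, 0, 13, 2],
  [12, 2, 13, 0, 2],
  [12, 4, 13, 6],
  [12, 6, 13, 4, 6],
  [12, 8, 13, 8],
  [10, 12, 10, 12],
  [10, 0, 10, 0],
  [10, 4, 10, 4],
  [10, 8, 10, 8],
  [10, 2, 10, 0, 2],
  [10, 6, 10, 4, 6],
  [14, 14, 14],
  [14, 2, 15, 2],
  [6, 14, 6, 14],
  [14, 8, 15, 0],
  [14, 0, 15, 8, 0],
  [14, 4, 15, 10],
  [14, 10, 15, 10, 4],
  [6, 15, 10, 13, 6, 15, 10, 13, 6, 15, 10, 13]]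
theorem pA8_6_nets_ok : allL (Net.ok 7) pA8_6_nets = true := by decide +kernel
theorem pA8_6_rel_s0 : relsAt pA8_6_nets 7 3 (List.range' 0 3) (sqW [0, 1, 2, 3, 4, 5] ++ pA8_6_rels) = true := by decide +kernel
theorem pA8_6_rel : ∀ w ∈ (sqW [0, 1, 2, 3, 4, 5] ++ pA8_6_rels), ev (netGen pA8_6_nets) w = 1 :=
  SlicesOk.rel (K := 3) ((SlicesOk.zero _ _ _ _).step 3 pA8_6_rel_s0)
    pA8_6_nets_ok (by norm_num)
theorem pA8_6_model : Model 7 pA8_6_nets (imOf [0, 1, 2, 3, 4, 5]) pA8_6_rels := Model.of_rel pA8_6_nets_ok pA8_6_rel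
def pA8_6_t : Tr := (Tr.node (Tr.node (Tr.node (Tr.node Tr.leaf [14] 0 0 0 Tr.leaf) [6] 0 0 0 Tr.leaf) [2] 0 0 0 (Tr.node (Tr.node Tr.leaf [15] 0 0 0 Tr.leaf) [10] 0 0 0 Tr.leaf)) [0] 0 0 0 (Tr.node (Tr.node (Tr.node Tr.leaf [13] 0 0 0 Tr.leaf) [8] 0 0 0 Tr.leaf) [4] 0 0 0 (Tr.node Tr.leaf [12] 0 0 0 Tr.leaf)))
def pA8_6_m0 : ℕ := (nat_lit 0)
def pA8_6_m1 : ℕ := (nat_lit 0)
def pA8_6_m2 : ℕ := (nat_lit 0)
def pA8_6_m3 : ℕ := (nat_lit 0)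
def pA8_6_m4 : ℕ := (nat_lit 0)
def pA8_6_m5 : ℕ := (nat_lit 0)
def pA8_6_m6 : ℕ := (nat_lit 0x60)
def pA8_6_m7 : ℕ := (nat_lit 0x4)
def pA8_6_m8 : ℕ := (nat_lit 0x18)
def pA8_6_m9 : ℕ := (nat_lit 0x2)
def pA8_6_p0 : List ℕ := [nat_lit 0x101f00d011,
  nat_lit 0x101f00f013,
  nat_lit 0xd00100b00d00d,
  nat_lit 0xf00101700f00f,
  nat_lit 0xf003004018003010,
  nat_lit 0xf00100401a009010,
  nat_lit 0x10008002019007010,
  nat_lit 0x101f007007,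
  nat_lit 0xf00b00401c005010,
  nat_lit 0x1000300101800300f,
  nat_lit 0x1000900101a00100f,
  nat_lit 0xf00900100401b001010,
  nat_lit 0x1000500101c00b00f,
  nat_lit 0xf00b00500401d00b010,
  nat_lit 0xd00300400c00100e,
  nat_lit 0xd00700400e00500e,
  nat_lit 0xe00c00201100b00e,
  nat_lit 0x101f00b00b,
  nat_lit 0xe00100100c00300d,
  nat_lit 0xd00300100500d00300e,
  nat_lit 0x7009002004009008,
  nat_lit 0x7005002006005008,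
  nat_lit 0xd00900401000900e,
  nat_lit 0xe00900101000900d,
  nat_lit 0xe00500100e00700d,
  nat_lit 0xd00700500500f00700e,
  nat_lit 0xb00100101200100c,
  nat_lit 0xb00500101300500c,
  nat_lit 0xb00d00700f00b00d00700f00b00d00401e00f008,
  nat_lit 0xc01000301c00f006,
  nat_lit 0xb00501000601d00f00c]
noncomputable def pA8_6 : CE where
  p0 := 0
  F := (Nat.sub (Nat.shiftLeft 1 7) 1)
  masks := [pA8_6_m0, pA8_6_m1, pA8_6_m2, pA8_6_m3, pA8_6_m4, pA8_6_m5, pA8_6_m6, pA8_6_m7, pA8_6_m8, pA8_6_m9]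
  gprog := [7, 8, 9, 6, 8]
  cprog := []
  sids := [0, 1, 2, 3, 4, 5, 6]
  t0 := pA8_6_t
  s := 12
  progs := [pA8_6_p0]
  O := (Nat.sub (Nat.shiftLeft 1 7) 1)
  yids := [0, 1, 2, 3, 4, 5, 6, 7]
theorem pA8_6_chk : ∃ progs, CE.check { pA8_6 with progs := progs } pA8_6_nets (imOf [0, 1, 2, 3, 4, 5]) pA8_6_rels [[0], [2], [4], [6], [8], [10], [12]] [[0], [2], [4], [6], [8], [10], [12], [14]] = true :=
  ⟨pA8_6.progs, by decide +kernel⟩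
theorem pA8_6_idx {Γ : Type*} [Group Γ] {g : ℕ → Γ} (hi : InvOk g (imOf [0, 1, 2, 3, 4, 5])) (hr : ∀ r ∈ pA8_6_rels, ev g r = 1)
    {H : Subgroup Γ} (hs : ∀ u ∈ ([[0], [2], [4], [6], [8], [10], [12]] : List (List ℕ)), ev g u ∈ H) :
    H.relIndex (gen g [[0], [2], [4], [6], [8], [10], [12], [14]]) ≠ 0 ∧ H.relIndex (gen g [[0], [2], [4], [6], [8], [10], [12], [14]]) ≤ 7 :=
  Reach.relIndex_le pA8_6_model hi hr hs pA8_6_chk (by decide +kernel)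

def pA8_7_nets_n0_0 : ℕ := (nat_lit 0x2a8)
def pA8_7_nets_n1_0 : ℕ := (nat_lit 0x88a)
def pA8_7_nets_n2_0 : ℕ := (nat_lit 0x1980)
def pA8_7_nets_n3_0 : ℕ := (nat_lit 0x780)
def pA8_7_nets_n4_0 : ℕ := (nat_lit 0x2a80)
def pA8_7_nets_n5_0 : ℕ := (nat_lit 0x198)
def pA8_7_nets_n6_0 : ℕ := (nat_lit 0x186)
def pA8_7_nets_n6_1 : ℕ := (nat_lit 0x186)
def pA8_7_nets_n7_0 : ℕ := (nat_lit 0x78)
def pA8_7_nets_n7_1 : ℕ := (nat_lit 0x78)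
def pA8_7_nets_n8_0 : ℕ := (nat_lit 0x889)
def pA8_7_nets_n8_1 : ℕ := (nat_lit 0x889)
def pA8_7_nets_n0 : Net :=
  (Net.cons pA8_7_nets_n0_0 (nat_lit 1) Net.nil)
def pA8_7_nets_n1 : Net :=
  (Net.cons pA8_7_nets_n1_0 (nat_lit 1) Net.nil)
def pA8_7_nets_n2 : Net :=
  (Net.cons pA8_7_nets_n2_0 (nat_lit 2) Net.nil)
def pA8_7_nets_n3 : Net :=
  (Net.cons pA8_7_nets_n3_0 (nat_lit 4) Net.nil)
def pA8_7_nets_n4 : Net :=
  (Net.cons pA8_7_nets_n4_0 (nat_lit 1) Net.nil)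
def pA8_7_nets_n5 : Net :=
  (Net.cons pA8_7_nets_n5_0 (nat_lit 2) Net.nil)
def pA8_7_nets_n6 : Net :=
  (Net.cons pA8_7_nets_n6_0 (nat_lit 2) (Net.cons pA8_7_nets_n6_1 (nat_lit 4) Net.nil))
def pA8_7_nets_n7 : Net :=
  (Net.cons pA8_7_nets_n7_0 (nat_lit 4) (Net.cons pA8_7_nets_n7_1 (nat_lit 8) Net.nil))
def pA8_7_nets_n8 : Net :=
  (Net.cons pA8_7_nets_n8_0 (nat_lit 1) (Net.cons pA8_7_nets_n8_1 (nat_lit 2) Net.nil))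
def pA8_7_nets : List Net := [pA8_7_nets_n0, pA8_7_nets_n1, pA8_7_nets_n2, pA8_7_nets_n3, pA8_7_nets_n4, pA8_7_nets_n5, pA8_7_nets_n6, pA8_7_nets_n7, pA8_7_nets_n8]
def pA8_7_rels : List (List ℕ) := [[8, 0, 8, 0],
  [8, 2, 8, 2],
  [8, 4, 8, 4],
  [8, 6, 8, 6],
  [0, 2, 0, 2],
  [4, 6, 4, 6],
  [0, 4, 0, 4],
  [2, 6, 2, 6],
  [0, 6, 0, 6, 8],
  [2, 4, 2, 4, 8],
  [12, 12, 12],
  [12, 0, 13, 2],
  [12, 2, 13, 0, 2],
  [12, 4, 13, 6],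
  [12, 6, 13, 4, 6],
  [12, 8, 13, 8],
  [10, 12, 10, 12],
  [10, 0, 10, 0],
  [10, 4, 10, 4],
  [10, 8, 10, 8],
  [10, 2, 10, 0, 2],
  [10, 6, 10, 4, 6],
  [14, 14, 14],
  [14, 2, 15, 2],
  [6, 14, 6, 14],
  [14, 8, 15, 0],
  [14, 0, 15, 8, 0],
  [14, 4, 15, 10],
  [14, 10, 15, 10, 4],
  [16, 16, 16],
  [16, 6, 17, 6],
  [2, 16, 2, 16],
  [16, 8, 17, 4],
  [16, 4, 17, 8, 4],
  [16, 0, 17, 10],
  [16, 10, 17, 10, 0],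
  [14, 16, 15, 17],
  [6, 15, 10, 13, 6, 15, 10, 13, 6, 15, 10, 13],
  [2, 17, 10, 13, 2, 17, 10, 13, 2, 17, 10, 13]]
theorem pA8_7_nets_ok : allL (Net.ok 15) pA8_7_nets = true := by decide +kernel
theorem pA8_7_rel_s0 : relsAt pA8_7_nets 15 4 (List.range' 0 4) (sqW [0, 1, 2, 3, 4, 5] ++ pA8_7_rels) = true := by decide +kernel
theorem pA8_7_rel : ∀ w ∈ (sqW [0, 1, 2, 3, 4, 5] ++ pA8_7_rels), ev (netGen pA8_7_nets) w = 1 :=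
  SlicesOk.rel (K := 4) ((SlicesOk.zero _ _ _ _).step 4 pA8_7_rel_s0)
    pA8_7_nets_ok (by norm_num)
theorem pA8_7_model : Model 15 pA8_7_nets (imOf [0, 1, 2, 3, 4, 5]) pA8_7_rels := Model.of_rel pA8_7_nets_ok pA8_7_rel
def pA8_7_t : Tr := (Tr.node (Tr.node (Tr.node (Tr.node Tr.leaf [14] 0 0 0 Tr.leaf) [6] 0 0 0 (Tr.node Tr.leaf [17] 0 0 0 Tr.leaf)) [2] 0 0 0 (Tr.node (Tr.node Tr.leaf [13] 0 0 0 Tr.leaf) [10] 0 0 0 Tr.leaf)) [0] 0 0 0 (Tr.node (Tr.node (Tr.node Tr.leaf [16] 0 0 0 Tr.leaf) [8] 0 0 0 Tr.leaf) [4] 0 0 0 (Tr.node (Tr.node Tr.leaf [15] 0 0 0 Tr.leaf) [12] 0 0 0 Tr.leaf)))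
def pA8_7_m0 : ℕ := (nat_lit 0)
def pA8_7_m1 : ℕ := (nat_lit 0)
def pA8_7_m2 : ℕ := (nat_lit 0)
def pA8_7_m3 : ℕ := (nat_lit 0)
def pA8_7_m4 : ℕ := (nat_lit 0)
def pA8_7_m5 : ℕ := (nat_lit 0)
def pA8_7_m6 : ℕ := (nat_lit 0x60)
def pA8_7_m7 : ℕ := (nat_lit 0x7800)
def pA8_7_m8 : ℕ := (nat_lit 0x4)
def pA8_7_m9 : ℕ := (nat_lit 0x18)
def pA8_7_m10 : ℕ := (nat_lit 0x780)
def pA8_7_m11 : ℕ := (nat_lit 0x2)
def pA8_7_p0 : List ℕ := [nat_lit 0x102800d013,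
  nat_lit 0x102800f015,
  nat_lit 0x1028011017,
  nat_lit 0xf00101700f00f,
  nat_lit 0xd00100b00d00d,
  nat_lit 0x1100101e011011,
  nat_lit 0x1100700401f007012,
  nat_lit 0x12004002020003012,
  nat_lit 0x1028003003,
  nat_lit 0x11005004021009012,
  nat_lit 0x1100b004023001012,
  nat_lit 0x1101000602500f012,
  nat_lit 0x1200700101f007011,
  nat_lit 0x12009001021005011,
  nat_lit 0x1200100102300b011,
  nat_lit 0x1201000302500f011,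
  nat_lit 0x11009005004022005012,
  nat_lit 0x1100b00100402400b012,
  nat_lit 0xe00c00201100b00e,
  nat_lit 0x102800b00b,
  nat_lit 0xd00300400c00100e,
  nat_lit 0xd00700400e00500e,
  nat_lit 0xe00500100e00700d,
  nat_lit 0xd00700500500f00700e,
  nat_lit 0x3001002005001004,
  nat_lit 0x3009002002009004,
  nat_lit 0xd00900401000900e,
  nat_lit 0xe00100100c00300d,
  nat_lit 0xe00900101000900d,
  nat_lit 0xd00300100500d00300e,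
  nat_lit 0xf003004018003010,
  nat_lit 0x10008002019007010,
  nat_lit 0x1028007007,
  nat_lit 0xf00b00401c005010,
  nat_lit 0x1000300101800300f,
  nat_lit 0x1000900101a00100f,
  nat_lit 0xb00100101200100c,
  nat_lit 0xb00500101300500c,
  nat_lit 0xf00100401a009010,
  nat_lit 0x1000500101c00b00f,
  nat_lit 0xf00b00500401d00b010,
  nat_lit 0xf00900100401b001010,
  nat_lit 0x7009002004009008,
  nat_lit 0x7005002006005008,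
  nat_lit 0x700f00b00d00700f00b00d00700f00802600d00c,
  nat_lit 0xb00d00301100b00d00301100b00d004027011004,
  nat_lit 0x800e00300e00d006,
  nat_lit 0x700500e00300f00d008,
  nat_lit 0xc012003023011002,
  nat_lit 0xf012005025011010,
  nat_lit 0xb00101200602401100c,
  nat_lit 0x1001200802501100f]
noncomputable def pA8_7 : CE where
  p0 := 0
  F := (Nat.sub (Nat.shiftLeft 1 15) 1)
  masks := [pA8_7_m0, pA8_7_m1, pA8_7_m2, pA8_7_m3, pA8_7_m4, pA8_7_m5, pA8_7_m6, pA8_7_m7, pA8_7_m8, pA8_7_m9, pA8_7_m10, pA8_7_m11]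
  gprog := [8, 9, 10, 11, 6, 7, 9, 10, 7]
  cprog := []
  sids := [0, 1, 2, 3, 4, 5, 6, 7]
  t0 := pA8_7_t
  s := 12
  progs := [pA8_7_p0]
  O := (Nat.sub (Nat.shiftLeft 1 15) 1)
  yids := [0, 1, 2, 3, 4, 5, 6, 7, 8]
theorem pA8_7_chk : ∃ progs, CE.check { pA8_7 with progs := progs } pA8_7_nets (imOf [0, 1, 2, 3, 4, 5]) pA8_7_rels [[0], [2], [4], [6], [8], [10], [12], [14]] [[0], [2], [4], [6], [8], [10], [12], [14], [16]] = true :=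
  ⟨pA8_7.progs, by decide +kernel⟩
theorem pA8_7_idx {Γ : Type*} [Group Γ] {g : ℕ → Γ} (hi : InvOk g (imOf [0, 1, 2, 3, 4, 5])) (hr : ∀ r ∈ pA8_7_rels, ev g r = 1)
    {H : Subgroup Γ} (hs : ∀ u ∈ ([[0], [2], [4], [6], [8], [10], [12], [14]] : List (List ℕ)), ev g u ∈ H) :
    H.relIndex (gen g [[0], [2], [4], [6], [8], [10], [12], [14], [16]]) ≠ 0 ∧ H.relIndex (gen g [[0], [2], [4], [6], [8], [10], [12], [14], [16]]) ≤ 15 :=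
  Reach.relIndex_le pA8_7_model hi hr hs pA8_7_chk (by decide +kernel)

theorem pA8_pres : CfsgLib.W2.Pres [0, 1, 2, 3, 4, 5] pA8_rels [[0], [2], [4], [6], [8], [10], [12], [14], [16]] 20160 := fun {_} _ {g} hi hr =>
  (Bound.of_idx (n := 15) (m := 1344) (Bound.of_idx (n := 7) (m := 192) (Bound.of_idx (n := 3) (m := 64) (Bound.of_idx (n := 2) (m := 32) (Bound.of_idx (n := 4) (m := 8) (Bound.of_idx (n := 4) (m := 2) (Bound.of_idx (n := 2) (m := 1) (bound_nil g)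
    (pA8_1_idx hi (conseq_sound hi hr (hs := []) (by decide +kernel))))
    (pA8_2_idx hi (conseq_sound hi hr (hs := [1, 1025, 4097]) (by decide +kernel))))
    (pA8_3_idx hi (conseq_sound hi hr (hs := [1, 1025, 2049, 3073, 4097, 5121, 6145, 7169, 8193, 9217]) (by decide +kernel))))
    (pA8_4_idx hi (conseq_sound hi hr (hs := [1, 1025, 2049, 3073, 4097, 5121, 6145, 7169, 8193, 9217, 17409, 18433, 19457, 20481, 21505]) (by decide +kernel))))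
    (pA8_5_idx hi (conseq_sound hi hr (hs := [1, 1025, 2049, 3073, 4097, 5121, 6145, 7169, 8193, 9217, 10241, 11265, 12289, 13313, 14337, 15361, 16385, 17409, 18433, 19457, 20481, 21505]) (by decide +kernel))))
    (pA8_6_idx hi (conseq_sound hi hr (hs := [1, 1025, 2049, 3073, 4097, 5121, 6145, 7169, 8193, 9217, 10241, 11265, 12289, 13313, 14337, 15361, 16385, 17409, 18433, 19457, 20481, 21505, 22529, 23553, 24577, 25601, 26625, 27649, 28673, 37889]) (by decide +kernel))))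
    (pA8_7_idx hi (conseq_sound hi hr (hs := [1, 1025, 2049, 3073, 4097, 5121, 6145, 7169, 8193, 9217, 10241, 11265, 12289, 13313, 14337, 15361, 16385, 17409, 18433, 19457, 20481, 21505, 22529, 23553, 24577, 25601, 26625, 27649, 28673, 29697, 30721, 31745, 32769, 33793, 34817, 35841, 36865, 37889, 38913]) (by decide +kernel))))

/-- generators a b c d z t x y w s; relators (za)^2 (zb)^2 (zc)^2 (zd)^2 (ab)^2 (cd)^2 (ac)^2 (bd)^2 (ad)^2z (bc)^2z xxx xax^-1b xbx^-1ab xcx^-1d xdx^-1cd xzx^-1z (tx)^2 (ta)^2 (tc)^2 (tz)^2 tbtab tdtcd yyy yby^-1b (dy)^2 yzy^-1a yay^-1za ycy^-1t yty^-1tc www wdw^-1d (bw)^2 wzw^-1c wcw^-1zc waw^-1t wtw^-1ta ywy^-1w^-1 (dy^-1tx^-1)^3 (bw^-1tx^-1)^3 sss (y^-1ws)^2 (w^-1yacs)^2 saczs^-1zca stzs^-1zt syws^-1w^-1y^-1 (ayx^-1yw^-1zxy^-1s)^2 -/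
def pA9_rels : List (List ℕ) := [[8, 0, 8, 0],
  [8, 2, 8, 2],
  [8, 4, 8, 4],
  [8, 6, 8, 6],
  [0, 2, 0, 2],
  [4, 6, 4, 6],
  [0, 4, 0, 4],
  [2, 6, 2, 6],
  [0, 6, 0, 6, 8],
  [2, 4, 2, 4, 8],
  [12, 12, 12],
  [12, 0, 13, 2],
  [12, 2, 13, 0, 2],
  [12, 4, 13, 6],
  [12, 6, 13, 4, 6],
  [12, 8, 13, 8],
  [10, 12, 10, 12],
  [10, 0, 10, 0],
  [10, 4, 10, 4],
  [10, 8, 10, 8],
  [10, 2, 10, 0, 2],
  [10, 6, 10, 4, 6],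
  [14, 14, 14],
  [14, 2, 15, 2],
  [6, 14, 6, 14],
  [14, 8, 15, 0],
  [14, 0, 15, 8, 0],
  [14, 4, 15, 10],
  [14, 10, 15, 10, 4],
  [16, 16, 16],
  [16, 6, 17, 6],
  [2, 16, 2, 16],
  [16, 8, 17, 4],
  [16, 4, 17, 8, 4],
  [16, 0, 17, 10],
  [16, 10, 17, 10, 0],
  [14, 16, 15, 17],
  [6, 15, 10, 13, 6, 15, 10, 13, 6, 15, 10, 13],
  [2, 17, 10, 13, 2, 17, 10, 13, 2, 17, 10, 13],
  [18, 18, 18],
  [15, 16, 18, 15, 16, 18],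
  [17, 14, 0, 4, 18, 17, 14, 0, 4, 18],
  [18, 0, 4, 8, 19, 8, 4, 0],
  [18, 10, 8, 19, 8, 10],
  [18, 14, 16, 19, 17, 15],
  [0, 14, 13, 14, 17, 8, 12, 15, 18, 0, 14, 13, 14, 17, 8, 12, 15, 18]]

def pA9_1_nets_n4_0 : ℕ := (nat_lit 0x1)
def pA9_1_nets_n4 : Net :=
  (Net.cons pA9_1_nets_n4_0 (nat_lit 1) Net.nil)
def pA9_1_nets : List Net := [Net.nil, Net.nil, Net.nil, Net.nil, pA9_1_nets_n4, Net.nil, Net.nil, Net.nil, Net.nil, Net.nil]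
def pA9_1_rels : List (List ℕ) := []
theorem pA9_1_nets_ok : allL (Net.ok 2) pA9_1_nets = true := by decide +kernel
theorem pA9_1_rel_s0 : relsAt pA9_1_nets 2 1 (List.range' 0 1) (sqW [0, 1, 2, 3, 4, 5] ++ pA9_1_rels) = true := by decide +kernel
theorem pA9_1_rel : ∀ w ∈ (sqW [0, 1, 2, 3, 4, 5] ++ pA9_1_rels), ev (netGen pA9_1_nets) w = 1 :=
  SlicesOk.rel (K := 1) ((SlicesOk.zero _ _ _ _).step 1 pA9_1_rel_s0)
    pA9_1_nets_ok (by norm_num)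
theorem pA9_1_model : Model 2 pA9_1_nets (imOf [0, 1, 2, 3, 4, 5]) pA9_1_rels := Model.of_rel pA9_1_nets_ok pA9_1_rel
def pA9_1_t : Tr := (Tr.node Tr.leaf [8] 0 0 0 Tr.leaf)
def pA9_1_m0 : ℕ := (nat_lit 0x2)
def pA9_1_p0 : List ℕ := [nat_lit 0x1001001001]
noncomputable def pA9_1 : CE where
  p0 := 0
  F := (Nat.sub (Nat.shiftLeft 1 2) 1)
  masks := [pA9_1_m0]
  gprog := [0]
  cprog := []
  sids := []
  t0 := pA9_1_t
  s := 12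
  progs := [pA9_1_p0]
  O := (Nat.sub (Nat.shiftLeft 1 2) 1)
  yids := [0]
theorem pA9_1_chk : ∃ progs, CE.check { pA9_1 with progs := progs } pA9_1_nets (imOf [0, 1, 2, 3, 4, 5]) pA9_1_rels [] [[8]] = true :=
  ⟨pA9_1.progs, by decide +kernel⟩
theorem pA9_1_idx {Γ : Type*} [Group Γ] {g : ℕ → Γ} (hi : InvOk g (imOf [0, 1, 2, 3, 4, 5])) (hr : ∀ r ∈ pA9_1_rels, ev g r = 1)
    {H : Subgroup Γ} (hs : ∀ u ∈ ([] : List (List ℕ)), ev g u ∈ H) :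
    H.relIndex (gen g [[8]]) ≠ 0 ∧ H.relIndex (gen g [[8]]) ≤ 2 :=
  Reach.relIndex_le pA9_1_model hi hr hs pA9_1_chk (by decide +kernel)

def pA9_2_nets_n0_0 : ℕ := (nat_lit 0x5)
def pA9_2_nets_n1_0 : ℕ := (nat_lit 0x3)
def pA9_2_nets_n0 : Net :=
  (Net.cons pA9_2_nets_n0_0 (nat_lit 1) Net.nil)
def pA9_2_nets_n1 : Net :=
  (Net.cons pA9_2_nets_n1_0 (nat_lit 2) Net.nil)
def pA9_2_nets : List Net := [pA9_2_nets_n0, pA9_2_nets_n1, Net.nil, Net.nil, Net.nil, Net.nil, Net.nil, Net.nil, Net.nil, Net.nil]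
def pA9_2_rels : List (List ℕ) := [[8, 0, 8, 0],
  [8, 2, 8, 2],
  [0, 2, 0, 2]]
theorem pA9_2_nets_ok : allL (Net.ok 4) pA9_2_nets = true := by decide +kernel
theorem pA9_2_rel_s0 : relsAt pA9_2_nets 4 2 (List.range' 0 2) (sqW [0, 1, 2, 3, 4, 5] ++ pA9_2_rels) = true := by decide +kernel
theorem pA9_2_rel : ∀ w ∈ (sqW [0, 1, 2, 3, 4, 5] ++ pA9_2_rels), ev (netGen pA9_2_nets) w = 1 :=
  SlicesOk.rel (K := 2) ((SlicesOk.zero _ _ _ _).step 2 pA9_2_rel_s0)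
    pA9_2_nets_ok (by norm_num)
theorem pA9_2_model : Model 4 pA9_2_nets (imOf [0, 1, 2, 3, 4, 5]) pA9_2_rels := Model.of_rel pA9_2_nets_ok pA9_2_rel
def pA9_2_t : Tr := (Tr.node (Tr.node Tr.leaf [0] 0 0 0 Tr.leaf) [8] 0 0 0 (Tr.node Tr.leaf [2] 0 0 0 Tr.leaf))
def pA9_2_m0 : ℕ := (nat_lit 0)
def pA9_2_m1 : ℕ := (nat_lit 0x2)
def pA9_2_m2 : ℕ := (nat_lit 0xc)
def pA9_2_p0 : List ℕ := [nat_lit 0x1004003003,
  nat_lit 0x1004005005,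
  nat_lit 0x5003002003003006,
  nat_lit 0x3001002001001004,
  nat_lit 0x5001002002001006]
noncomputable def pA9_2 : CE where
  p0 := 0
  F := (Nat.sub (Nat.shiftLeft 1 4) 1)
  masks := [pA9_2_m0, pA9_2_m1, pA9_2_m2]
  gprog := [1, 2]
  cprog := []
  sids := [0]
  t0 := pA9_2_t
  s := 12
  progs := [pA9_2_p0]
  O := (Nat.sub (Nat.shiftLeft 1 4) 1)
  yids := [0, 1, 2]
theorem pA9_2_chk : ∃ progs, CE.check { pA9_2 with progs := progs } pA9_2_nets (imOf [0, 1, 2, 3, 4, 5]) pA9_2_rels [[8]] [[8], [0], [2]] = true :=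
  ⟨pA9_2.progs, by decide +kernel⟩
theorem pA9_2_idx {Γ : Type*} [Group Γ] {g : ℕ → Γ} (hi : InvOk g (imOf [0, 1, 2, 3, 4, 5])) (hr : ∀ r ∈ pA9_2_rels, ev g r = 1)
    {H : Subgroup Γ} (hs : ∀ u ∈ ([[8]] : List (List ℕ)), ev g u ∈ H) :
    H.relIndex (gen g [[8], [0], [2]]) ≠ 0 ∧ H.relIndex (gen g [[8], [0], [2]]) ≤ 4 :=
  Reach.relIndex_le pA9_2_model hi hr hs pA9_2_chk (by decide +kernel)

def pA9_3_nets_n2_0 : ℕ := (nat_lit 0x5)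
def pA9_3_nets_n3_0 : ℕ := (nat_lit 0x3)
def pA9_3_nets_n2 : Net :=
  (Net.cons pA9_3_nets_n2_0 (nat_lit 1) Net.nil)
def pA9_3_nets_n3 : Net :=
  (Net.cons pA9_3_nets_n3_0 (nat_lit 2) Net.nil)
def pA9_3_nets : List Net := [Net.nil, Net.nil, pA9_3_nets_n2, pA9_3_nets_n3, Net.nil, Net.nil, Net.nil, Net.nil, Net.nil, Net.nil]
def pA9_3_rels : List (List ℕ) := [[8, 0, 8, 0],
  [8, 2, 8, 2],
  [8, 4, 8, 4],
  [8, 6, 8, 6],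
  [0, 2, 0, 2],
  [4, 6, 4, 6],
  [0, 4, 0, 4],
  [2, 6, 2, 6],
  [0, 6, 0, 6, 8],
  [2, 4, 2, 4, 8]]
theorem pA9_3_nets_ok : allL (Net.ok 4) pA9_3_nets = true := by decide +kernel
theorem pA9_3_rel_s0 : relsAt pA9_3_nets 4 2 (List.range' 0 2) (sqW [0, 1, 2, 3, 4, 5] ++ pA9_3_rels) = true := by decide +kernel
theorem pA9_3_rel : ∀ w ∈ (sqW [0, 1, 2, 3, 4, 5] ++ pA9_3_rels), ev (netGen pA9_3_nets) w = 1 :=
  SlicesOk.rel (K := 2) ((SlicesOk.zero _ _ _ _).step 2 pA9_3_rel_s0)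
    pA9_3_nets_ok (by norm_num)
theorem pA9_3_model : Model 4 pA9_3_nets (imOf [0, 1, 2, 3, 4, 5]) pA9_3_rels := Model.of_rel pA9_3_nets_ok pA9_3_rel
def pA9_3_t : Tr := (Tr.node (Tr.node (Tr.node Tr.leaf [4] 0 0 0 Tr.leaf) [0] 0 0 0 Tr.leaf) [8] 0 0 0 (Tr.node (Tr.node Tr.leaf [6] 0 0 0 Tr.leaf) [2] 0 0 0 Tr.leaf))
def pA9_3_m0 : ℕ := (nat_lit 0)
def pA9_3_m1 : ℕ := (nat_lit 0)
def pA9_3_m2 : ℕ := (nat_lit 0)
def pA9_3_m3 : ℕ := (nat_lit 0x2)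
def pA9_3_m4 : ℕ := (nat_lit 0xc)
def pA9_3_p0 : List ℕ := [nat_lit 0x100b007007,
  nat_lit 0x100b009009,
  nat_lit 0x900700200600700a,
  nat_lit 0x7001002003001008,
  nat_lit 0x900100200400100a,
  nat_lit 0x7003002007003008,
  nat_lit 0x900500200800500a,
  nat_lit 0x900300100700900300a,
  nat_lit 0x700500100700a005008]
noncomputable def pA9_3 : CE where
  p0 := 0
  F := (Nat.sub (Nat.shiftLeft 1 4) 1)
  masks := [pA9_3_m0, pA9_3_m1, pA9_3_m2, pA9_3_m3, pA9_3_m4]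
  gprog := [3, 4]
  cprog := []
  sids := [0, 1, 2]
  t0 := pA9_3_t
  s := 12
  progs := [pA9_3_p0]
  O := (Nat.sub (Nat.shiftLeft 1 4) 1)
  yids := [0, 1, 2, 3, 4]
theorem pA9_3_chk : ∃ progs, CE.check { pA9_3 with progs := progs } pA9_3_nets (imOf [0, 1, 2, 3, 4, 5]) pA9_3_rels [[8], [0], [2]] [[8], [0], [2], [4], [6]] = true :=
  ⟨pA9_3.progs, by decide +kernel⟩
theorem pA9_3_idx {Γ : Type*} [Group Γ] {g : ℕ → Γ} (hi : InvOk g (imOf [0, 1, 2, 3, 4, 5])) (hr : ∀ r ∈ pA9_3_rels, ev g r = 1)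
    {H : Subgroup Γ} (hs : ∀ u ∈ ([[8], [0], [2]] : List (List ℕ)), ev g u ∈ H) :
    H.relIndex (gen g [[8], [0], [2], [4], [6]]) ≠ 0 ∧ H.relIndex (gen g [[8], [0], [2], [4], [6]]) ≤ 4 :=
  Reach.relIndex_le pA9_3_model hi hr hs pA9_3_chk (by decide +kernel)

def pA9_4_nets_n5_0 : ℕ := (nat_lit 0x1)
def pA9_4_nets_n5 : Net :=
  (Net.cons pA9_4_nets_n5_0 (nat_lit 1) Net.nil)
def pA9_4_nets : List Net := [Net.nil, Net.nil, Net.nil, Net.nil, Net.nil, pA9_4_nets_n5, Net.nil, Net.nil, Net.nil, Net.nil]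
def pA9_4_rels : List (List ℕ) := [[8, 0, 8, 0],
  [8, 2, 8, 2],
  [8, 4, 8, 4],
  [8, 6, 8, 6],
  [0, 2, 0, 2],
  [4, 6, 4, 6],
  [0, 4, 0, 4],
  [2, 6, 2, 6],
  [0, 6, 0, 6, 8],
  [2, 4, 2, 4, 8],
  [10, 0, 10, 0],
  [10, 4, 10, 4],
  [10, 8, 10, 8],
  [10, 2, 10, 0, 2],
  [10, 6, 10, 4, 6]]
theorem pA9_4_nets_ok : allL (Net.ok 2) pA9_4_nets = true := by decide +kernel
theorem pA9_4_rel_s0 : relsAt pA9_4_nets 2 1 (List.range' 0 1) (sqW [0, 1, 2, 3, 4, 5] ++ pA9_4_rels) = true := by decide +kernel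
theorem pA9_4_rel : ∀ w ∈ (sqW [0, 1, 2, 3, 4, 5] ++ pA9_4_rels), ev (netGen pA9_4_nets) w = 1 :=
  SlicesOk.rel (K := 1) ((SlicesOk.zero _ _ _ _).step 1 pA9_4_rel_s0)
    pA9_4_nets_ok (by norm_num)
theorem pA9_4_model : Model 2 pA9_4_nets (imOf [0, 1, 2, 3, 4, 5]) pA9_4_rels := Model.of_rel pA9_4_nets_ok pA9_4_rel
def pA9_4_t : Tr := (Tr.node (Tr.node (Tr.node Tr.leaf [4] 0 0 0 Tr.leaf) [0] 0 0 0 (Tr.node Tr.leaf [10] 0 0 0 Tr.leaf)) [8] 0 0 0 (Tr.node (Tr.node Tr.leaf [6] 0 0 0 Tr.leaf) [2] 0 0 0 Tr.leaf))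
def pA9_4_m0 : ℕ := (nat_lit 0)
def pA9_4_m1 : ℕ := (nat_lit 0)
def pA9_4_m2 : ℕ := (nat_lit 0)
def pA9_4_m3 : ℕ := (nat_lit 0)
def pA9_4_m4 : ℕ := (nat_lit 0)
def pA9_4_m5 : ℕ := (nat_lit 0x2)
def pA9_4_p0 : List ℕ := [nat_lit 0x101000b00b,
  nat_lit 0xb00300100b00300c,
  nat_lit 0xb00700100c00700c,
  nat_lit 0xb00100100d00100c,
  nat_lit 0xb00500300500e00500c,
  nat_lit 0xb00900700500f00900c]
noncomputable def pA9_4 : CE where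
  p0 := 0
  F := (Nat.sub (Nat.shiftLeft 1 2) 1)
  masks := [pA9_4_m0, pA9_4_m1, pA9_4_m2, pA9_4_m3, pA9_4_m4, pA9_4_m5]
  gprog := [5]
  cprog := []
  sids := [0, 1, 2, 3, 4]
  t0 := pA9_4_t
  s := 12
  progs := [pA9_4_p0]
  O := (Nat.sub (Nat.shiftLeft 1 2) 1)
  yids := [0, 1, 2, 3, 4, 5]
theorem pA9_4_chk : ∃ progs, CE.check { pA9_4 with progs := progs } pA9_4_nets (imOf [0, 1, 2, 3, 4, 5]) pA9_4_rels [[8], [0], [2], [4], [6]] [[8], [0], [2], [4], [6], [10]] = true :=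
  ⟨pA9_4.progs, by decide +kernel⟩
theorem pA9_4_idx {Γ : Type*} [Group Γ] {g : ℕ → Γ} (hi : InvOk g (imOf [0, 1, 2, 3, 4, 5])) (hr : ∀ r ∈ pA9_4_rels, ev g r = 1)
    {H : Subgroup Γ} (hs : ∀ u ∈ ([[8], [0], [2], [4], [6]] : List (List ℕ)), ev g u ∈ H) :
    H.relIndex (gen g [[8], [0], [2], [4], [6], [10]]) ≠ 0 ∧ H.relIndex (gen g [[8], [0], [2], [4], [6], [10]]) ≤ 2 :=
  Reach.relIndex_le pA9_4_model hi hr hs pA9_4_chk (by decide +kernel)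

def pA9_5_nets_n5_0 : ℕ := (nat_lit 0x2)
def pA9_5_nets_n6_0 : ℕ := (nat_lit 0x1)
def pA9_5_nets_n6_1 : ℕ := (nat_lit 0x1)
def pA9_5_nets_n5 : Net :=
  (Net.cons pA9_5_nets_n5_0 (nat_lit 1) Net.nil)
def pA9_5_nets_n6 : Net :=
  (Net.cons pA9_5_nets_n6_0 (nat_lit 1) (Net.cons pA9_5_nets_n6_1 (nat_lit 2) Net.nil))
def pA9_5_nets : List Net := [Net.nil, Net.nil, Net.nil, Net.nil, Net.nil, pA9_5_nets_n5, pA9_5_nets_n6, Net.nil, Net.nil, Net.nil]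
def pA9_5_rels : List (List ℕ) := [[8, 0, 8, 0],
  [8, 2, 8, 2],
  [8, 4, 8, 4],
  [8, 6, 8, 6],
  [0, 2, 0, 2],
  [4, 6, 4, 6],
  [0, 4, 0, 4],
  [2, 6, 2, 6],
  [0, 6, 0, 6, 8],
  [2, 4, 2, 4, 8],
  [12, 12, 12],
  [12, 0, 13, 2],
  [12, 2, 13, 0, 2],
  [12, 4, 13, 6],
  [12, 6, 13, 4, 6],
  [12, 8, 13, 8],
  [10, 12, 10, 12],
  [10, 0, 10, 0],
  [10, 4, 10, 4],
  [10, 8, 10, 8],
  [10, 2, 10, 0, 2],
  [10, 6, 10, 4, 6]]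
theorem pA9_5_nets_ok : allL (Net.ok 3) pA9_5_nets = true := by decide +kernel
theorem pA9_5_rel_s0 : relsAt pA9_5_nets 3 2 (List.range' 0 2) (sqW [0, 1, 2, 3, 4, 5] ++ pA9_5_rels) = true := by decide +kernel
theorem pA9_5_rel : ∀ w ∈ (sqW [0, 1, 2, 3, 4, 5] ++ pA9_5_rels), ev (netGen pA9_5_nets) w = 1 :=
  SlicesOk.rel (K := 2) ((SlicesOk.zero _ _ _ _).step 2 pA9_5_rel_s0)
    pA9_5_nets_ok (by norm_num)
theorem pA9_5_model : Model 3 pA9_5_nets (imOf [0, 1, 2, 3, 4, 5]) pA9_5_rels := Model.of_rel pA9_5_nets_ok pA9_5_rel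
def pA9_5_t : Tr := (Tr.node (Tr.node (Tr.node (Tr.node Tr.leaf [13] 0 0 0 Tr.leaf) [6] 0 0 0 Tr.leaf) [2] 0 0 0 (Tr.node Tr.leaf [10] 0 0 0 Tr.leaf)) [0] 0 0 0 (Tr.node (Tr.node Tr.leaf [8] 0 0 0 Tr.leaf) [4] 0 0 0 (Tr.node Tr.leaf [12] 0 0 0 Tr.leaf)))
def pA9_5_m0 : ℕ := (nat_lit 0)
def pA9_5_m1 : ℕ := (nat_lit 0)
def pA9_5_m2 : ℕ := (nat_lit 0)
def pA9_5_m3 : ℕ := (nat_lit 0)
def pA9_5_m4 : ℕ := (nat_lit 0)
def pA9_5_m5 : ℕ := (nat_lit 0)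
def pA9_5_m6 : ℕ := (nat_lit 0x4)
def pA9_5_m7 : ℕ := (nat_lit 0x2)
def pA9_5_p0 : List ℕ := [nat_lit 0x101700d00f,
  nat_lit 0xd00100b00d00d,
  nat_lit 0xd00300400c00100e,
  nat_lit 0xd00700400e00500e,
  nat_lit 0xd00900401000900e,
  nat_lit 0xe00c00201100b00e,
  nat_lit 0x101700b00b,
  nat_lit 0xe00100100c00300d,
  nat_lit 0xd00300100500d00300e,
  nat_lit 0xe00500100e00700d,
  nat_lit 0xd00700500500f00700e,
  nat_lit 0xe00900101000900d,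
  nat_lit 0xb00100101200100c,
  nat_lit 0xb00500101300500c]
noncomputable def pA9_5 : CE where
  p0 := 0
  F := (Nat.sub (Nat.shiftLeft 1 3) 1)
  masks := [pA9_5_m0, pA9_5_m1, pA9_5_m2, pA9_5_m3, pA9_5_m4, pA9_5_m5, pA9_5_m6, pA9_5_m7]
  gprog := [6, 7]
  cprog := []
  sids := [4, 0, 1, 2, 3, 5]
  t0 := pA9_5_t
  s := 12
  progs := [pA9_5_p0]
  O := (Nat.sub (Nat.shiftLeft 1 3) 1)
  yids := [0, 1, 2, 3, 4, 5, 6]
theorem pA9_5_chk : ∃ progs, CE.check { pA9_5 with progs := progs } pA9_5_nets (imOf [0, 1, 2, 3, 4, 5]) pA9_5_rels [[8], [0], [2], [4], [6], [10]] [[0], [2], [4], [6], [8], [10], [12]] = true :=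
  ⟨pA9_5.progs, by decide +kernel⟩
theorem pA9_5_idx {Γ : Type*} [Group Γ] {g : ℕ → Γ} (hi : InvOk g (imOf [0, 1, 2, 3, 4, 5])) (hr : ∀ r ∈ pA9_5_rels, ev g r = 1)
    {H : Subgroup Γ} (hs : ∀ u ∈ ([[8], [0], [2], [4], [6], [10]] : List (List ℕ)), ev g u ∈ H) :
    H.relIndex (gen g [[0], [2], [4], [6], [8], [10], [12]]) ≠ 0 ∧ H.relIndex (gen g [[0], [2], [4], [6], [8], [10], [12]]) ≤ 3 :=
  Reach.relIndex_le pA9_5_model hi hr hs pA9_5_chk (by decide +kernel)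

def pA9_6_nets_n2_0 : ℕ := (nat_lit 0x28)
def pA9_6_nets_n3_0 : ℕ := (nat_lit 0xa)
def pA9_6_nets_n5_0 : ℕ := (nat_lit 0x18)
def pA9_6_nets_n6_0 : ℕ := (nat_lit 0x6)
def pA9_6_nets_n6_1 : ℕ := (nat_lit 0x6)
def pA9_6_nets_n7_0 : ℕ := (nat_lit 0x9)
def pA9_6_nets_n7_1 : ℕ := (nat_lit 0x9)
def pA9_6_nets_n2 : Net :=
  (Net.cons pA9_6_nets_n2_0 (nat_lit 1) Net.nil)
def pA9_6_nets_n3 : Net :=
  (Net.cons pA9_6_nets_n3_0 (nat_lit 1) Net.nil)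
def pA9_6_nets_n5 : Net :=
  (Net.cons pA9_6_nets_n5_0 (nat_lit 2) Net.nil)
def pA9_6_nets_n6 : Net :=
  (Net.cons pA9_6_nets_n6_0 (nat_lit 2) (Net.cons pA9_6_nets_n6_1 (nat_lit 4) Net.nil))
def pA9_6_nets_n7 : Net :=
  (Net.cons pA9_6_nets_n7_0 (nat_lit 1) (Net.cons pA9_6_nets_n7_1 (nat_lit 2) Net.nil))
def pA9_6_nets : List Net := [Net.nil, Net.nil, pA9_6_nets_n2, pA9_6_nets_n3, Net.nil, pA9_6_nets_n5, pA9_6_nets_n6, pA9_6_nets_n7, Net.nil, Net.nil]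
def pA9_6_rels : List (List ℕ) := [[8, 0, 8, 0],
  [8, 2, 8, 2],
  [8, 4, 8, 4],
  [8, 6, 8, 6],
  [0, 2, 0, 2],
  [4, 6, 4, 6],
  [0, 4, 0, 4],
  [2, 6, 2, 6],
  [0, 6, 0, 6, 8],
  [2, 4, 2, 4, 8],
  [12, 12, 12],
  [12, 0, 13, 2],
  [12, 2, 13, 0, 2],
  [12, 4, 13, 6],
  [12, 6, 13, 4, 6],
  [12, 8, 13, 8],
  [10, 12, 10, 12],
  [10, 0, 10, 0],
  [10, 4, 10, 4],
  [10, 8, 10, 8],
  [10, 2, 10, 0, 2],
  [10, 6, 10, 4, 6],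
  [14, 14, 14],
  [14, 2, 15, 2],
  [6, 14, 6, 14],
  [14, 8, 15, 0],
  [14, 0, 15, 8, 0],
  [14, 4, 15, 10],
  [14, 10, 15, 10, 4],
  [6, 15, 10, 13, 6, 15, 10, 13, 6, 15, 10, 13]]
theorem pA9_6_nets_ok : allL (Net.ok 7) pA9_6_nets = true := by decide +kernel
theorem pA9_6_rel_s0 : relsAt pA9_6_nets 7 3 (List.range' 0 3) (sqW [0, 1, 2, 3, 4, 5] ++ pA9_6_rels) = true := by decide +kernel
theorem pA9_6_rel : ∀ w ∈ (sqW [0, 1, 2, 3, 4, 5] ++ pA9_6_rels), ev (netGen pA9_6_nets) w = 1 :=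
  SlicesOk.rel (K := 3) ((SlicesOk.zero _ _ _ _).step 3 pA9_6_rel_s0)
    pA9_6_nets_ok (by norm_num)
theorem pA9_6_model : Model 7 pA9_6_nets (imOf [0, 1, 2, 3, 4, 5]) pA9_6_rels := Model.of_rel pA9_6_nets_ok pA9_6_rel
def pA9_6_t : Tr := (Tr.node (Tr.node (Tr.node (Tr.node Tr.leaf [14] 0 0 0 Tr.leaf) [6] 0 0 0 Tr.leaf) [2] 0 0 0 (Tr.node (Tr.node Tr.leaf [15] 0 0 0 Tr.leaf) [10] 0 0 0 Tr.leaf)) [0] 0 0 0 (Tr.node (Tr.node (Tr.node Tr.leaf [13] 0 0 0 Tr.leaf) [8] 0 0 0 Tr.leaf) [4] 0 0 0 (Tr.node Tr.leaf [12] 0 0 0 Tr.leaf)))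
def pA9_6_m0 : ℕ := (nat_lit 0)
def pA9_6_m1 : ℕ := (nat_lit 0)
def pA9_6_m2 : ℕ := (nat_lit 0)
def pA9_6_m3 : ℕ := (nat_lit 0)
def pA9_6_m4 : ℕ := (nat_lit 0)
def pA9_6_m5 : ℕ := (nat_lit 0)
def pA9_6_m6 : ℕ := (nat_lit 0x60)
def pA9_6_m7 : ℕ := (nat_lit 0x4)
def pA9_6_m8 : ℕ := (nat_lit 0x18)
def pA9_6_m9 : ℕ := (nat_lit 0x2)
def pA9_6_p0 : List ℕ := [nat_lit 0x101f00d011,
  nat_lit 0x101f00f013,
  nat_lit 0xd00100b00d00d,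
  nat_lit 0xf00101700f00f,
  nat_lit 0xf003004018003010,
  nat_lit 0xf00100401a009010,
  nat_lit 0x10008002019007010,
  nat_lit 0x101f007007,
  nat_lit 0xf00b00401c005010,
  nat_lit 0x1000300101800300f,
  nat_lit 0x1000900101a00100f,
  nat_lit 0xf00900100401b001010,
  nat_lit 0x1000500101c00b00f,
  nat_lit 0xf00b00500401d00b010,
  nat_lit 0xd00300400c00100e,
  nat_lit 0xd00700400e00500e,
  nat_lit 0xe00c00201100b00e,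
  nat_lit 0x101f00b00b,
  nat_lit 0xe00100100c00300d,
  nat_lit 0xd00300100500d00300e,
  nat_lit 0x7009002004009008,
  nat_lit 0x7005002006005008,
  nat_lit 0xd00900401000900e,
  nat_lit 0xe00900101000900d,
  nat_lit 0xe00500100e00700d,
  nat_lit 0xd00700500500f00700e,
  nat_lit 0xb00100101200100c,
  nat_lit 0xb00500101300500c,
  nat_lit 0xb00d00700f00b00d00700f00b00d00401e00f008,
  nat_lit 0xc01000301c00f006,
  nat_lit 0xb00501000601d00f00c]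
noncomputable def pA9_6 : CE where
  p0 := 0
  F := (Nat.sub (Nat.shiftLeft 1 7) 1)
  masks := [pA9_6_m0, pA9_6_m1, pA9_6_m2, pA9_6_m3, pA9_6_m4, pA9_6_m5, pA9_6_m6, pA9_6_m7, pA9_6_m8, pA9_6_m9]
  gprog := [7, 8, 9, 6, 8]
  cprog := []
  sids := [0, 1, 2, 3, 4, 5, 6]
  t0 := pA9_6_t
  s := 12
  progs := [pA9_6_p0]
  O := (Nat.sub (Nat.shiftLeft 1 7) 1)
  yids := [0, 1, 2, 3, 4, 5, 6, 7]
theorem pA9_6_chk : ∃ progs, CE.check { pA9_6 with progs := progs } pA9_6_nets (imOf [0, 1, 2, 3, 4, 5]) pA9_6_rels [[0], [2], [4], [6], [8], [10], [12]] [[0], [2], [4], [6], [8], [10], [12], [14]] = true :=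
  ⟨pA9_6.progs, by decide +kernel⟩
theorem pA9_6_idx {Γ : Type*} [Group Γ] {g : ℕ → Γ} (hi : InvOk g (imOf [0, 1, 2, 3, 4, 5])) (hr : ∀ r ∈ pA9_6_rels, ev g r = 1)
    {H : Subgroup Γ} (hs : ∀ u ∈ ([[0], [2], [4], [6], [8], [10], [12]] : List (List ℕ)), ev g u ∈ H) :
    H.relIndex (gen g [[0], [2], [4], [6], [8], [10], [12], [14]]) ≠ 0 ∧ H.relIndex (gen g [[0], [2], [4], [6], [8], [10], [12], [14]]) ≤ 7 :=
  Reach.relIndex_le pA9_6_model hi hr hs pA9_6_chk (by decide +kernel)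

def pA9_7_nets_n0_0 : ℕ := (nat_lit 0x2a8)
def pA9_7_nets_n1_0 : ℕ := (nat_lit 0x88a)
def pA9_7_nets_n2_0 : ℕ := (nat_lit 0x1980)
def pA9_7_nets_n3_0 : ℕ := (nat_lit 0x780)
def pA9_7_nets_n4_0 : ℕ := (nat_lit 0x2a80)
def pA9_7_nets_n5_0 : ℕ := (nat_lit 0x198)
def pA9_7_nets_n6_0 : ℕ := (nat_lit 0x186)
def pA9_7_nets_n6_1 : ℕ := (nat_lit 0x186)
def pA9_7_nets_n7_0 : ℕ := (nat_lit 0x78)
def pA9_7_nets_n7_1 : ℕ := (nat_lit 0x78)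
def pA9_7_nets_n8_0 : ℕ := (nat_lit 0x889)
def pA9_7_nets_n8_1 : ℕ := (nat_lit 0x889)
def pA9_7_nets_n0 : Net :=
  (Net.cons pA9_7_nets_n0_0 (nat_lit 1) Net.nil)
def pA9_7_nets_n1 : Net :=
  (Net.cons pA9_7_nets_n1_0 (nat_lit 1) Net.nil)
def pA9_7_nets_n2 : Net :=
  (Net.cons pA9_7_nets_n2_0 (nat_lit 2) Net.nil)
def pA9_7_nets_n3 : Net :=
  (Net.cons pA9_7_nets_n3_0 (nat_lit 4) Net.nil)
def pA9_7_nets_n4 : Net :=
  (Net.cons pA9_7_nets_n4_0 (nat_lit 1) Net.nil)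
def pA9_7_nets_n5 : Net :=
  (Net.cons pA9_7_nets_n5_0 (nat_lit 2) Net.nil)
def pA9_7_nets_n6 : Net :=
  (Net.cons pA9_7_nets_n6_0 (nat_lit 2) (Net.cons pA9_7_nets_n6_1 (nat_lit 4) Net.nil))
def pA9_7_nets_n7 : Net :=
  (Net.cons pA9_7_nets_n7_0 (nat_lit 4) (Net.cons pA9_7_nets_n7_1 (nat_lit 8) Net.nil))
def pA9_7_nets_n8 : Net :=
  (Net.cons pA9_7_nets_n8_0 (nat_lit 1) (Net.cons pA9_7_nets_n8_1 (nat_lit 2) Net.nil))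
def pA9_7_nets : List Net := [pA9_7_nets_n0, pA9_7_nets_n1, pA9_7_nets_n2, pA9_7_nets_n3, pA9_7_nets_n4, pA9_7_nets_n5, pA9_7_nets_n6, pA9_7_nets_n7, pA9_7_nets_n8, Net.nil]
def pA9_7_rels : List (List ℕ) := [[8, 0, 8, 0],
  [8, 2, 8, 2],
  [8, 4, 8, 4],
  [8, 6, 8, 6],
  [0, 2, 0, 2],
  [4, 6, 4, 6],
  [0, 4, 0, 4],
  [2, 6, 2, 6],
  [0, 6, 0, 6, 8],
  [2, 4, 2, 4, 8],
  [12, 12, 12],
  [12, 0, 13, 2],
  [12, 2, 13, 0, 2],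
  [12, 4, 13, 6],
  [12, 6, 13, 4, 6],
  [12, 8, 13, 8],
  [10, 12, 10, 12],
  [10, 0, 10, 0],
  [10, 4, 10, 4],
  [10, 8, 10, 8],
  [10, 2, 10, 0, 2],
  [10, 6, 10, 4, 6],
  [14, 14, 14],
  [14, 2, 15, 2],
  [6, 14, 6, 14],
  [14, 8, 15, 0],
  [14, 0, 15, 8, 0],
  [14, 4, 15, 10],
  [14, 10, 15, 10, 4],
  [16, 16, 16],
  [16, 6, 17, 6],
  [2, 16, 2, 16],
  [16, 8, 17, 4],
  [16, 4, 17, 8, 4],
  [16, 0, 17, 10],
  [16, 10, 17, 10, 0],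
  [14, 16, 15, 17],
  [6, 15, 10, 13, 6, 15, 10, 13, 6, 15, 10, 13],
  [2, 17, 10, 13, 2, 17, 10, 13, 2, 17, 10, 13]]
theorem pA9_7_nets_ok : allL (Net.ok 15) pA9_7_nets = true := by decide +kernel
theorem pA9_7_rel_s0 : relsAt pA9_7_nets 15 4 (List.range' 0 4) (sqW [0, 1, 2, 3, 4, 5] ++ pA9_7_rels) = true := by decide +kernel
theorem pA9_7_rel : ∀ w ∈ (sqW [0, 1, 2, 3, 4, 5] ++ pA9_7_rels), ev (netGen pA9_7_nets) w = 1 :=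
  SlicesOk.rel (K := 4) ((SlicesOk.zero _ _ _ _).step 4 pA9_7_rel_s0)
    pA9_7_nets_ok (by norm_num)
theorem pA9_7_model : Model 15 pA9_7_nets (imOf [0, 1, 2, 3, 4, 5]) pA9_7_rels := Model.of_rel pA9_7_nets_ok pA9_7_rel
def pA9_7_t : Tr := (Tr.node (Tr.node (Tr.node (Tr.node Tr.leaf [14] 0 0 0 Tr.leaf) [6] 0 0 0 (Tr.node Tr.leaf [17] 0 0 0 Tr.leaf)) [2] 0 0 0 (Tr.node (Tr.node Tr.leaf [13] 0 0 0 Tr.leaf) [10] 0 0 0 Tr.leaf)) [0] 0 0 0 (Tr.node (Tr.node (Tr.node Tr.leaf [16] 0 0 0 Tr.leaf) [8] 0 0 0 Tr.leaf) [4] 0 0 0 (Tr.node (Tr.node Tr.leaf [15] 0 0 0 Tr.leaf) [12] 0 0 0 Tr.leaf)))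
def pA9_7_m0 : ℕ := (nat_lit 0)
def pA9_7_m1 : ℕ := (nat_lit 0)
def pA9_7_m2 : ℕ := (nat_lit 0)
def pA9_7_m3 : ℕ := (nat_lit 0)
def pA9_7_m4 : ℕ := (nat_lit 0)
def pA9_7_m5 : ℕ := (nat_lit 0)
def pA9_7_m6 : ℕ := (nat_lit 0x60)
def pA9_7_m7 : ℕ := (nat_lit 0x7800)
def pA9_7_m8 : ℕ := (nat_lit 0x4)
def pA9_7_m9 : ℕ := (nat_lit 0x18)
def pA9_7_m10 : ℕ := (nat_lit 0x780)
def pA9_7_m11 : ℕ := (nat_lit 0x2)
def pA9_7_p0 : List ℕ := [nat_lit 0x102800d013,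
  nat_lit 0x102800f015,
  nat_lit 0x1028011017,
  nat_lit 0xf00101700f00f,
  nat_lit 0xd00100b00d00d,
  nat_lit 0x1100101e011011,
  nat_lit 0x1100700401f007012,
  nat_lit 0x12004002020003012,
  nat_lit 0x1028003003,
  nat_lit 0x11005004021009012,
  nat_lit 0x1100b004023001012,
  nat_lit 0x1101000602500f012,
  nat_lit 0x1200700101f007011,
  nat_lit 0x12009001021005011,
  nat_lit 0x1200100102300b011,
  nat_lit 0x1201000302500f011,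
  nat_lit 0x11009005004022005012,
  nat_lit 0x1100b00100402400b012,
  nat_lit 0xe00c00201100b00e,
  nat_lit 0x102800b00b,
  nat_lit 0xd00300400c00100e,
  nat_lit 0xd00700400e00500e,
  nat_lit 0xe00500100e00700d,
  nat_lit 0xd00700500500f00700e,
  nat_lit 0x3001002005001004,
  nat_lit 0x3009002002009004,
  nat_lit 0xd00900401000900e,
  nat_lit 0xe00100100c00300d,
  nat_lit 0xe00900101000900d,
  nat_lit 0xd00300100500d00300e,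
  nat_lit 0xf003004018003010,
  nat_lit 0x10008002019007010,
  nat_lit 0x1028007007,
  nat_lit 0xf00b00401c005010,
  nat_lit 0x1000300101800300f,
  nat_lit 0x1000900101a00100f,
  nat_lit 0xb00100101200100c,
  nat_lit 0xb00500101300500c,
  nat_lit 0xf00100401a009010,
  nat_lit 0x1000500101c00b00f,
  nat_lit 0xf00b00500401d00b010,
  nat_lit 0xf00900100401b001010,
  nat_lit 0x7009002004009008,
  nat_lit 0x7005002006005008,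
  nat_lit 0x700f00b00d00700f00b00d00700f00802600d00c,
  nat_lit 0xb00d00301100b00d00301100b00d004027011004,
  nat_lit 0x800e00300e00d006,
  nat_lit 0x700500e00300f00d008,
  nat_lit 0xc012003023011002,
  nat_lit 0xf012005025011010,
  nat_lit 0xb00101200602401100c,
  nat_lit 0x1001200802501100f]
noncomputable def pA9_7 : CE where
  p0 := 0
  F := (Nat.sub (Nat.shiftLeft 1 15) 1)
  masks := [pA9_7_m0, pA9_7_m1, pA9_7_m2, pA9_7_m3, pA9_7_m4, pA9_7_m5, pA9_7_m6, pA9_7_m7, pA9_7_m8, pA9_7_m9, pA9_7_m10, pA9_7_m11]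
  gprog := [8, 9, 10, 11, 6, 7, 9, 10, 7]
  cprog := []
  sids := [0, 1, 2, 3, 4, 5, 6, 7]
  t0 := pA9_7_t
  s := 12
  progs := [pA9_7_p0]
  O := (Nat.sub (Nat.shiftLeft 1 15) 1)
  yids := [0, 1, 2, 3, 4, 5, 6, 7, 8]
theorem pA9_7_chk : ∃ progs, CE.check { pA9_7 with progs := progs } pA9_7_nets (imOf [0, 1, 2, 3, 4, 5]) pA9_7_rels [[0], [2], [4], [6], [8], [10], [12], [14]] [[0], [2], [4], [6], [8], [10], [12], [14], [16]] = true :=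
  ⟨pA9_7.progs, by decide +kernel⟩
theorem pA9_7_idx {Γ : Type*} [Group Γ] {g : ℕ → Γ} (hi : InvOk g (imOf [0, 1, 2, 3, 4, 5])) (hr : ∀ r ∈ pA9_7_rels, ev g r = 1)
    {H : Subgroup Γ} (hs : ∀ u ∈ ([[0], [2], [4], [6], [8], [10], [12], [14]] : List (List ℕ)), ev g u ∈ H) :
    H.relIndex (gen g [[0], [2], [4], [6], [8], [10], [12], [14], [16]]) ≠ 0 ∧ H.relIndex (gen g [[0], [2], [4], [6], [8], [10], [12], [14], [16]]) ≤ 15 :=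
  Reach.relIndex_le pA9_7_model hi hr hs pA9_7_chk (by decide +kernel)

def pA9_8_nets_n0_0 : ℕ := (nat_lit 0x66)
def pA9_8_nets_n1_0 : ℕ := (nat_lit 0x1e)
def pA9_8_nets_n1_1 : ℕ := (nat_lit 0x44)
def pA9_8_nets_n2_0 : ℕ := (nat_lit 0x66)
def pA9_8_nets_n2_1 : ℕ := (nat_lit 0xa)
def pA9_8_nets_n3_0 : ℕ := (nat_lit 0x8)
def pA9_8_nets_n3_1 : ℕ := (nat_lit 0x1e)
def pA9_8_nets_n3_2 : ℕ := (nat_lit 0x44)
def pA9_8_nets_n3_3 : ℕ := (nat_lit 0x8)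
def pA9_8_nets_n4_0 : ℕ := (nat_lit 0xa)
def pA9_8_nets_n4_1 : ℕ := (nat_lit 0x60)
def pA9_8_nets_n4_2 : ℕ := (nat_lit 0xa0)
def pA9_8_nets_n5_0 : ℕ := (nat_lit 0xaa)
def pA9_8_nets_n6_0 : ℕ := (nat_lit 0x20)
def pA9_8_nets_n6_1 : ℕ := (nat_lit 0x6)
def pA9_8_nets_n6_2 : ℕ := (nat_lit 0x40)
def pA9_8_nets_n7_0 : ℕ := (nat_lit 0x8)
def pA9_8_nets_n7_1 : ℕ := (nat_lit 0x22)
def pA9_8_nets_n7_2 : ℕ := (nat_lit 0x20)
def pA9_8_nets_n8_0 : ℕ := (nat_lit 0x22)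
def pA9_8_nets_n8_1 : ℕ := (nat_lit 0x28)
def pA9_8_nets_n9_0 : ℕ := (nat_lit 0x2)
def pA9_8_nets_n9_1 : ℕ := (nat_lit 0x1)
def pA9_8_nets_n0 : Net :=
  (Net.cons pA9_8_nets_n0_0 (nat_lit 2) Net.nil)
def pA9_8_nets_n1 : Net :=
  (Net.cons pA9_8_nets_n1_0 (nat_lit 4) (Net.cons pA9_8_nets_n1_1 (nat_lit 2) Net.nil))
def pA9_8_nets_n2 : Net :=
  (Net.cons pA9_8_nets_n2_0 (nat_lit 2) (Net.cons pA9_8_nets_n2_1 (nat_lit 1) Net.nil))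
def pA9_8_nets_n3 : Net :=
  (Net.cons pA9_8_nets_n3_0 (nat_lit 1) (Net.cons pA9_8_nets_n3_1 (nat_lit 4) (Net.cons pA9_8_nets_n3_2 (nat_lit 2) (Net.cons pA9_8_nets_n3_3 (nat_lit 1) Net.nil))))
def pA9_8_nets_n4 : Net :=
  (Net.cons pA9_8_nets_n4_0 (nat_lit 1) (Net.cons pA9_8_nets_n4_1 (nat_lit 2) (Net.cons pA9_8_nets_n4_2 (nat_lit 1) Net.nil)))
def pA9_8_nets_n5 : Net :=
  (Net.cons pA9_8_nets_n5_0 (nat_lit 1) Net.nil)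
def pA9_8_nets_n6 : Net :=
  (Net.cons pA9_8_nets_n6_0 (nat_lit 2) (Net.cons pA9_8_nets_n6_1 (nat_lit 4) (Net.cons pA9_8_nets_n6_2 (nat_lit 2) Net.nil)))
def pA9_8_nets_n7 : Net :=
  (Net.cons pA9_8_nets_n7_0 (nat_lit 1) (Net.cons pA9_8_nets_n7_1 (nat_lit 2) (Net.cons pA9_8_nets_n7_2 (nat_lit 1) Net.nil)))
def pA9_8_nets_n8 : Net :=
  (Net.cons pA9_8_nets_n8_0 (nat_lit 2) (Net.cons pA9_8_nets_n8_1 (nat_lit 1) Net.nil))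
def pA9_8_nets_n9 : Net :=
  (Net.cons pA9_8_nets_n9_0 (nat_lit 2) (Net.cons pA9_8_nets_n9_1 (nat_lit 1) Net.nil))
def pA9_8_nets : List Net := [pA9_8_nets_n0, pA9_8_nets_n1, pA9_8_nets_n2, pA9_8_nets_n3, pA9_8_nets_n4, pA9_8_nets_n5, pA9_8_nets_n6, pA9_8_nets_n7, pA9_8_nets_n8, pA9_8_nets_n9]
def pA9_8_rels : List (List ℕ) := [[8, 0, 8, 0],
  [8, 2, 8, 2],
  [8, 4, 8, 4],
  [8, 6, 8, 6],
  [0, 2, 0, 2],
  [4, 6, 4, 6],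
  [0, 4, 0, 4],
  [2, 6, 2, 6],
  [0, 6, 0, 6, 8],
  [2, 4, 2, 4, 8],
  [12, 12, 12],
  [12, 0, 13, 2],
  [12, 2, 13, 0, 2],
  [12, 4, 13, 6],
  [12, 6, 13, 4, 6],
  [12, 8, 13, 8],
  [10, 12, 10, 12],
  [10, 0, 10, 0],
  [10, 4, 10, 4],
  [10, 8, 10, 8],
  [10, 2, 10, 0, 2],
  [10, 6, 10, 4, 6],
  [14, 14, 14],
  [14, 2, 15, 2],
  [6, 14, 6, 14],
  [14, 8, 15, 0],
  [14, 0, 15, 8, 0],
  [14, 4, 15, 10],
  [14, 10, 15, 10, 4],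
  [16, 16, 16],
  [16, 6, 17, 6],
  [2, 16, 2, 16],
  [16, 8, 17, 4],
  [16, 4, 17, 8, 4],
  [16, 0, 17, 10],
  [16, 10, 17, 10, 0],
  [14, 16, 15, 17],
  [6, 15, 10, 13, 6, 15, 10, 13, 6, 15, 10, 13],
  [2, 17, 10, 13, 2, 17, 10, 13, 2, 17, 10, 13],
  [18, 18, 18],
  [15, 16, 18, 15, 16, 18],
  [17, 14, 0, 4, 18, 17, 14, 0, 4, 18],
  [18, 0, 4, 8, 19, 8, 4, 0],
  [18, 10, 8, 19, 8, 10],
  [18, 14, 16, 19, 17, 15],
  [0, 14, 13, 14, 17, 8, 12, 15, 18, 0, 14, 13, 14, 17, 8, 12, 15, 18]]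
theorem pA9_8_nets_ok : allL (Net.ok 9) pA9_8_nets = true := by decide +kernel
theorem pA9_8_rel_s0 : relsAt pA9_8_nets 9 4 (List.range' 0 4) (sqW [0, 1, 2, 3, 4, 5] ++ pA9_8_rels) = true := by decide +kernel
theorem pA9_8_rel : ∀ w ∈ (sqW [0, 1, 2, 3, 4, 5] ++ pA9_8_rels), ev (netGen pA9_8_nets) w = 1 :=
  SlicesOk.rel (K := 4) ((SlicesOk.zero _ _ _ _).step 4 pA9_8_rel_s0)
    pA9_8_nets_ok (by norm_num)
theorem pA9_8_model : Model 9 pA9_8_nets (imOf [0, 1, 2, 3, 4, 5]) pA9_8_rels := Model.of_rel pA9_8_nets_ok pA9_8_rel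
def pA9_8_t : Tr := (Tr.node (Tr.node (Tr.node (Tr.node (Tr.node (Tr.node (Tr.node Tr.leaf [15] 3 2 0 Tr.leaf) [6] 0 4 0 (Tr.node Tr.leaf [2] 1 6 0 Tr.leaf)) [13] 0 6 0 (Tr.node (Tr.node Tr.leaf [15] 14 13 0 Tr.leaf) [15] 15 6 0 (Tr.node Tr.leaf [16] 6 17 0 Tr.leaf))) [14] 0 0 0 (Tr.node (Tr.node (Tr.node Tr.leaf [4] 4 4 0 Tr.leaf) [] 17 5 0 (Tr.node Tr.leaf [] 19 17 0 Tr.leaf)) [0] 0 1 0 (Tr.node (Tr.node Tr.leaf [] 12 2 0 Tr.leaf) [0] 11 16 0 (Tr.node Tr.leaf [13] 2 0 0 Tr.leaf)))) [6] 0 0 0 (Tr.node (Tr.node (Tr.node (Tr.node Tr.leaf [4] 2 0 0 Tr.leaf) [10] 5 0 0 (Tr.node Tr.leaf [4] 17 2 0 Tr.leaf)) [15] 0 3 0 (Tr.node (Tr.node Tr.leaf [2] 14 3 0 Tr.leaf) [15] 11 8 0 (Tr.node Tr.leaf [17] 6 18 0 Tr.leaf))) [15] 0 0 0 (Tr.node (Tr.node (Tr.node Tr.leaf [6] 5 10 0 Tr.leaf) [6] 6 0 0 (Tr.node Tr.leaf [4] 13 11 0 Tr.leaf)) [16] 6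 15 0 (Tr.node (Tr.node Tr.leaf [] 7 0 0 Tr.leaf) [] 5 2 0 Tr.leaf)))) [2] 0 0 0 (Tr.node (Tr.node (Tr.node (Tr.node (Tr.node Tr.leaf [16] 3 2 0 Tr.leaf) [16] 9 13 0 (Tr.node Tr.leaf [17] 8 16 0 Tr.leaf)) [10] 6 5 0 (Tr.node (Tr.node Tr.leaf [0] 15 11 0 Tr.leaf) [] 13 8 0 (Tr.node Tr.leaf [14] 19 9 0 Tr.leaf))) [18] 0 0 0 (Tr.node (Tr.node (Tr.node Tr.leaf [6] 7 7 0 Tr.leaf) [8] 6 0 0 (Tr.node Tr.leaf [] 18 16 0 Tr.leaf)) [14] 6 13 0 (Tr.node (Tr.node Tr.leaf [] 10 9 0 Tr.leaf) [10] 18 19 0 (Tr.node Tr.leaf [] 2 6 0 Tr.leaf)))) [10] 0 0 0 (Tr.node (Tr.node (Tr.node (Tr.node Tr.leaf [] 1 0 0 Tr.leaf) [16] 0 16 0 (Tr.node Tr.leaf [4] 13 17 0 Tr.leaf)) [16] 5 11 0 (Tr.node (Tr.node Tr.leaf [] 15 3 0 Tr.leaf) [4] 9 5 0 (Tr.node Tr.leaf [15] 5 5 0 Tr.leaf))) [19] 0 0 0 (Tr.node (Tr.node (Tr.node Tr.leaf [17] 5 12 0 Tr.leaf) [2] 5 9 0 (Tr.node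 Tr.leaf [17] 5 18 0 Tr.leaf)) [6] 5 5 0 (Tr.node (Tr.node Tr.leaf [0] 6 6 0 Tr.leaf) [4] 1 0 0 Tr.leaf))))) [0] 0 0 0 (Tr.node (Tr.node (Tr.node (Tr.node (Tr.node (Tr.node Tr.leaf [17] 3 0 0 Tr.leaf) [17] 0 8 0 (Tr.node Tr.leaf [12] 1 7 0 Tr.leaf)) [14] 0 2 0 (Tr.node (Tr.node Tr.leaf [0] 14 3 0 Tr.leaf) [16] 14 6 0 (Tr.node Tr.leaf [6] 19 17 0 Tr.leaf))) [16] 0 0 0 (Tr.node (Tr.node (Tr.node Tr.leaf [2] 6 6 0 Tr.leaf) [15] 3 0 0 (Tr.node Tr.leaf [16] 17 6 0 Tr.leaf)) [2] 0 7 0 (Tr.node (Tr.node Tr.leaf [16] 2 5 0 Tr.leaf) [0] 18 16 0 (Tr.node Tr.leaf [] 16 2 0 Tr.leaf)))) [8] 0 0 0 (Tr.node (Tr.node (Tr.node (Tr.node Tr.leaf [0] 3 2 0 Tr.leaf) [2] 5 5 0 (Tr.node Tr.leaf [0] 18 18 0 Tr.leaf)) [2] 6 0 0 (Tr.node (Tr.node Tr.leaf [14] 8 14 0 Tr.leaf) [4] 5 5 0 (Tr.node Tr.leaf [12] 18 16 0 Tr.leaf))) [17] 0 0 0 (Tr.node (Tr.node (Tr.node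 Tr.leaf [13] 10 4 0 Tr.leaf) [8] 6 6 0 (Tr.node Tr.leaf [15] 11 5 0 Tr.leaf)) [13] 6 5 0 (Tr.node (Tr.node Tr.leaf [10] 7 0 0 Tr.leaf) [] 18 5 0 Tr.leaf)))) [4] 0 0 0 (Tr.node (Tr.node (Tr.node (Tr.node (Tr.node Tr.leaf [] 2 0 0 Tr.leaf) [8] 5 5 0 (Tr.node Tr.leaf [0] 5 5 0 Tr.leaf)) [15] 5 18 0 (Tr.node (Tr.node Tr.leaf [2] 13 2 0 Tr.leaf) [] 14 11 0 (Tr.node Tr.leaf [17] 18 17 0 Tr.leaf))) [13] 0 0 0 (Tr.node (Tr.node (Tr.node Tr.leaf [13] 9 7 0 Tr.leaf) [6] 6 6 0 (Tr.node Tr.leaf [] 11 18 0 Tr.leaf)) [15] 6 14 0 (Tr.node (Tr.node Tr.leaf [] 4 7 0 Tr.leaf) [13] 19 19 0 (Tr.node Tr.leaf [] 5 0 0 Tr.leaf)))) [12] 0 0 0 (Tr.node (Tr.node (Tr.node (Tr.node Tr.leaf [0] 7 0 0 Tr.leaf) [2] 19 16 0 (Tr.node Tr.leaf [4] 19 8 0 Tr.leaf)) [14] 5 17 0 (Tr.node (Tr.node Tr.leaf [6] 11 13 0 Tr.leaf) [15] 18 17 0 (Tr.node Tr.leaf [0] 2 5 0 Tr.leaf)))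 [12] 0 5 0 (Tr.node (Tr.node (Tr.node Tr.leaf [17] 12 11 0 Tr.leaf) [6] 13 14 0 (Tr.node Tr.leaf [4] 17 15 0 Tr.leaf)) [17] 6 19 0 (Tr.node (Tr.node Tr.leaf [4] 6 6 0 Tr.leaf) [16] 2 0 0 Tr.leaf))))))
def pA9_8_m0 : ℕ := (nat_lit 0)
def pA9_8_m1 : ℕ := (nat_lit 0x20)
def pA9_8_m2 : ℕ := (nat_lit 0x10)
def pA9_8_m3 : ℕ := (nat_lit 0x40)
def pA9_8_m4 : ℕ := (nat_lit 0x104)
def pA9_8_m5 : ℕ := (nat_lit 0)
def pA9_8_m6 : ℕ := (nat_lit 0x80)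
def pA9_8_m7 : ℕ := (nat_lit 0)
def pA9_8_m8 : ℕ := (nat_lit 0)
def pA9_8_m9 : ℕ := (nat_lit 0x8)
def pA9_8_m10 : ℕ := (nat_lit 0)
def pA9_8_m11 : ℕ := (nat_lit 0)
def pA9_8_m12 : ℕ := (nat_lit 0)
def pA9_8_m13 : ℕ := (nat_lit 0x2)
def pA9_8_p0 : List ℕ := [nat_lit 0x102f003003,
  nat_lit 0x102f005005,
  nat_lit 0x102f007007,
  nat_lit 0x102f009009,
  nat_lit 0x102f01301b,
  nat_lit 0x900300100200300a,
  nat_lit 0x13001028013013,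
  nat_lit 0x1300b00901400502c00b00a,
  nat_lit 0x102f00b00b,
  nat_lit 0x2f01300200600a01400702b07b00a,
  nat_lit 0x7b02f002007001006,
  nat_lit 0x102f001001,
  nat_lit 0x2700201707f022,
  nat_lit 0x2101301001200702d07d014,
  nat_lit 0x2207e008025082028,
  nat_lit 0x27081008025083080,
  nat_lit 0x1400f012014028006029086084,
  nat_lit 0x2200102f00f086,
  nat_lit 0xf01301001200702d011014,
  nat_lit 0x27002017051010,
  nat_lit 0x2100c00401c087010,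
  nat_lit 0x5201201300500100f01201300702a089087,
  nat_lit 0x2f00902208900101b08b052,
  nat_lit 0x8b00102f00102f,
  nat_lit 0x102f001001,
  nat_lit 0x100b00201200b002,
  nat_lit 0x1005001007005002,
  nat_lit 0x1009002001009002,
  nat_lit 0xb00101200602401100c,
  nat_lit 0x200a01000301b00f002,
  nat_lit 0xb012003023011002,
  nat_lit 0x101000301a00f00a,
  nat_lit 0x3011001020011004,
  nat_lit 0x301000301800f004,
  nat_lit 0x11010013011001029013010,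
  nat_lit 0x500100f01201300500100f00102a013012,
  nat_lit 0x9b00201e09d02c,
  nat_lit 0x3500201709f034,
  nat_lit 0x1f009001010059020,
  nat_lit 0x1f00c00201102301e,
  nat_lit 0x1f00100100c091020,
  nat_lit 0x1f00500100e055020,
  nat_lit 0x3f00500200608f040,
  nat_lit 0x370240040230a302c,
  nat_lit 0x3305500301905d036,
  nat_lit 0x3100200200508d004,
  nat_lit 0x9701d04000700f099090,
  nat_lit 0x31007001008093032,
  nat_lit 0xe00100100c02a020,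
  nat_lit 0x1f00600100e05700d,
  nat_lit 0xe009001010054020,
  nat_lit 0x5b01d00300700d09508d,
  nat_lit 0x3302a0040180a5022,
  nat_lit 0x3502a0010180a7028,
  nat_lit 0x3505400101a0a1028,
  nat_lit 0x3705a01f00f01400201000d01001100a00e00f01400201000802e05f020,
  nat_lit 0x35038008025061060,
  nat_lit 0x370910610010200ab0a8,
  nat_lit 0x5e06205800101f063042,
  nat_lit 0x6300102f0a909f,
  nat_lit 0xa20ab00102f0650a4,
  nat_lit 0x6500102f0670a9,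
  nat_lit 0x6500102f0ad05d,
  nat_lit 0x9e0680410050250af022,
  nat_lit 0xaf00102f0b109b,
  nat_lit 0x5b0b10010200430a5,
  nat_lit 0x440ad02b00201f0b4098,
  nat_lit 0x950b300102f0b609a,
  nat_lit 0x400b600102f0b8094,
  nat_lit 0xb700102f003031,
  nat_lit 0x102f003003,
  nat_lit 0x3001002005001004,
  nat_lit 0x300100b00301500b004,
  nat_lit 0x300900500500a005004,
  nat_lit 0x3011001020011004,
  nat_lit 0x301000301800f004,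
  nat_lit 0x1f00c00201102301e,
  nat_lit 0x1100700401f007012,
  nat_lit 0x5007001006007006,
  nat_lit 0x4100201e0c304c,
  nat_lit 0x1f00200b03901e,
  nat_lit 0x2500201706d02e,
  nat_lit 0x3302400401c0cb02e,
  nat_lit 0x1d00300400c0c501e,
  nat_lit 0x1d00900401004501e,
  nat_lit 0x1d00700400e06901e,
  nat_lit 0x1d00300100500d04901e,
  nat_lit 0x3100b0030070150b9002,
  nat_lit 0x1d00700500500f03b01e,
  nat_lit 0x102f03b03b,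
  nat_lit 0x2504500101a0c9026,
  nat_lit 0x5b04506900500a06b04a,
  nat_lit 0x3d02a00202004d04c,
  nat_lit 0x3d0540010210cd042,
  nat_lit 0xe00b00201104801e,
  nat_lit 0x2f02901f00600d0c1032,
  nat_lit 0x2b04800402306f04c,
  nat_lit 0x2d04800401c0c7022,
  nat_lit 0x2a00e00300800d0bb020,
  nat_lit 0xce06300102f0cf0cc,
  nat_lit 0x5800e00700800f0bd020,
  nat_lit 0x6002400401c0de02e,
  nat_lit 0x3d0340030250e3043,
  nat_lit 0xc306702b0010250d4026,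
  nat_lit 0x4306c0460050220d702c,
  nat_lit 0x2f0290010050bf0bc,
  nat_lit 0xcf00102f0d103d,
  nat_lit 0x700d300102f0d50ca,
  nat_lit 0xd703300201c0d9024,
  nat_lit 0xe406c00101c074026,
  nat_lit 0xde0370590020220e00be,
  nat_lit 0xd500102f071070,
  nat_lit 0xd902b0010250db026,
  nat_lit 0x3d05500101f0e10d1,
  nat_lit 0x250dc0010250e506e,
  nat_lit 0xe000201e0e70e5,
  nat_lit 0x730e70bf0c20ba01200301e04804c00102707504d,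
  nat_lit 0x7204d07500600d0e904e,
  nat_lit 0x3c03902402e0e107507302503c0390050260eb024,
  nat_lit 0x4a0ec04a00401805002e,
  nat_lit 0xc705000102f07806a,
  nat_lit 0x4f02d04f00102f07a06d,
  nat_lit 0x7700102f0ed0c6,
  nat_lit 0x7700102f0ef01d,
  nat_lit 0xee07900102f0f2072,
  nat_lit 0xf10e907a00102f0f3039,
  nat_lit 0x390f300102f0f50f0,
  nat_lit 0x1e00102f00d0f6,
  nat_lit 0x400e00300c00d002,
  nat_lit 0xe00c00201100b00e,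
  nat_lit 0x102f00b00b,
  nat_lit 0x900e00301000d00a,
  nat_lit 0x300100e00300d00d004,
  nat_lit 0x700500e00300f00d008,
  nat_lit 0xb00100101200100c,
  nat_lit 0xb00500101300500c,
  nat_lit 0xb00900101400900c,
  nat_lit 0xc012003023011002,
  nat_lit 0xc01000301c00f006,
  nat_lit 0x1003001005003002,
  nat_lit 0x5007001006007006,
  nat_lit 0xd00100b00d00d,
  nat_lit 0x1000d00901200f00e00f00101301000d00901200f00e00f00102e013002,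
  nat_lit 0xa00c01400c00802c01300a,
  nat_lit 0x900500101400100500a02b01300a]
noncomputable def pA9_8 : CE where
  p0 := 0
  F := (Nat.sub (Nat.shiftLeft 1 9) 1)
  masks := [pA9_8_m0, pA9_8_m1, pA9_8_m2, pA9_8_m3, pA9_8_m4, pA9_8_m5, pA9_8_m6, pA9_8_m7, pA9_8_m8, pA9_8_m9, pA9_8_m10, pA9_8_m11, pA9_8_m12, pA9_8_m13]
  gprog := [9, 13, 1, 2, 3, 4, 6]
  cprog := [23, 16, 19, 31, 14, 15, 24, 32, 45, 75, 21, 77, 25, 26, 27, 37, 22, 18, 30]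
  sids := [0, 1, 2, 3, 4, 5, 6, 7, 8]
  t0 := pA9_8_t
  s := 12
  progs := [pA9_8_p0]
  O := (Nat.sub (Nat.shiftLeft 1 9) 1)
  yids := [0, 1, 2, 3, 4, 5, 6, 7, 8, 9]
theorem pA9_8_chk : ∃ progs, CE.check { pA9_8 with progs := progs } pA9_8_nets (imOf [0, 1, 2, 3, 4, 5]) pA9_8_rels [[0], [2], [4], [6], [8], [10], [12], [14], [16]] [[0], [2], [4], [6], [8], [10], [12], [14], [16], [18]] = true :=
  ⟨pA9_8.progs, by decide +kernel⟩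
theorem pA9_8_idx {Γ : Type*} [Group Γ] {g : ℕ → Γ} (hi : InvOk g (imOf [0, 1, 2, 3, 4, 5])) (hr : ∀ r ∈ pA9_8_rels, ev g r = 1)
    {H : Subgroup Γ} (hs : ∀ u ∈ ([[0], [2], [4], [6], [8], [10], [12], [14], [16]] : List (List ℕ)), ev g u ∈ H) :
    H.relIndex (gen g [[0], [2], [4], [6], [8], [10], [12], [14], [16], [18]]) ≠ 0 ∧ H.relIndex (gen g [[0], [2], [4], [6], [8], [10], [12], [14], [16], [18]]) ≤ 9 :=
  Reach.relIndex_le pA9_8_model hi hr hs pA9_8_chk (by decide +kernel)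

theorem pA9_pres : CfsgLib.W2.Pres [0, 1, 2, 3, 4, 5] pA9_rels [[0], [2], [4], [6], [8], [10], [12], [14], [16], [18]] 181440 := fun {_} _ {g} hi hr =>
  (Bound.of_idx (n := 9) (m := 20160) (Bound.of_idx (n := 15) (m := 1344) (Bound.of_idx (n := 7) (m := 192) (Bound.of_idx (n := 3) (m := 64) (Bound.of_idx (n := 2) (m := 32) (Bound.of_idx (n := 4) (m := 8) (Bound.of_idx (n := 4) (m := 2) (Bound.of_idx (n := 2) (m := 1) (bound_nil g)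
    (pA9_1_idx hi (conseq_sound hi hr (hs := []) (by decide +kernel))))
    (pA9_2_idx hi (conseq_sound hi hr (hs := [1, 1025, 4097]) (by decide +kernel))))
    (pA9_3_idx hi (conseq_sound hi hr (hs := [1, 1025, 2049, 3073, 4097, 5121, 6145, 7169, 8193, 9217]) (by decide +kernel))))
    (pA9_4_idx hi (conseq_sound hi hr (hs := [1, 1025, 2049, 3073, 4097, 5121, 6145, 7169, 8193, 9217, 17409, 18433, 19457, 20481, 21505]) (by decide +kernel))))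
    (pA9_5_idx hi (conseq_sound hi hr (hs := [1, 1025, 2049, 3073, 4097, 5121, 6145, 7169, 8193, 9217, 10241, 11265, 12289, 13313, 14337, 15361, 16385, 17409, 18433, 19457, 20481, 21505]) (by decide +kernel))))
    (pA9_6_idx hi (conseq_sound hi hr (hs := [1, 1025, 2049, 3073, 4097, 5121, 6145, 7169, 8193, 9217, 10241, 11265, 12289, 13313, 14337, 15361, 16385, 17409, 18433, 19457, 20481, 21505, 22529, 23553, 24577, 25601, 26625, 27649, 28673, 37889]) (by decide +kernel))))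
    (pA9_7_idx hi (conseq_sound hi hr (hs := [1, 1025, 2049, 3073, 4097, 5121, 6145, 7169, 8193, 9217, 10241, 11265, 12289, 13313, 14337, 15361, 16385, 17409, 18433, 19457, 20481, 21505, 22529, 23553, 24577, 25601, 26625, 27649, 28673, 29697, 30721, 31745, 32769, 33793, 34817, 35841, 36865, 37889, 38913]) (by decide +kernel))))
    (pA9_8_idx hi (conseq_sound hi hr (hs := [1, 1025, 2049, 3073, 4097, 5121, 6145, 7169, 8193, 9217, 10241, 11265, 12289, 13313, 14337, 15361, 16385, 17409, 18433, 19457, 20481, 21505, 22529, 23553, 24577, 25601, 26625, 27649, 28673, 29697, 30721, 31745, 32769, 33793, 34817, 35841, 36865, 37889, 38913, 39937, 40961, 41985, 43009, 44033, 45057, 46081]) (by decide +kernel))))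

/-- generators a b c d z t x y w s; relators (za)^2 (zb)^2 (zc)^2 (zd)^2 (ab)^2 (cd)^2 (ac)^2 (bd)^2 (ad)^2z (bc)^2z xxx xax^-1b xbx^-1ab xcx^-1d xdx^-1cd xzx^-1z (tx)^2 (ta)^2 (tc)^2 (tz)^2 tbtab tdtcd yyy yby^-1b (dy)^2 yzy^-1a yay^-1za ycy^-1t yty^-1tc www wdw^-1d (bw)^2 wzw^-1c wcw^-1zc waw^-1t wtw^-1ta ywy^-1w^-1 (dy^-1tx^-1)^3 (bw^-1tx^-1)^3 sss (y^-1ws)^2 (w^-1yacs)^2 saczs^-1zca stzs^-1zt syws^-1w^-1y^-1 (ayx^-1yw^-1zxy^-1s)^2yw -/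
def cA_rels : List (List ℕ) := [[8, 0, 8, 0],
  [8, 2, 8, 2],
  [8, 4, 8, 4],
  [8, 6, 8, 6],
  [0, 2, 0, 2],
  [4, 6, 4, 6],
  [0, 4, 0, 4],
  [2, 6, 2, 6],
  [0, 6, 0, 6, 8],
  [2, 4, 2, 4, 8],
  [12, 12, 12],
  [12, 0, 13, 2],
  [12, 2, 13, 0, 2],
  [12, 4, 13, 6],
  [12, 6, 13, 4, 6],
  [12, 8, 13, 8],
  [10, 12, 10, 12],
  [10, 0, 10, 0],
  [10, 4, 10, 4],
  [10, 8, 10, 8],
  [10, 2, 10, 0, 2],
  [10, 6, 10, 4, 6],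
  [14, 14, 14],
  [14, 2, 15, 2],
  [6, 14, 6, 14],
  [14, 8, 15, 0],
  [14, 0, 15, 8, 0],
  [14, 4, 15, 10],
  [14, 10, 15, 10, 4],
  [16, 16, 16],
  [16, 6, 17, 6],
  [2, 16, 2, 16],
  [16, 8, 17, 4],
  [16, 4, 17, 8, 4],
  [16, 0, 17, 10],
  [16, 10, 17, 10, 0],
  [14, 16, 15, 17],
  [6, 15, 10, 13, 6, 15, 10, 13, 6, 15, 10, 13],
  [2, 17, 10, 13, 2, 17, 10, 13, 2, 17, 10, 13],
  [18, 18, 18],
  [15, 16, 18, 15, 16, 18],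
  [17, 14, 0, 4, 18, 17, 14, 0, 4, 18],
  [18, 0, 4, 8, 19, 8, 4, 0],
  [18, 10, 8, 19, 8, 10],
  [18, 14, 16, 19, 17, 15],
  [0, 14, 13, 14, 17, 8, 12, 15, 18, 0, 14, 13, 14, 17, 8, 12, 15, 18, 14, 16]]

def cA_s_nets : List Net := [Net.nil, Net.nil, Net.nil, Net.nil, Net.nil, Net.nil, Net.nil, Net.nil, Net.nil, Net.nil]
def cA_s_rels : List (List ℕ) := [[8, 0, 8, 0],
  [8, 2, 8, 2],
  [8, 4, 8, 4],
  [8, 6, 8, 6],
  [0, 2, 0, 2],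
  [4, 6, 4, 6],
  [0, 4, 0, 4],
  [2, 6, 2, 6],
  [0, 6, 0, 6, 8],
  [2, 4, 2, 4, 8],
  [12, 12, 12],
  [12, 0, 13, 2],
  [12, 2, 13, 0, 2],
  [12, 4, 13, 6],
  [12, 6, 13, 4, 6],
  [12, 8, 13, 8],
  [10, 12, 10, 12],
  [10, 0, 10, 0],
  [10, 4, 10, 4],
  [10, 8, 10, 8],
  [10, 2, 10, 0, 2],
  [10, 6, 10, 4, 6],
  [14, 14, 14],
  [14, 2, 15, 2],
  [6, 14, 6, 14],
  [14, 8, 15, 0],
  [14, 0, 15, 8, 0],
  [14, 4, 15, 10],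
  [14, 10, 15, 10, 4],
  [16, 16, 16],
  [16, 6, 17, 6],
  [2, 16, 2, 16],
  [16, 8, 17, 4],
  [16, 4, 17, 8, 4],
  [16, 0, 17, 10],
  [16, 10, 17, 10, 0],
  [14, 16, 15, 17],
  [6, 15, 10, 13, 6, 15, 10, 13, 6, 15, 10, 13],
  [2, 17, 10, 13, 2, 17, 10, 13, 2, 17, 10, 13],
  [18, 18, 18],
  [15, 16, 18, 15, 16, 18],
  [17, 14, 0, 4, 18, 17, 14, 0, 4, 18],
  [18, 0, 4, 8, 19, 8, 4, 0],
  [18, 10, 8, 19, 8, 10],
  [18, 14, 16, 19, 17, 15],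
  [0, 14, 13, 14, 17, 8, 12, 15, 18, 0, 14, 13, 14, 17, 8, 12, 15, 18, 14, 16]]
theorem cA_s_nets_ok : allL (Net.ok 1) cA_s_nets = true := by decide +kernel
theorem cA_s_rel : ∀ w ∈ (sqW [0, 1, 2, 3, 4, 5] ++ cA_s_rels), ev (netGen cA_s_nets) w = 1 :=
  SlicesOk.rel (K := 0) (SlicesOk.zero _ _ _ _)
    cA_s_nets_ok (by norm_num)
theorem cA_s_model : Model 1 cA_s_nets (imOf [0, 1, 2, 3, 4, 5]) cA_s_rels := Model.of_rel cA_s_nets_ok cA_s_rel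
def cA_s_t_31 : Tr := (Tr.node (Tr.node (Tr.node (Tr.node Tr.leaf [] 47 27 0 Tr.leaf) [8] 6 28 0 Tr.leaf) [] 46 32 0 (Tr.node Tr.leaf [13] 22 21 0 Tr.leaf)) [4] 2 14 0 (Tr.node (Tr.node Tr.leaf [] 41 38 0 Tr.leaf) [4] 22 27 0 (Tr.node Tr.leaf [2] 51 45 0 Tr.leaf)))
def cA_s_t_47 : Tr := (Tr.node (Tr.node (Tr.node (Tr.node Tr.leaf [12] 4 9 0 Tr.leaf) [6] 52 36 0 Tr.leaf) [6] 27 9 0 (Tr.node Tr.leaf [13] 39 34 0 Tr.leaf)) [2] 2 13 0 (Tr.node (Tr.node Tr.leaf [15] 14 7 0 Tr.leaf) [16] 11 10 0 (Tr.node Tr.leaf [15] 15 13 0 Tr.leaf)))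
def cA_s_t_39 : Tr := (Tr.node (Tr.node (Tr.node (Tr.node Tr.leaf [] 37 32 0 Tr.leaf) [15] 9 41 0 Tr.leaf) [16] 2 1 0 (Tr.node Tr.leaf [4] 29 8 0 Tr.leaf)) [16] 32 41 0 (Tr.node (Tr.node Tr.leaf [13] 19 7 0 Tr.leaf) [] 8 4 0 (Tr.node Tr.leaf [14] 37 41 0 Tr.leaf)))
def cA_s_t_55 : Tr := (Tr.node (Tr.node (Tr.node Tr.leaf [10] 15 4 0 Tr.leaf) [13] 15 45 0 (Tr.node Tr.leaf [4] 45 32 0 Tr.leaf)) [13] 7 32 0 (Tr.node (Tr.node Tr.leaf [2] 18 6 0 Tr.leaf) [14] 20 4 0 (Tr.node Tr.leaf [0] 51 27 0 Tr.leaf)))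
def cA_s_t_35 : Tr := (Tr.node (Tr.node (Tr.node (Tr.node Tr.leaf [] 35 9 0 Tr.leaf) [6] 8 34 0 Tr.leaf) [0] 7 5 0 (Tr.node Tr.leaf [10] 26 17 0 Tr.leaf)) [8] 25 15 0 (Tr.node (Tr.node Tr.leaf [13] 2 2 0 Tr.leaf) [] 50 47 0 (Tr.node Tr.leaf [6] 41 54 0 Tr.leaf)))
def cA_s_t_51 : Tr := (Tr.node (Tr.node (Tr.node (Tr.node Tr.leaf [19] 19 19 0 Tr.leaf) [] 30 22 0 Tr.leaf) [2] 8 33 0 (Tr.node Tr.leaf [12] 15 44 0 Tr.leaf)) [15] 5 2 0 (Tr.node (Tr.node Tr.leaf [16] 5 2 0 Tr.leaf) [16] 7 7 0 (Tr.node Tr.leaf [4] 21 8 0 Tr.leaf)))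
def cA_s_t_43 : Tr := (Tr.node (Tr.node (Tr.node (Tr.node Tr.leaf [] 31 19 0 Tr.leaf) [2] 53 41 0 Tr.leaf) [4] 7 2 0 (Tr.node Tr.leaf [13] 32 31 0 Tr.leaf)) [19] 0 2 0 (Tr.node (Tr.node Tr.leaf [17] 2 11 0 Tr.leaf) [10] 5 3 0 (Tr.node Tr.leaf [] 43 5 0 Tr.leaf)))
def cA_s_t_59 : Tr := (Tr.node (Tr.node (Tr.node Tr.leaf [14] 50 22 0 Tr.leaf) [15] 54 27 0 (Tr.node Tr.leaf [15] 48 47 0 Tr.leaf)) [] 25 13 0 (Tr.node (Tr.node Tr.leaf [2] 20 5 0 Tr.leaf) [18] 4 23 0 (Tr.node Tr.leaf [19] 19 56 0 Tr.leaf)))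
def cA_s_t_33 : Tr := (Tr.node (Tr.node (Tr.node (Tr.node Tr.leaf [17] 22 17 0 Tr.leaf) [4] 30 27 0 Tr.leaf) [4] 1 5 0 (Tr.node Tr.leaf [19] 24 23 0 Tr.leaf)) [13] 2 17 0 (Tr.node (Tr.node Tr.leaf [] 13 9 0 Tr.leaf) [4] 47 54 0 (Tr.node Tr.leaf [15] 17 53 0 Tr.leaf)))
def cA_s_t_49 : Tr := (Tr.node (Tr.node (Tr.node (Tr.node Tr.leaf [] 56 19 0 Tr.leaf) [2] 37 52 0 Tr.leaf) [10] 27 16 0 (Tr.node Tr.leaf [14] 9 40 0 Tr.leaf)) [8] 2 5 0 (Tr.node (Tr.node Tr.leaf [0] 14 11 0 Tr.leaf) [] 12 1 0 (Tr.node Tr.leaf [17] 15 13 0 Tr.leaf)))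
def cA_s_t_41 : Tr := (Tr.node (Tr.node (Tr.node (Tr.node Tr.leaf [] 16 2 0 Tr.leaf) [6] 16 46 0 Tr.leaf) [] 14 7 0 (Tr.node Tr.leaf [13] 30 29 0 Tr.leaf)) [14] 57 38 0 (Tr.node (Tr.node Tr.leaf [18] 4 4 0 Tr.leaf) [19] 2 1 0 (Tr.node Tr.leaf [10] 38 46 0 Tr.leaf)))
def cA_s_t_57 : Tr := (Tr.node (Tr.node (Tr.node Tr.leaf [4] 49 52 0 Tr.leaf) [16] 16 49 0 (Tr.node Tr.leaf [10] 46 39 0 Tr.leaf)) [2] 38 22 0 (Tr.node (Tr.node Tr.leaf [4] 20 19 0 Tr.leaf) [2] 21 16 0 (Tr.node Tr.leaf [0] 46 31 0 Tr.leaf)))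
def cA_s_t_37 : Tr := (Tr.node (Tr.node (Tr.node (Tr.node Tr.leaf [] 33 22 0 Tr.leaf) [14] 8 35 0 Tr.leaf) [14] 1 10 0 (Tr.node Tr.leaf [4] 28 15 0 Tr.leaf)) [0] 9 38 0 (Tr.node (Tr.node Tr.leaf [13] 4 1 0 Tr.leaf) [] 57 46 0 (Tr.node Tr.leaf [17] 32 35 0 Tr.leaf)))
def cA_s_t_53 : Tr := (Tr.node (Tr.node (Tr.node (Tr.node Tr.leaf [] 15 4 0 Tr.leaf) [] 28 19 0 Tr.leaf) [6] 38 22 0 (Tr.node Tr.leaf [8] 44 34 0 Tr.leaf)) [8] 4 19 0 (Tr.node (Tr.node Tr.leaf [13] 17 16 0 Tr.leaf) [10] 15 6 0 (Tr.node Tr.leaf [14] 26 49 0 Tr.leaf)))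
def cA_s_t_45 : Tr := (Tr.node (Tr.node (Tr.node (Tr.node Tr.leaf [14] 9 15 0 Tr.leaf) [6] 42 53 0 Tr.leaf) [6] 5 25 0 (Tr.node Tr.leaf [17] 8 37 0 Tr.leaf)) [15] 1 11 0 (Tr.node (Tr.node Tr.leaf [15] 13 4 0 Tr.leaf) [15] 11 10 0 (Tr.node Tr.leaf [6] 5 13 0 Tr.leaf)))
def cA_s_t_61 : Tr := (Tr.node (Tr.node (Tr.node Tr.leaf [13] 42 53 0 Tr.leaf) [] 34 33 0 (Tr.node Tr.leaf [4] 17 51 0 Tr.leaf)) [10] 57 42 0 (Tr.node (Tr.node Tr.leaf [17] 20 13 0 Tr.leaf) [0] 25 6 0 (Tr.node Tr.leaf [17] 38 57 0 Tr.leaf)))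
def cA_s_t_32 : Tr := (Tr.node (Tr.node (Tr.node (Tr.node Tr.leaf [15] 22 27 0 Tr.leaf) [12] 6 29 0 Tr.leaf) [] 26 5 0 (Tr.node Tr.leaf [19] 4 24 0 Tr.leaf)) [6] 2 15 0 (Tr.node (Tr.node Tr.leaf [] 36 21 0 Tr.leaf) [0] 19 15 0 (Tr.node Tr.leaf [2] 52 40 0 Tr.leaf)))
def cA_s_t_48 : Tr := (Tr.node (Tr.node (Tr.node (Tr.node Tr.leaf [12] 19 15 0 Tr.leaf) [] 40 37 0 Tr.leaf) [8] 27 17 0 (Tr.node Tr.leaf [2] 39 30 0 Tr.leaf)) [] 3 2 0 (Tr.node (Tr.node Tr.leaf [16] 14 7 0 Tr.leaf) [4] 12 11 0 (Tr.node Tr.leaf [16] 15 4 0 Tr.leaf)))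
def cA_s_t_40 : Tr := (Tr.node (Tr.node (Tr.node (Tr.node Tr.leaf [] 22 1 0 Tr.leaf) [15] 41 40 0 Tr.leaf) [0] 2 12 0 (Tr.node Tr.leaf [13] 6 30 0 Tr.leaf)) [15] 42 32 0 (Tr.node (Tr.node Tr.leaf [] 23 4 0 Tr.leaf) [0] 4 9 0 (Tr.node Tr.leaf [8] 33 44 0 Tr.leaf)))
def cA_s_t_56 : Tr := (Tr.node (Tr.node (Tr.node Tr.leaf [6] 1 4 0 Tr.leaf) [14] 16 47 0 (Tr.node Tr.leaf [13] 46 28 0 Tr.leaf)) [6] 32 17 0 (Tr.node (Tr.node Tr.leaf [0] 20 19 0 Tr.leaf) [16] 20 4 0 (Tr.node Tr.leaf [2] 26 46 0 Tr.leaf)))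
def cA_s_t_36 : Tr := (Tr.node (Tr.node (Tr.node (Tr.node Tr.leaf [] 53 22 0 Tr.leaf) [13] 34 25 0 Tr.leaf) [13] 9 8 0 (Tr.node Tr.leaf [0] 28 15 0 Tr.leaf)) [10] 32 8 0 (Tr.node (Tr.node Tr.leaf [4] 4 9 0 Tr.leaf) [] 52 26 0 (Tr.node Tr.leaf [0] 41 36 0 Tr.leaf)))
def cA_s_t_52 : Tr := (Tr.node (Tr.node (Tr.node (Tr.node Tr.leaf [] 24 4 0 Tr.leaf) [4] 38 9 0 Tr.leaf) [16] 8 36 0 (Tr.node Tr.leaf [4] 44 16 0 Tr.leaf)) [0] 13 4 0 (Tr.node (Tr.node Tr.leaf [17] 5 1 0 Tr.leaf) [4] 13 4 0 (Tr.node Tr.leaf [10] 21 45 0 Tr.leaf)))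
def cA_s_t_44 : Tr := (Tr.node (Tr.node (Tr.node (Tr.node Tr.leaf [] 45 19 0 Tr.leaf) [16] 53 27 0 Tr.leaf) [13] 4 22 0 (Tr.node Tr.leaf [13] 33 13 0 Tr.leaf)) [0] 1 3 0 (Tr.node (Tr.node Tr.leaf [15] 12 5 0 Tr.leaf) [16] 10 1 0 (Tr.node Tr.leaf [] 18 1 0 Tr.leaf)))
def cA_s_t_60 : Tr := (Tr.node (Tr.node (Tr.node Tr.leaf [14] 21 57 0 Tr.leaf) [14] 36 32 0 (Tr.node Tr.leaf [17] 50 49 0 Tr.leaf)) [14] 15 4 0 (Tr.node (Tr.node Tr.leaf [15] 20 13 0 Tr.leaf) [4] 25 6 0 (Tr.node Tr.leaf [2] 57 47 0 Tr.leaf)))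
def cA_s_t_34 : Tr := (Tr.node (Tr.node (Tr.node (Tr.node Tr.leaf [] 17 16 0 Tr.leaf) [2] 32 27 0 Tr.leaf) [8] 5 3 0 (Tr.node Tr.leaf [8] 26 16 0 Tr.leaf)) [2] 19 7 0 (Tr.node (Tr.node Tr.leaf [] 38 4 0 Tr.leaf) [16] 22 47 0 (Tr.node Tr.leaf [2] 54 42 0 Tr.leaf)))
def cA_s_t_50 : Tr := (Tr.node (Tr.node (Tr.node (Tr.node Tr.leaf [] 55 19 0 Tr.leaf) [17] 52 33 0 Tr.leaf) [8] 32 9 0 (Tr.node Tr.leaf [6] 13 43 0 Tr.leaf)) [] 11 5 0 (Tr.node (Tr.node Tr.leaf [14] 5 1 0 Tr.leaf) [15] 7 7 0 (Tr.node Tr.leaf [12] 19 46 0 Tr.leaf)))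
def cA_s_t_42 : Tr := (Tr.node (Tr.node (Tr.node (Tr.node Tr.leaf [15] 9 8 0 Tr.leaf) [17] 16 50 0 Tr.leaf) [10] 2 5 0 (Tr.node Tr.leaf [12] 7 31 0 Tr.leaf)) [] 54 48 0 (Tr.node (Tr.node Tr.leaf [] 2 1 0 Tr.leaf) [4] 7 3 0 (Tr.node Tr.leaf [] 6 4 0 Tr.leaf)))
def cA_s_t_58 : Tr := (Tr.node (Tr.node (Tr.node Tr.leaf [16] 48 26 0 Tr.leaf) [14] 17 52 0 (Tr.node Tr.leaf [15] 16 48 0 Tr.leaf)) [17] 9 42 0 (Tr.node (Tr.node Tr.leaf [8] 20 13 0 Tr.leaf) [0] 22 17 0 (Tr.node Tr.leaf [18] 19 55 0 Tr.leaf)))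
def cA_s_t_38 : Tr := (Tr.node (Tr.node (Tr.node (Tr.node Tr.leaf [] 21 9 0 Tr.leaf) [13] 38 33 0 Tr.leaf) [14] 2 11 0 (Tr.node Tr.leaf [10] 28 25 0 Tr.leaf)) [16] 17 54 0 (Tr.node (Tr.node Tr.leaf [14] 4 9 0 Tr.leaf) [] 32 15 0 (Tr.node Tr.leaf [14] 42 36 0 Tr.leaf)))
def cA_s_t_54 : Tr := (Tr.node (Tr.node (Tr.node (Tr.node Tr.leaf [] 1 0 0 Tr.leaf) [] 29 21 0 Tr.leaf) [4] 9 39 0 (Tr.node Tr.leaf [10] 45 29 0 Tr.leaf)) [14] 19 19 0 (Tr.node (Tr.node Tr.leaf [6] 4 18 0 Tr.leaf) [16] 19 19 0 (Tr.node Tr.leaf [4] 50 48 0 Tr.leaf)))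
def cA_s_t_46 : Tr := (Tr.node (Tr.node (Tr.node (Tr.node Tr.leaf [16] 9 15 0 Tr.leaf) [4] 35 42 0 Tr.leaf) [13] 27 26 0 (Tr.node Tr.leaf [17] 37 36 0 Tr.leaf)) [] 10 2 0 (Tr.node (Tr.node Tr.leaf [17] 13 4 0 Tr.leaf) [17] 11 1 0 (Tr.node Tr.leaf [2] 15 5 0 Tr.leaf)))
def cA_s_t_62 : Tr := (Tr.node (Tr.node (Tr.node Tr.leaf [] 49 22 0 Tr.leaf) [] 39 38 0 (Tr.node Tr.leaf [13] 51 46 0 Tr.leaf)) [] 27 26 0 (Tr.node (Tr.node Tr.leaf [12] 4 21 0 Tr.leaf) [12] 5 26 0 (Tr.node Tr.leaf [14] 38 21 0 Tr.leaf)))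
def cA_s_t : Tr := (Tr.node (Tr.node (Tr.node (Tr.node (Tr.node cA_s_t_31 [18] 0 1 0 cA_s_t_47) [14] 0 0 0 (Tr.node cA_s_t_39 [15] 2 1 0 cA_s_t_55)) [6] 0 0 0 (Tr.node (Tr.node cA_s_t_35 [0] 1 2 0 cA_s_t_51) [15] 0 0 0 (Tr.node cA_s_t_43 [] 48 22 0 cA_s_t_59))) [2] 0 0 0 (Tr.node (Tr.node (Tr.node cA_s_t_33 [10] 4 20 0 cA_s_t_49) [18] 0 0 0 (Tr.node cA_s_t_41 [10] 13 19 0 cA_s_t_57)) [10] 0 0 0 (Tr.node (Tr.node cA_s_t_37 [13] 5 27 0 cA_s_t_53) [19] 0 0 0 (Tr.node cA_s_t_45 [10] 7 1 0 cA_s_t_61)))) [0] 0 0 0 (Tr.node (Tr.node (Tr.node (Tr.node cA_s_t_32 [8] 1 7 0 cA_s_t_48) [16] 0 0 0 (Tr.node cA_s_t_40 [12] 2 16 0 cA_s_t_56)) [8] 0 0 0 (Tr.node (Tr.node cA_s_t_36 [2] 17 9 0 cA_s_t_52) [17] 0 0 0 (Tr.node cA_s_t_44 [] 42 38 0 cA_s_t_60))) [4] 0 0 0 (Tr.node (Tr.node (Tr.node cA_s_t_34 [12] 1 8 0 cA_s_t_50) [13] 0 0 0 (Tr.node cA_s_t_42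 [] 20 15 0 cA_s_t_58)) [12] 0 0 0 (Tr.node (Tr.node cA_s_t_38 [6] 1 6 0 cA_s_t_54) [2] 1 4 0 (Tr.node cA_s_t_46 [13] 1 9 0 cA_s_t_62)))))
def cA_s_m0 : ℕ := (nat_lit 0)
def cA_s_m1 : ℕ := (nat_lit 0)
def cA_s_m2 : ℕ := (nat_lit 0)
def cA_s_m3 : ℕ := (nat_lit 0)
def cA_s_m4 : ℕ := (nat_lit 0)
def cA_s_m5 : ℕ := (nat_lit 0)
def cA_s_m6 : ℕ := (nat_lit 0)
def cA_s_m7 : ℕ := (nat_lit 0)
def cA_s_m8 : ℕ := (nat_lit 0)
def cA_s_m9 : ℕ := (nat_lit 0)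
def cA_s_m10 : ℕ := (nat_lit 0)
def cA_s_m11 : ℕ := (nat_lit 0)
def cA_s_m12 : ℕ := (nat_lit 0)
def cA_s_m13 : ℕ := (nat_lit 0)
def cA_s_p0 : List ℕ := [nat_lit 0x11500201e1b90b4,
  nat_lit 0x1b50020171b70b2,
  nat_lit 0x3d00200b089026,
  nat_lit 0x5b0020170db08c,
  nat_lit 0x4300200b16b032,
  nat_lit 0x10f0020171111a4,
  nat_lit 0x19b00201e19d0aa,
  nat_lit 0x9900200b17f17e,
  nat_lit 0x1810020281830f8,
  nat_lit 0x570020280d3020,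
  nat_lit 0x2b00200b09d0fe,
  nat_lit 0x6f00200b197196,
  nat_lit 0x19100200b193102,
  nat_lit 0x9b0830020060f902e,
  nat_lit 0x1a704100400e1a9032,
  nat_lit 0x6f0210010100a503e,
  nat_lit 0x10102d00400e18f026,
  nat_lit 0x2b08300100e09f03e,
  nat_lit 0x6b01d001002045022,
  nat_lit 0x16d01d00200816f02e,
  nat_lit 0x8b01f01001200702d0d9020,
  nat_lit 0x2101f00a00c00402c03b020,
  nat_lit 0x2101f00900500102000602b0d505a,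
  nat_lit 0x830220020030850d6,
  nat_lit 0x6f03c002011049026,
  nat_lit 0x4b08a00200c10d0a8,
  nat_lit 0xad08a00200e19f108,
  nat_lit 0x1bb16c00200e1bd114,
  nat_lit 0x5b0d90010250dd08b,
  nat_lit 0x19102d03e00900f10309f,
  nat_lit 0xfa02d02600600f10a108,
  nat_lit 0x5b0dd0080250df0dc,
  nat_lit 0x86059001001088022,
  nat_lit 0x8703c0020120d705a,
  nat_lit 0x6f08800100c10502c,
  nat_lit 0x9b0870210070090fb02e,
  nat_lit 0x5700f01202005c00602905e0e0,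
  nat_lit 0x5d00102f08f0da,
  nat_lit 0x5d00102f08d0db,
  nat_lit 0x5d00102f02f08b,
  nat_lit 0x5d00102f1570df,
  nat_lit 0x5f03000201815b01e,
  nat_lit 0x5f09000402015d01e,
  nat_lit 0x3f090003021161022,
  nat_lit 0x3f03000201c15f03b,
  nat_lit 0x8605902f00601b15a092,
  nat_lit 0x3f05701101000200602008f00602a16308e,
  nat_lit 0x910400010070e1164,
  nat_lit 0x8e0e115a00201c0620d8,
  nat_lit 0x6100102f063085,
  nat_lit 0x6100102f0950d7,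
  nat_lit 0x5a06200102f0e4092,
  nat_lit 0xd606200102f094040,
  nat_lit 0x9300102f0e5160,
  nat_lit 0x9300102f0e7162,
  nat_lit 0xe300102f027091,
  nat_lit 0x9300102f09703f,
  nat_lit 0x830e300102f0660e2,
  nat_lit 0x9b063002004047042,
  nat_lit 0xfd063004010185032,
  nat_lit 0xfd095003011187044,
  nat_lit 0x2b0630010100a1044,
  nat_lit 0x2b0950020110a3032,
  nat_lit 0x6500102f1690de,
  nat_lit 0x6500102f06708d,
  nat_lit 0x6500102f167157,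
  nat_lit 0x6500102f16505b,
  nat_lit 0x5f02700200506901e,
  nat_lit 0x6f09800100e071044,
  nat_lit 0x4302700100c02903e,
  nat_lit 0xff0f900100318b048,
  nat_lit 0xff0fb001001189048,
  nat_lit 0x460e70010200ed045,
  nat_lit 0x1a70470040101ab109,
  nat_lit 0x460e500301806d045,
  nat_lit 0x2301d028005015177096,
  nat_lit 0x17d01d02800500d0f3032,
  nat_lit 0x4109703c0030160eb02e,
  nat_lit 0x5f09702100400a0e901e,
  nat_lit 0x1130a30a00070161b30ae,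
  nat_lit 0x5f02703b003015033045,
  nat_lit 0x230e9001013173034,
  nat_lit 0x1390f40040181f90b2,
  nat_lit 0x4d02a0030201c5076,
  nat_lit 0x1c302a001018117110,
  nat_lit 0xb502a0040181c11a4,
  nat_lit 0xaf0ec0020111ad102,
  nat_lit 0x2315d0030230f106a,
  nat_lit 0x2315b00301c0ef0ea,
  nat_lit 0x23069001012171034,
  nat_lit 0xff0eb00201418d047,
  nat_lit 0x3406b001014176024,
  nat_lit 0x6a01d02600600d19a0a8,
  nat_lit 0xad0290a100700a1a1103,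
  nat_lit 0x9901d03e00900d0f5029,
  nat_lit 0xaf04104400900f1af071,
  nat_lit 0x18c04103200600f1b2114,
  nat_lit 0x4b0290010050730f5,
  nat_lit 0x230ef17400701d179033,
  nat_lit 0x230f117200702417b033,
  nat_lit 0x4b0a50720050090ab0f5,
  nat_lit 0x1b00a602900600a1c01bc,
  nat_lit 0x4d0a102b06805701001200201000d01001100a00e00f02002806701a02e0b702c,
  nat_lit 0x1c304e0080251190b8,
  nat_lit 0xb10a300401c0c30b7,
  nat_lit 0x10611900102004f118,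
  nat_lit 0x7509f00101f11b119,
  nat_lit 0x4f07200401f1c704e,
  nat_lit 0x4f04a0040231c90aa,
  nat_lit 0x5010f003025052076,
  nat_lit 0x10b04900401c11d051,
  nat_lit 0xa60760020211cb11d,
  nat_lit 0x1cc10b0070250ba0aa,
  nat_lit 0x520010171cd0b9,
  nat_lit 0xb507100301911f0b9,
  nat_lit 0x19e0ba050008025122112,
  nat_lit 0x12100102f1231c1,
  nat_lit 0x12100102f1cf111,
  nat_lit 0x12319b0040201250a8,
  nat_lit 0x1070aa11f00101f0bb126,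
  nat_lit 0xbb00102f1d11ab,
  nat_lit 0x1990bb00102f07810a,
  nat_lit 0x1a00bc00102f0bd10d,
  nat_lit 0xbd00102f1290ad,
  nat_lit 0xbd00102f1d31b3,
  nat_lit 0x730bd00102f1281a2,
  nat_lit 0x6907700102f1d60fc,
  nat_lit 0x9c07800102f1d81a6,
  nat_lit 0x17607700102f035048,
  nat_lit 0x18e07800102f12b034,
  nat_lit 0xb31a91d1005022133125,
  nat_lit 0x12700102f0bf104,
  nat_lit 0x3500102f1dd178,
  nat_lit 0x3500102f0790f0,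
  nat_lit 0x3500102f1df17a,
  nat_lit 0x3500102f1e10f2,
  nat_lit 0x3500102f1e317c,
  nat_lit 0x12b00102f0c118a,
  nat_lit 0x1d700102f1db1a5,
  nat_lit 0x3500102f12f023,
  nat_lit 0x12b00102f1e51b1,
  nat_lit 0x17f12700102f12e194,
  nat_lit 0x1701d600102f1d901d,
  nat_lit 0x1880b600301c1eb133,
  nat_lit 0x12d00102f1e7190,
  nat_lit 0x12d00102f1e91ad,
  nat_lit 0x1d900102f13116d,
  nat_lit 0x1b50b40080251351eb,
  nat_lit 0xc00a204e0030220c50c3,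
  nat_lit 0x1151850010211ed135,
  nat_lit 0xc60b1002025138116,
  nat_lit 0x1c01e90f40080151ef0a3,
  nat_lit 0x1391e804900501d07b051,
  nat_lit 0x9d1ef00100c1f11be,
  nat_lit 0x4b0760020231fb07b,
  nat_lit 0x1f109d10500800d1f3198,
  nat_lit 0x7b1fb07409912f1e201d02604905000102713b117,
  nat_lit 0x7c13c11b05204a02513207913009a0040260530ab,
  nat_lit 0x530010171fd139,
  nat_lit 0x1380730530020180c71fa,
  nat_lit 0x1ed0c800102f0560c4,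
  nat_lit 0x1b80c700102f037138,
  nat_lit 0xc60c700102f13e1ba,
  nat_lit 0x3705500102f2010b8,
  nat_lit 0x3705500102f20304d,
  nat_lit 0x7403705500102f03a1c6,
  nat_lit 0xc405603800102f1ff0c0,
  nat_lit 0x1c805603800102f13f0ab,
  nat_lit 0xb413e00102f206204,
  nat_lit 0x11e03a00102f20712a,
  nat_lit 0xab03900102f20a11c,
  nat_lit 0x7c03a00102f0cb1d4,
  nat_lit 0x1cd03a00102f1411fe,
  nat_lit 0x1ff0c503700102f07d136,
  nat_lit 0x20700102f21510b,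
  nat_lit 0x7d0bf13d00102f0ca134,
  nat_lit 0x20913b03a00102f20c10e,
  nat_lit 0xcb05403900102f07f052,
  nat_lit 0x1411c914000102f20d04b,
  nat_lit 0x7d09e07d00102f08102b,
  nat_lit 0x20207e08200102f211166,
  nat_lit 0x2050b60ca08200102f213068,
  nat_lit 0x7f0cb05413f00102f2101cf,
  nat_lit 0x20d14111f0ca08200102f1441dc,
  nat_lit 0x14300102f21b1df,
  nat_lit 0x14300102f21d1e3,
  nat_lit 0x21300102f147031,
  nat_lit 0xa820c21200102f0cf01e,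
  nat_lit 0x1de0810c912300102f0ce210,
  nat_lit 0xcf00102f21f089,
  nat_lit 0xcf00102f14b025,
  nat_lit 0xcf00102f14d215,
  nat_lit 0xc20cd07f00102f2181f4,
  nat_lit 0x1e60800ce00102f21a0b0,
  nat_lit 0x790cd07f0cb00102f146054,
  nat_lit 0x14500102f14912a,
  nat_lit 0x14500102f0d104b,
  nat_lit 0x21700102f14f195,
  nat_lit 0x21900102f2210af,
  nat_lit 0x6e1500211690681470300280d402f14806416803014b0790c10ed06d02302e2241f8]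
def cA_s_p1 : List ℕ := [nat_lit 0x1f822400102f2261f6,
  nat_lit 0x22500102f2271f5,
  nat_lit 0xd214906c22806b14a0d100402b1520f8,
  nat_lit 0x1510f715100102f22a183,
  nat_lit 0x22900102f153181,
  nat_lit 0x1540d221c22106e0ed06b22014d15414e21e0c106e1500e50e702114b01202e22c079,
  nat_lit 0x13222b00102f156041,
  nat_lit 0x1550d415500102f22d057,
  nat_lit 0x2000102f01322e]
noncomputable def cA_s : CE where
  p0 := 0
  F := (Nat.sub (Nat.shiftLeft 1 1) 1)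
  masks := [cA_s_m0, cA_s_m1, cA_s_m2, cA_s_m3, cA_s_m4, cA_s_m5, cA_s_m6, cA_s_m7, cA_s_m8, cA_s_m9, cA_s_m10, cA_s_m11, cA_s_m12, cA_s_m13]
  gprog := []
  cprog := [15, 43, 44, 14, 65, 22, 16, 18, 30, 69, 45, 72, 47, 31, 32, 24, 33, 182, 53, 17, 190, 76, 123, 192, 77, 126, 21, 127, 128, 200, 202, 55, 83, 131, 133, 84, 205, 37, 86, 209, 135, 58, 210, 211, 87, 137, 88, 218, 89, 138, 221, 90, 225, 38, 250, 251, 156]
  sids := [0, 1, 2, 3, 4, 5, 6, 7, 8]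
  t0 := cA_s_t
  s := 12
  progs := [cA_s_p0, cA_s_p1]
  O := (Nat.sub (Nat.shiftLeft 1 1) 1)
  yids := [0, 1, 2, 3, 4, 5, 6, 7, 8, 9]
theorem cA_s_chk : ∃ progs, CE.check { cA_s with progs := progs } cA_s_nets (imOf [0, 1, 2, 3, 4, 5]) cA_s_rels [[0], [2], [4], [6], [8], [10], [12], [14], [16]] [[0], [2], [4], [6], [8], [10], [12], [14], [16], [18]] = true :=
  ⟨cA_s.progs, by decide +kernel⟩
theorem cA_s_idx {Γ : Type*} [Group Γ] {g : ℕ → Γ} (hi : InvOk g (imOf [0, 1, 2, 3, 4, 5])) (hr : ∀ r ∈ cA_s_rels, ev g r = 1)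
    {H : Subgroup Γ} (hs : ∀ u ∈ ([[0], [2], [4], [6], [8], [10], [12], [14], [16]] : List (List ℕ)), ev g u ∈ H) :
    H.relIndex (gen g [[0], [2], [4], [6], [8], [10], [12], [14], [16], [18]]) ≠ 0 ∧ H.relIndex (gen g [[0], [2], [4], [6], [8], [10], [12], [14], [16], [18]]) ≤ 1 :=
  Reach.relIndex_le cA_s_model hi hr hs cA_s_chk (by decide +kernel)

theorem cA_index {Γ : Type*} [Group Γ] {g : ℕ → Γ} (h : ∀ r ∈ sqW [0, 1, 2, 3, 4, 5] ++ cA_rels, ev g r = 1)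
    {H : Subgroup Γ} (hs : ∀ u ∈ ([[0], [2], [4], [6], [8], [10], [12], [14], [16]] : List (List ℕ)), ev g u ∈ H) :
    H.relIndex (gen g [[0], [2], [4], [6], [8], [10], [12], [14], [16], [18]]) ≠ 0 ∧ H.relIndex (gen g [[0], [2], [4], [6], [8], [10], [12], [14], [16], [18]]) ≤ 1 :=
  have hi := invOk_of_sqW fun w hw => h w (List.mem_append_left _ hw)
  cA_s_idx hi (conseq_sound hi (fun w hw => h w (List.mem_append_right _ hw)) (hs := [1, 1025, 2049, 3073, 4097, 5121, 6145, 7169, 8193, 9217, 10241, 11265, 12289, 13313, 14337, 15361, 16385, 17409, 18433, 19457, 20481, 21505, 22529, 23553, 24577, 25601, 26625, 27649, 28673, 29697, 30721, 31745, 32769, 33793, 34817, 35841, 36865, 37889, 38913, 39937, 40961, 41985, 43009, 44033, 45057, 46081]) (by decide +kernel)) hs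

/-- generators a b c d z t x y w s; relators (za)^2 (zb)^2 (zc)^2 (zd)^2 (ab)^2 (cd)^2 (ac)^2 (bd)^2 (ad)^2z (bc)^2z xxx xax^-1b xbx^-1ab xcx^-1d xdx^-1cd xzx^-1z (tx)^2 (ta)^2 (tc)^2 (tz)^2 tbtab tdtcd yyy yby^-1b (dy)^2 yzy^-1a yay^-1za ycy^-1t yty^-1tc www wdw^-1d (bw)^2 wzw^-1c wcw^-1zc waw^-1t wtw^-1ta ywy^-1w^-1 (dy^-1tx^-1)^3 (bw^-1tx^-1)^3 sss (y^-1ws)^2 (w^-1yacs)^2 saczs^-1zca stzs^-1zt syws^-1w^-1y^-1 (ayx^-1yw^-1zxy^-1s)^2w^-1y^-1 -/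
def cB_rels : List (List ℕ) := [[8, 0, 8, 0],
  [8, 2, 8, 2],
  [8, 4, 8, 4],
  [8, 6, 8, 6],
  [0, 2, 0, 2],
  [4, 6, 4, 6],
  [0, 4, 0, 4],
  [2, 6, 2, 6],
  [0, 6, 0, 6, 8],
  [2, 4, 2, 4, 8],
  [12, 12, 12],
  [12, 0, 13, 2],
  [12, 2, 13, 0, 2],
  [12, 4, 13, 6],
  [12, 6, 13, 4, 6],
  [12, 8, 13, 8],
  [10, 12, 10, 12],
  [10, 0, 10, 0],
  [10, 4, 10, 4],
  [10, 8, 10, 8],
  [10, 2, 10, 0, 2],
  [10, 6, 10, 4, 6],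
  [14, 14, 14],
  [14, 2, 15, 2],
  [6, 14, 6, 14],
  [14, 8, 15, 0],
  [14, 0, 15, 8, 0],
  [14, 4, 15, 10],
  [14, 10, 15, 10, 4],
  [16, 16, 16],
  [16, 6, 17, 6],
  [2, 16, 2, 16],
  [16, 8, 17, 4],
  [16, 4, 17, 8, 4],
  [16, 0, 17, 10],
  [16, 10, 17, 10, 0],
  [14, 16, 15, 17],
  [6, 15, 10, 13, 6, 15, 10, 13, 6, 15, 10, 13],
  [2, 17, 10, 13, 2, 17, 10, 13, 2, 17, 10, 13],
  [18, 18, 18],
  [15, 16, 18, 15, 16, 18],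
  [17, 14, 0, 4, 18, 17, 14, 0, 4, 18],
  [18, 0, 4, 8, 19, 8, 4, 0],
  [18, 10, 8, 19, 8, 10],
  [18, 14, 16, 19, 17, 15],
  [0, 14, 13, 14, 17, 8, 12, 15, 18, 0, 14, 13, 14, 17, 8, 12, 15, 18, 17, 15]]

def cB_s_nets : List Net := [Net.nil, Net.nil, Net.nil, Net.nil, Net.nil, Net.nil, Net.nil, Net.nil, Net.nil, Net.nil]
def cB_s_rels : List (List ℕ) := [[8, 0, 8, 0],
  [8, 2, 8, 2],
  [8, 4, 8, 4],
  [8, 6, 8, 6],
  [0, 2, 0, 2],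
  [4, 6, 4, 6],
  [0, 4, 0, 4],
  [2, 6, 2, 6],
  [0, 6, 0, 6, 8],
  [2, 4, 2, 4, 8],
  [12, 12, 12],
  [12, 0, 13, 2],
  [12, 2, 13, 0, 2],
  [12, 4, 13, 6],
  [12, 6, 13, 4, 6],
  [12, 8, 13, 8],
  [10, 12, 10, 12],
  [10, 0, 10, 0],
  [10, 4, 10, 4],
  [10, 8, 10, 8],
  [10, 2, 10, 0, 2],
  [10, 6, 10, 4, 6],
  [14, 14, 14],
  [14, 2, 15, 2],
  [6, 14, 6, 14],
  [14, 8, 15, 0],
  [14, 0, 15, 8, 0],
  [14, 4, 15, 10],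
  [14, 10, 15, 10, 4],
  [16, 16, 16],
  [16, 6, 17, 6],
  [2, 16, 2, 16],
  [16, 8, 17, 4],
  [16, 4, 17, 8, 4],
  [16, 0, 17, 10],
  [16, 10, 17, 10, 0],
  [14, 16, 15, 17],
  [6, 15, 10, 13, 6, 15, 10, 13, 6, 15, 10, 13],
  [2, 17, 10, 13, 2, 17, 10, 13, 2, 17, 10, 13],
  [18, 18, 18],
  [15, 16, 18, 15, 16, 18],
  [17, 14, 0, 4, 18, 17, 14, 0, 4, 18],
  [18, 0, 4, 8, 19, 8, 4, 0],
  [18, 10, 8, 19, 8, 10],
  [18, 14, 16, 19, 17, 15],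
  [0, 14, 13, 14, 17, 8, 12, 15, 18, 0, 14, 13, 14, 17, 8, 12, 15, 18, 17, 15]]
theorem cB_s_nets_ok : allL (Net.ok 1) cB_s_nets = true := by decide +kernel
theorem cB_s_rel : ∀ w ∈ (sqW [0, 1, 2, 3, 4, 5] ++ cB_s_rels), ev (netGen cB_s_nets) w = 1 :=
  SlicesOk.rel (K := 0) (SlicesOk.zero _ _ _ _)
    cB_s_nets_ok (by norm_num)
theorem cB_s_model : Model 1 cB_s_nets (imOf [0, 1, 2, 3, 4, 5]) cB_s_rels := Model.of_rel cB_s_nets_ok cB_s_rel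
def cB_s_t_31 : Tr := (Tr.node (Tr.node (Tr.node (Tr.node Tr.leaf [17] 22 17 0 Tr.leaf) [12] 6 29 0 Tr.leaf) [4] 1 5 0 (Tr.node Tr.leaf [19] 4 24 0 Tr.leaf)) [13] 2 17 0 (Tr.node (Tr.node Tr.leaf [] 41 38 0 Tr.leaf) [4] 22 27 0 (Tr.node Tr.leaf [2] 52 40 0 Tr.leaf)))
def cB_s_t_47 : Tr := (Tr.node (Tr.node (Tr.node (Tr.node Tr.leaf [13] 19 7 0 Tr.leaf) [] 40 37 0 Tr.leaf) [6] 27 9 0 (Tr.node Tr.leaf [2] 39 30 0 Tr.leaf)) [] 10 2 0 (Tr.node (Tr.node Tr.leaf [0] 14 11 0 Tr.leaf) [15] 11 10 0 (Tr.node Tr.leaf [12] 19 46 0 Tr.leaf)))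
def cB_s_t_39 : Tr := (Tr.node (Tr.node (Tr.node (Tr.node Tr.leaf [] 22 1 0 Tr.leaf) [15] 41 40 0 Tr.leaf) [] 14 7 0 (Tr.node Tr.leaf [13] 6 30 0 Tr.leaf)) [16] 32 41 0 (Tr.node (Tr.node Tr.leaf [18] 4 4 0 Tr.leaf) [] 38 4 0 (Tr.node Tr.leaf [8] 33 44 0 Tr.leaf)))
def cB_s_t_55 : Tr := (Tr.node (Tr.node (Tr.node Tr.leaf [16] 15 4 0 Tr.leaf) [13] 15 45 0 (Tr.node Tr.leaf [13] 46 28 0 Tr.leaf)) [6] 32 17 0 (Tr.node (Tr.node Tr.leaf [2] 18 6 0 Tr.leaf) [14] 20 4 0 (Tr.node Tr.leaf [0] 46 31 0 Tr.leaf)))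
def cB_s_t_35 : Tr := (Tr.node (Tr.node (Tr.node (Tr.node Tr.leaf [] 33 22 0 Tr.leaf) [13] 34 25 0 Tr.leaf) [14] 1 10 0 (Tr.node Tr.leaf [0] 28 15 0 Tr.leaf)) [10] 32 8 0 (Tr.node (Tr.node Tr.leaf [4] 4 9 0 Tr.leaf) [] 50 47 0 (Tr.node Tr.leaf [0] 41 36 0 Tr.leaf)))
def cB_s_t_51 : Tr := (Tr.node (Tr.node (Tr.node (Tr.node Tr.leaf [] 24 4 0 Tr.leaf) [4] 38 9 0 Tr.leaf) [2] 8 33 0 (Tr.node Tr.leaf [4] 44 16 0 Tr.leaf)) [15] 5 2 0 (Tr.node (Tr.node Tr.leaf [16] 5 2 0 Tr.leaf) [] 12 1 0 (Tr.node Tr.leaf [14] 26 49 0 Tr.leaf)))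
def cB_s_t_43 : Tr := (Tr.node (Tr.node (Tr.node (Tr.node Tr.leaf [] 45 19 0 Tr.leaf) [16] 53 27 0 Tr.leaf) [14] 19 19 0 (Tr.node Tr.leaf [13] 33 13 0 Tr.leaf)) [] 54 48 0 (Tr.node (Tr.node Tr.leaf [15] 13 4 0 Tr.leaf) [19] 2 1 0 (Tr.node Tr.leaf [] 18 1 0 Tr.leaf)))
def cB_s_t_59 : Tr := (Tr.node (Tr.node (Tr.node Tr.leaf [14] 50 22 0 Tr.leaf) [15] 54 27 0 (Tr.node Tr.leaf [17] 50 49 0 Tr.leaf)) [] 27 26 0 (Tr.node (Tr.node Tr.leaf [2] 20 5 0 Tr.leaf) [4] 25 6 0 (Tr.node Tr.leaf [17] 38 57 0 Tr.leaf)))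
def cB_s_t_33 : Tr := (Tr.node (Tr.node (Tr.node (Tr.node Tr.leaf [] 35 9 0 Tr.leaf) [2] 32 27 0 Tr.leaf) [0] 7 5 0 (Tr.node Tr.leaf [8] 26 16 0 Tr.leaf)) [2] 19 7 0 (Tr.node (Tr.node Tr.leaf [] 13 9 0 Tr.leaf) [4] 47 54 0 (Tr.node Tr.leaf [2] 54 42 0 Tr.leaf)))
def cB_s_t_49 : Tr := (Tr.node (Tr.node (Tr.node (Tr.node Tr.leaf [] 55 19 0 Tr.leaf) [17] 52 33 0 Tr.leaf) [10] 27 16 0 (Tr.node Tr.leaf [6] 13 43 0 Tr.leaf)) [8] 2 5 0 (Tr.node (Tr.node Tr.leaf [16] 7 7 0 Tr.leaf) [16] 11 10 0 (Tr.node Tr.leaf [10] 21 45 0 Tr.leaf)))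
def cB_s_t_41 : Tr := (Tr.node (Tr.node (Tr.node (Tr.node Tr.leaf [15] 9 8 0 Tr.leaf) [17] 16 50 0 Tr.leaf) [4] 7 2 0 (Tr.node Tr.leaf [12] 7 31 0 Tr.leaf)) [] 20 15 0 (Tr.node (Tr.node Tr.leaf [17] 2 11 0 Tr.leaf) [14] 9 15 0 (Tr.node Tr.leaf [] 6 4 0 Tr.leaf)))
def cB_s_t_57 : Tr := (Tr.node (Tr.node (Tr.node Tr.leaf [4] 49 52 0 Tr.leaf) [16] 16 49 0 (Tr.node Tr.leaf [15] 16 48 0 Tr.leaf)) [] 25 13 0 (Tr.node (Tr.node Tr.leaf [8] 20 13 0 Tr.leaf) [0] 22 17 0 (Tr.node Tr.leaf [19] 19 56 0 Tr.leaf)))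
def cB_s_t_37 : Tr := (Tr.node (Tr.node (Tr.node (Tr.node Tr.leaf [] 21 9 0 Tr.leaf) [13] 38 33 0 Tr.leaf) [16] 2 1 0 (Tr.node Tr.leaf [10] 28 25 0 Tr.leaf)) [17] 9 42 0 (Tr.node (Tr.node Tr.leaf [12] 19 15 0 Tr.leaf) [] 57 46 0 (Tr.node Tr.leaf [14] 42 36 0 Tr.leaf)))
def cB_s_t_53 : Tr := (Tr.node (Tr.node (Tr.node (Tr.node Tr.leaf [] 1 0 0 Tr.leaf) [] 29 21 0 Tr.leaf) [6] 38 22 0 (Tr.node Tr.leaf [10] 45 29 0 Tr.leaf)) [10] 13 19 0 (Tr.node (Tr.node Tr.leaf [13] 17 16 0 Tr.leaf) [10] 15 6 0 (Tr.node Tr.leaf [0] 51 27 0 Tr.leaf)))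
def cB_s_t_45 : Tr := (Tr.node (Tr.node (Tr.node (Tr.node Tr.leaf [16] 4 9 0 Tr.leaf) [4] 35 42 0 Tr.leaf) [6] 5 25 0 (Tr.node Tr.leaf [17] 37 36 0 Tr.leaf)) [0] 1 3 0 (Tr.node (Tr.node Tr.leaf [15] 14 7 0 Tr.leaf) [10] 5 3 0 (Tr.node Tr.leaf [2] 15 5 0 Tr.leaf)))
def cB_s_t_61 : Tr := (Tr.node (Tr.node (Tr.node Tr.leaf [13] 42 53 0 Tr.leaf) [] 34 33 0 (Tr.node Tr.leaf [13] 51 46 0 Tr.leaf)) [] 26 5 0 (Tr.node (Tr.node Tr.leaf [12] 4 21 0 Tr.leaf) [12] 5 26 0 (Tr.node Tr.leaf [] 47 27 0 Tr.leaf)))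
def cB_s_t_32 : Tr := (Tr.node (Tr.node (Tr.node (Tr.node Tr.leaf [] 17 16 0 Tr.leaf) [4] 30 27 0 Tr.leaf) [8] 5 3 0 (Tr.node Tr.leaf [19] 24 23 0 Tr.leaf)) [8] 4 19 0 (Tr.node (Tr.node Tr.leaf [] 36 21 0 Tr.leaf) [14] 15 4 0 (Tr.node Tr.leaf [15] 17 53 0 Tr.leaf)))
def cB_s_t_48 : Tr := (Tr.node (Tr.node (Tr.node (Tr.node Tr.leaf [] 56 19 0 Tr.leaf) [2] 37 52 0 Tr.leaf) [8] 27 17 0 (Tr.node Tr.leaf [14] 9 40 0 Tr.leaf)) [] 3 2 0 (Tr.node (Tr.node Tr.leaf [15] 7 7 0 Tr.leaf) [17] 11 1 0 (Tr.node Tr.leaf [4] 21 8 0 Tr.leaf)))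
def cB_s_t_40 : Tr := (Tr.node (Tr.node (Tr.node (Tr.node Tr.leaf [] 16 2 0 Tr.leaf) [6] 16 46 0 Tr.leaf) [10] 2 5 0 (Tr.node Tr.leaf [13] 30 29 0 Tr.leaf)) [15] 42 32 0 (Tr.node (Tr.node Tr.leaf [] 2 1 0 Tr.leaf) [] 8 4 0 (Tr.node Tr.leaf [10] 38 46 0 Tr.leaf)))
def cB_s_t_56 : Tr := (Tr.node (Tr.node (Tr.node Tr.leaf [0] 19 15 0 Tr.leaf) [14] 16 47 0 (Tr.node Tr.leaf [10] 46 39 0 Tr.leaf)) [2] 38 22 0 (Tr.node (Tr.node Tr.leaf [4] 20 19 0 Tr.leaf) [2] 21 16 0 (Tr.node Tr.leaf [18] 19 55 0 Tr.leaf)))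
def cB_s_t_36 : Tr := (Tr.node (Tr.node (Tr.node (Tr.node Tr.leaf [16] 38 9 0 Tr.leaf) [14] 8 35 0 Tr.leaf) [14] 2 11 0 (Tr.node Tr.leaf [4] 28 15 0 Tr.leaf)) [0] 9 38 0 (Tr.node (Tr.node Tr.leaf [12] 4 9 0 Tr.leaf) [] 52 26 0 (Tr.node Tr.leaf [17] 32 35 0 Tr.leaf)))
def cB_s_t_52 : Tr := (Tr.node (Tr.node (Tr.node (Tr.node Tr.leaf [] 9 4 0 Tr.leaf) [] 28 19 0 Tr.leaf) [16] 8 36 0 (Tr.node Tr.leaf [8] 44 34 0 Tr.leaf)) [6] 2 15 0 (Tr.node (Tr.node Tr.leaf [17] 5 1 0 Tr.leaf) [4] 13 4 0 (Tr.node Tr.leaf [4] 50 48 0 Tr.leaf)))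
def cB_s_t_44 : Tr := (Tr.node (Tr.node (Tr.node (Tr.node Tr.leaf [2] 9 2 0 Tr.leaf) [6] 42 53 0 Tr.leaf) [13] 4 22 0 (Tr.node Tr.leaf [17] 8 37 0 Tr.leaf)) [19] 0 2 0 (Tr.node (Tr.node Tr.leaf [17] 13 4 0 Tr.leaf) [4] 7 3 0 (Tr.node Tr.leaf [6] 5 13 0 Tr.leaf)))
def cB_s_t_60 : Tr := (Tr.node (Tr.node (Tr.node Tr.leaf [14] 21 57 0 Tr.leaf) [14] 36 32 0 (Tr.node Tr.leaf [4] 17 51 0 Tr.leaf)) [] 46 32 0 (Tr.node (Tr.node Tr.leaf [15] 20 13 0 Tr.leaf) [0] 25 6 0 (Tr.node Tr.leaf [14] 38 21 0 Tr.leaf)))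
def cB_s_t_34 : Tr := (Tr.node (Tr.node (Tr.node (Tr.node Tr.leaf [] 53 22 0 Tr.leaf) [6] 8 34 0 Tr.leaf) [13] 9 8 0 (Tr.node Tr.leaf [10] 26 17 0 Tr.leaf)) [8] 25 15 0 (Tr.node (Tr.node Tr.leaf [13] 2 2 0 Tr.leaf) [16] 22 47 0 (Tr.node Tr.leaf [6] 41 54 0 Tr.leaf)))
def cB_s_t_50 : Tr := (Tr.node (Tr.node (Tr.node (Tr.node Tr.leaf [19] 19 19 0 Tr.leaf) [] 30 22 0 Tr.leaf) [8] 32 9 0 (Tr.node Tr.leaf [12] 15 44 0 Tr.leaf)) [] 11 5 0 (Tr.node (Tr.node Tr.leaf [14] 5 1 0 Tr.leaf) [4] 12 11 0 (Tr.node Tr.leaf [6] 1 4 0 Tr.leaf)))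
def cB_s_t_42 : Tr := (Tr.node (Tr.node (Tr.node (Tr.node Tr.leaf [] 31 19 0 Tr.leaf) [2] 53 41 0 Tr.leaf) [0] 13 4 0 (Tr.node Tr.leaf [13] 32 31 0 Tr.leaf)) [14] 57 38 0 (Tr.node (Tr.node Tr.leaf [15] 12 5 0 Tr.leaf) [14] 4 9 0 (Tr.node Tr.leaf [] 43 5 0 Tr.leaf)))
def cB_s_t_58 : Tr := (Tr.node (Tr.node (Tr.node Tr.leaf [16] 48 26 0 Tr.leaf) [14] 17 52 0 (Tr.node Tr.leaf [15] 48 47 0 Tr.leaf)) [10] 57 42 0 (Tr.node (Tr.node Tr.leaf [16] 20 4 0 Tr.leaf) [18] 4 23 0 (Tr.node Tr.leaf [2] 57 47 0 Tr.leaf)))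
def cB_s_t_38 : Tr := (Tr.node (Tr.node (Tr.node (Tr.node Tr.leaf [] 37 32 0 Tr.leaf) [15] 9 41 0 Tr.leaf) [0] 2 12 0 (Tr.node Tr.leaf [4] 29 8 0 Tr.leaf)) [16] 17 54 0 (Tr.node (Tr.node Tr.leaf [] 23 4 0 Tr.leaf) [] 32 15 0 (Tr.node Tr.leaf [14] 37 41 0 Tr.leaf)))
def cB_s_t_54 : Tr := (Tr.node (Tr.node (Tr.node Tr.leaf [10] 15 4 0 Tr.leaf) [4] 9 39 0 (Tr.node Tr.leaf [4] 45 32 0 Tr.leaf)) [13] 7 32 0 (Tr.node (Tr.node Tr.leaf [6] 4 18 0 Tr.leaf) [16] 19 19 0 (Tr.node Tr.leaf [2] 26 46 0 Tr.leaf)))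
def cB_s_t_46 : Tr := (Tr.node (Tr.node (Tr.node (Tr.node Tr.leaf [13] 4 1 0 Tr.leaf) [6] 52 36 0 Tr.leaf) [13] 27 26 0 (Tr.node Tr.leaf [13] 39 34 0 Tr.leaf)) [15] 1 11 0 (Tr.node (Tr.node Tr.leaf [16] 14 7 0 Tr.leaf) [16] 10 1 0 (Tr.node Tr.leaf [15] 15 13 0 Tr.leaf)))
def cB_s_t_62 : Tr := (Tr.node (Tr.node (Tr.node Tr.leaf [] 49 22 0 Tr.leaf) [] 39 38 0 (Tr.node Tr.leaf [2] 51 45 0 Tr.leaf)) [0] 4 9 0 (Tr.node (Tr.node Tr.leaf [13] 22 21 0 Tr.leaf) [8] 6 28 0 (Tr.node Tr.leaf [15] 22 27 0 Tr.leaf)))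
def cB_s_t : Tr := (Tr.node (Tr.node (Tr.node (Tr.node (Tr.node cB_s_t_31 [18] 0 1 0 cB_s_t_47) [14] 0 0 0 (Tr.node cB_s_t_39 [15] 2 1 0 cB_s_t_55)) [6] 0 0 0 (Tr.node (Tr.node cB_s_t_35 [2] 17 9 0 cB_s_t_51) [15] 0 0 0 (Tr.node cB_s_t_43 [10] 7 1 0 cB_s_t_59))) [2] 0 0 0 (Tr.node (Tr.node (Tr.node cB_s_t_33 [12] 1 8 0 cB_s_t_49) [18] 0 0 0 (Tr.node cB_s_t_41 [10] 4 20 0 cB_s_t_57)) [10] 0 0 0 (Tr.node (Tr.node cB_s_t_37 [] 42 38 0 cB_s_t_53) [19] 0 0 0 (Tr.node cB_s_t_45 [2] 2 13 0 cB_s_t_61)))) [0] 0 0 0 (Tr.node (Tr.node (Tr.node (Tr.node cB_s_t_32 [8] 1 7 0 cB_s_t_48) [16] 0 0 0 (Tr.node cB_s_t_40 [12] 2 16 0 cB_s_t_56)) [8] 0 0 0 (Tr.node (Tr.node cB_s_t_36 [13] 5 27 0 cB_s_t_52) [17] 0 0 0 (Tr.node cB_s_t_44 [13] 1 9 0 cB_s_t_60))) [4] 0 0 0 (Tr.node (Tr.node (Tr.node cB_s_t_34 [0] 1 2 0 cB_s_t_50) [13] 0 0 0 (Tr.node cB_s_t_42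 [] 48 22 0 cB_s_t_58)) [12] 0 0 0 (Tr.node (Tr.node cB_s_t_38 [6] 1 6 0 cB_s_t_54) [2] 1 4 0 (Tr.node cB_s_t_46 [4] 2 14 0 cB_s_t_62)))))
def cB_s_m0 : ℕ := (nat_lit 0)
def cB_s_m1 : ℕ := (nat_lit 0)
def cB_s_m2 : ℕ := (nat_lit 0)
def cB_s_m3 : ℕ := (nat_lit 0)
def cB_s_m4 : ℕ := (nat_lit 0)
def cB_s_m5 : ℕ := (nat_lit 0)
def cB_s_m6 : ℕ := (nat_lit 0)
def cB_s_m7 : ℕ := (nat_lit 0)
def cB_s_m8 : ℕ := (nat_lit 0)
def cB_s_m9 : ℕ := (nat_lit 0)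
def cB_s_m10 : ℕ := (nat_lit 0)
def cB_s_m11 : ℕ := (nat_lit 0)
def cB_s_m12 : ℕ := (nat_lit 0)
def cB_s_m13 : ℕ := (nat_lit 0)
def cB_s_p0 : List ℕ := [nat_lit 0x11300201e1b70b4,
  nat_lit 0x1b30020171b50b2,
  nat_lit 0x3900200b085024,
  nat_lit 0x5d0020170df088,
  nat_lit 0x3f00200b16b032,
  nat_lit 0x10d00201710f1a2,
  nat_lit 0x19900201e19b0aa,
  nat_lit 0x9900200b17d17c,
  nat_lit 0x17f0020281810f6,
  nat_lit 0x590020280d7020,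
  nat_lit 0x2900200b09d0fc,
  nat_lit 0x6d00200b195194,
  nat_lit 0x18f00200b191100,
  nat_lit 0x9b07f0020060f702e,
  nat_lit 0x1a506900400e1a7032,
  nat_lit 0x6d0210010100a503a,
  nat_lit 0xff02d00400e18d024,
  nat_lit 0x2907f00100e09f03a,
  nat_lit 0x4101d001002043022,
  nat_lit 0x16d01d00200816f02e,
  nat_lit 0x8701f01001200702d0dd020,
  nat_lit 0x2101f00a00c00402c037020,
  nat_lit 0x2101f00900500102000602b0d905c,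
  nat_lit 0x7f0220020030810da,
  nat_lit 0x6d038002011047024,
  nat_lit 0x4908600200c10b0a8,
  nat_lit 0xad08600200e19d106,
  nat_lit 0x1b916c00200e1bb112,
  nat_lit 0x5d0dd0010250e1087,
  nat_lit 0x18f02d03a00900f10109f,
  nat_lit 0xf802d02400600f108106,
  nat_lit 0x5d0e10080250e30e0,
  nat_lit 0x8205b001001084022,
  nat_lit 0x830380020120db05c,
  nat_lit 0x6d08400100c10302a,
  nat_lit 0x9b0830210070090f902e,
  nat_lit 0x5900f01202005e0060290600e4,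
  nat_lit 0x5f00102f08b0de,
  nat_lit 0x5f00102f0890df,
  nat_lit 0x5f00102f02f087,
  nat_lit 0x5f00102f1530e3,
  nat_lit 0x3b03000201815701e,
  nat_lit 0x3b08c00402015901e,
  nat_lit 0x3d08c00302115d022,
  nat_lit 0x3d03000201c15b037,
  nat_lit 0x8205b02f00601b15608e,
  nat_lit 0x3d05901101000200602008b00602a15f08a,
  nat_lit 0x8d03e0010070e5160,
  nat_lit 0x8a0e515600201c0620dc,
  nat_lit 0x6100102f063081,
  nat_lit 0x6100102f0910db,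
  nat_lit 0x5c06200102f0e808e,
  nat_lit 0xda06200102f09003e,
  nat_lit 0x8f00102f16115c,
  nat_lit 0x8f00102f16315e,
  nat_lit 0xe700102f02508d,
  nat_lit 0x8f00102f09303d,
  nat_lit 0x7f0e700102f0660e6,
  nat_lit 0x9b06300200404506a,
  nat_lit 0xfb063004010183032,
  nat_lit 0xfb091003011185040,
  nat_lit 0x290630010100a1040,
  nat_lit 0x290910020110a3032,
  nat_lit 0x6500102f1690e2,
  nat_lit 0x6500102f067089,
  nat_lit 0x6500102f167153,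
  nat_lit 0x6500102f16505d,
  nat_lit 0x3b02500200509501e,
  nat_lit 0x6d09400100e06f040,
  nat_lit 0x3f02500100c02703a,
  nat_lit 0xfd0f7001003189046,
  nat_lit 0xfd0f9001001187046,
  nat_lit 0x441630010200ed043,
  nat_lit 0x1a50450040101a9107,
  nat_lit 0x44161003018097043,
  nat_lit 0x3301d026005015177092,
  nat_lit 0x17b01d02600500d0f1032,
  nat_lit 0x690930380030160eb02e,
  nat_lit 0x3b09302100400a0e901e,
  nat_lit 0x1110a30a00070161b10ae,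
  nat_lit 0x3b02503700301506b043,
  nat_lit 0x330e900101317106c,
  nat_lit 0x3315700301c0ef0ea,
  nat_lit 0x33159003023175096,
  nat_lit 0xaf0ec0020111ab100,
  nat_lit 0xb50280040181bf1a2,
  nat_lit 0x1c102800101811510e,
  nat_lit 0x4d0280030201c304c,
  nat_lit 0x1390f20040181f50b2,
  nat_lit 0x6c041001014174034,
  nat_lit 0xfd0eb00201418b045,
  nat_lit 0x9901d03a00900d0f3027,
  nat_lit 0x9601d02400600d1980a8,
  nat_lit 0xad0270a100700a19f101,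
  nat_lit 0xaf06904000900f1ad06f,
  nat_lit 0x18a06903200600f1b0112,
  nat_lit 0x490270010050710f3,
  nat_lit 0x330ef17200701d17906b,
  nat_lit 0x490a50700050090ab0f3,
  nat_lit 0x1ae0a602700600a1be1ba,
  nat_lit 0x4d0a102906805901100f00201000d01001100a00e00f02002606701a02e0b702a,
  nat_lit 0x1c104e0080251170b8,
  nat_lit 0xb10a300401c0c30b7,
  nat_lit 0x10411700102004f116,
  nat_lit 0x4b09f00101f119117,
  nat_lit 0x4f07000401f1c504e,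
  nat_lit 0x4f0480040231c70aa,
  nat_lit 0x5010d00302505204c,
  nat_lit 0x10904700401c11b051,
  nat_lit 0xa604c0020211c911b,
  nat_lit 0x1ca1090070250ba0aa,
  nat_lit 0x520010171cb0b9,
  nat_lit 0xb506f00301911d0b9,
  nat_lit 0x19c0ba050008025120110,
  nat_lit 0x11f00102f1211bf,
  nat_lit 0x11f00102f1cd10f,
  nat_lit 0x1211990040201230a8,
  nat_lit 0x1050aa11d00101f0bb124,
  nat_lit 0xbb00102f1cf1a9,
  nat_lit 0x1970bb00102f074108,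
  nat_lit 0x19e0bc00102f0bd10b,
  nat_lit 0xbd00102f1270ad,
  nat_lit 0xbd00102f1d11b1,
  nat_lit 0x710bd00102f1261a0,
  nat_lit 0x9507300102f1d40fa,
  nat_lit 0x9c07400102f1d61a4,
  nat_lit 0x17407300102f053046,
  nat_lit 0x18c07400102f12906c,
  nat_lit 0xb31a71cf005022133123,
  nat_lit 0x12500102f0bf102,
  nat_lit 0x5300102f1db178,
  nat_lit 0x5300102f0c10f0,
  nat_lit 0x5300102f1dd17a,
  nat_lit 0x5300102f12f176,
  nat_lit 0x12900102f131188,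
  nat_lit 0x1d500102f1d91a3,
  nat_lit 0x5300102f12d033,
  nat_lit 0x12900102f1df1af,
  nat_lit 0x17d12500102f12c192,
  nat_lit 0x1701d400102f1d701d,
  nat_lit 0x1860b600301c1e7133,
  nat_lit 0x12b00102f1e118e,
  nat_lit 0x12b00102f1e31ab,
  nat_lit 0x1d700102f1e516d,
  nat_lit 0x1b30b40080251351e7,
  nat_lit 0xc00a204e0030220c50c3,
  nat_lit 0x1131830010211e9135,
  nat_lit 0xc60b1002025138114,
  nat_lit 0x1be1e30f20080151eb0a3,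
  nat_lit 0x1391e204700501d075051,
  nat_lit 0x9d1eb00100c1ed1bc,
  nat_lit 0x4904c0020231f7075,
  nat_lit 0x1ed09d10300800d1ef196,
  nat_lit 0x751f707209912d13001d02404705000102713b115,
  nat_lit 0x7613c1190520480231e60c112e09a0040260550ab,
  nat_lit 0x550010171f9139,
  nat_lit 0x1380710550020180c71f6,
  nat_lit 0x1e90c800102f0580c4,
  nat_lit 0x1b60c700102f035138,
  nat_lit 0xc60c700102f13e1b8,
  nat_lit 0x3505700102f1fd0b8,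
  nat_lit 0x3505700102f1ff04d,
  nat_lit 0x7203505700102f02c1c4,
  nat_lit 0xc405803600102f1fb0c0,
  nat_lit 0x1c605803600102f13f0ab,
  nat_lit 0x2b00102f20904b,
  nat_lit 0xb413e00102f202200,
  nat_lit 0x11c02c00102f203128,
  nat_lit 0xab02b00102f20611a,
  nat_lit 0x7602c00102f0cb1d2,
  nat_lit 0x1cb02c00102f1411fa,
  nat_lit 0x1fb0c503500102f077136,
  nat_lit 0x20300102f213109,
  nat_lit 0x770bf13d00102f0ca134,
  nat_lit 0x20513b02c00102f20810c,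
  nat_lit 0xcb05602b00102f079052,
  nat_lit 0x1411c714000102f20b049,
  nat_lit 0x7709e07700102f07b029,
  nat_lit 0x1fe07807c00102f20f166,
  nat_lit 0x2010b60ca07c00102f211068,
  nat_lit 0x790cb05613f00102f20e1cd,
  nat_lit 0x20b14111d0ca07c00102f1441da,
  nat_lit 0x14300102f21903b,
  nat_lit 0x14300102f0d31dd,
  nat_lit 0x21100102f145031,
  nat_lit 0xa820821000102f0d101e,
  nat_lit 0x1dc07b0c912100102f0ce20e,
  nat_lit 0xd100102f149085,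
  nat_lit 0xd100102f21d023,
  nat_lit 0xd100102f0d5213,
  nat_lit 0x1320cd07900102f2161f0,
  nat_lit 0x1e007a0ce00102f2180b0,
  nat_lit 0xc10cd0790cb00102f0d0056,
  nat_lit 0xcf00102f147128,
  nat_lit 0xcf00102f21b20a,
  nat_lit 0xcf00102f07d049,
  nat_lit 0x21500102f21f193,
  nat_lit 0x21700102f14b0af,
  nat_lit 0x982200211690681450300260d802f14606416803021d0c11310980ee02302e2221f4,
  nat_lit 0x1f422200102f2241f2]
def cB_s_p1 : List ℕ := [nat_lit 0x22300102f2251f1,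
  nat_lit 0x7e14704222604114807d00402b14e0f6,
  nat_lit 0x14d0f514d00102f228181,
  nat_lit 0x22700102f14f17f,
  nat_lit 0x15007e0d414b0980ed04114a0d515012f0d307d0d61490d621b04214c01202e22a0d3,
  nat_lit 0x1e22900102f15221a,
  nat_lit 0x1510d815100102f22b059,
  nat_lit 0x2000102f01322c]
noncomputable def cB_s : CE where
  p0 := 0
  F := (Nat.sub (Nat.shiftLeft 1 1) 1)
  masks := [cB_s_m0, cB_s_m1, cB_s_m2, cB_s_m3, cB_s_m4, cB_s_m5, cB_s_m6, cB_s_m7, cB_s_m8, cB_s_m9, cB_s_m10, cB_s_m11, cB_s_m12, cB_s_m13]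
  gprog := []
  cprog := [15, 44, 45, 14, 63, 22, 16, 17, 28, 67, 46, 70, 29, 30, 52, 24, 31, 182, 32, 25, 189, 76, 122, 191, 77, 125, 20, 126, 127, 199, 201, 54, 83, 130, 132, 84, 204, 36, 86, 208, 134, 37, 209, 210, 87, 136, 88, 217, 89, 137, 220, 90, 224, 38, 248, 249, 156]
  sids := [0, 1, 2, 3, 4, 5, 6, 7, 8]
  t0 := cB_s_t
  s := 12
  progs := [cB_s_p0, cB_s_p1]
  O := (Nat.sub (Nat.shiftLeft 1 1) 1)
  yids := [0, 1, 2, 3, 4, 5, 6, 7, 8, 9]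
theorem cB_s_chk : ∃ progs, CE.check { cB_s with progs := progs } cB_s_nets (imOf [0, 1, 2, 3, 4, 5]) cB_s_rels [[0], [2], [4], [6], [8], [10], [12], [14], [16]] [[0], [2], [4], [6], [8], [10], [12], [14], [16], [18]] = true :=
  ⟨cB_s.progs, by decide +kernel⟩
theorem cB_s_idx {Γ : Type*} [Group Γ] {g : ℕ → Γ} (hi : InvOk g (imOf [0, 1, 2, 3, 4, 5])) (hr : ∀ r ∈ cB_s_rels, ev g r = 1)
    {H : Subgroup Γ} (hs : ∀ u ∈ ([[0], [2], [4], [6], [8], [10], [12], [14], [16]] : List (List ℕ)), ev g u ∈ H) :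
    H.relIndex (gen g [[0], [2], [4], [6], [8], [10], [12], [14], [16], [18]]) ≠ 0 ∧ H.relIndex (gen g [[0], [2], [4], [6], [8], [10], [12], [14], [16], [18]]) ≤ 1 :=
  Reach.relIndex_le cB_s_model hi hr hs cB_s_chk (by decide +kernel)

theorem cB_index {Γ : Type*} [Group Γ] {g : ℕ → Γ} (h : ∀ r ∈ sqW [0, 1, 2, 3, 4, 5] ++ cB_rels, ev g r = 1)
    {H : Subgroup Γ} (hs : ∀ u ∈ ([[0], [2], [4], [6], [8], [10], [12], [14], [16]] : List (List ℕ)), ev g u ∈ H) :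
    H.relIndex (gen g [[0], [2], [4], [6], [8], [10], [12], [14], [16], [18]]) ≠ 0 ∧ H.relIndex (gen g [[0], [2], [4], [6], [8], [10], [12], [14], [16], [18]]) ≤ 1 :=
  have hi := invOk_of_sqW fun w hw => h w (List.mem_append_left _ hw)
  cB_s_idx hi (conseq_sound hi (fun w hw => h w (List.mem_append_right _ hw)) (hs := [1, 1025, 2049, 3073, 4097, 5121, 6145, 7169, 8193, 9217, 10241, 11265, 12289, 13313, 14337, 15361, 16385, 17409, 18433, 19457, 20481, 21505, 22529, 23553, 24577, 25601, 26625, 27649, 28673, 29697, 30721, 31745, 32769, 33793, 34817, 35841, 36865, 37889, 38913, 39937, 40961, 41985, 43009, 44033, 45057, 46081]) (by decide +kernel)) hs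

/-- generators a b c d z t x y; relators (za)^2 (zb)^2 (zc)^2 (zd)^2 (ab)^2 (cd)^2 (ac)^2 (bd)^2 (ad)^2z (bc)^2z xxx xax^-1b xbx^-1ab xcx^-1d xdx^-1cd xzx^-1z (tx)^2 (ta)^2 (tc)^2 (tz)^2 tbtab tdtcd yyy yby^-1b (dy)^2 yzy^-1a yay^-1za ycy^-1t yty^-1tc (dy^-1tx^-1)^3zab -/
def cC_rels : List (List ℕ) := [[8, 0, 8, 0],
  [8, 2, 8, 2],
  [8, 4, 8, 4],
  [8, 6, 8, 6],
  [0, 2, 0, 2],
  [4, 6, 4, 6],
  [0, 4, 0, 4],
  [2, 6, 2, 6],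
  [0, 6, 0, 6, 8],
  [2, 4, 2, 4, 8],
  [12, 12, 12],
  [12, 0, 13, 2],
  [12, 2, 13, 0, 2],
  [12, 4, 13, 6],
  [12, 6, 13, 4, 6],
  [12, 8, 13, 8],
  [10, 12, 10, 12],
  [10, 0, 10, 0],
  [10, 4, 10, 4],
  [10, 8, 10, 8],
  [10, 2, 10, 0, 2],
  [10, 6, 10, 4, 6],
  [14, 14, 14],
  [14, 2, 15, 2],
  [6, 14, 6, 14],
  [14, 8, 15, 0],
  [14, 0, 15, 8, 0],
  [14, 4, 15, 10],
  [14, 10, 15, 10, 4],
  [6, 15, 10, 13, 6, 15, 10, 13, 6, 15, 10, 13, 8, 0, 2]]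

def cC_s_nets_n2_0 : ℕ := (nat_lit 0x333333333333333333333333333333333333333333)
def cC_s_nets_n2_1 : ℕ := (nat_lit 0x50050050050555550055050555000555000550500)
def cC_s_nets_n3_0 : ℕ := (nat_lit 0x555555555555555555555555555555555555555555)
def cC_s_nets_n5_0 : ℕ := (nat_lit 0x40040040040444440044040444000444000440400)
def cC_s_nets_n5_1 : ℕ := (nat_lit 0xf0f0f0f0f0f0f0f0f0f0f0f0f0f0f0f0f0f0f0f0f)
def cC_s_nets_n5_2 : ℕ := (nat_lit 0x111121122212122221211112222222122111222222)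
def cC_s_nets_n5_3 : ℕ := (nat_lit 0x40015510015114415514015444000111500440400)
def cC_s_nets_n6_0 : ℕ := (nat_lit 0x40040040040444440044040444000444000440400)
def cC_s_nets_n6_1 : ℕ := (nat_lit 0xf00000f00000f00000f00000f00000f00000f)
def cC_s_nets_n6_2 : ℕ := (nat_lit 0xff0000ff0000ff0000ff0000ff0000ff0000ff)
def cC_s_nets_n6_3 : ℕ := (nat_lit 0xf00000f00000f00000f00000f00000f00000f0)
def cC_s_nets_n6_4 : ℕ := (nat_lit 0x222212122212222222222222222222222222222222)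
def cC_s_nets_n6_5 : ℕ := (nat_lit 0x401454101404505054400404000444000444004044)
def cC_s_nets_n7_0 : ℕ := (nat_lit 0x440504400440004100414100000000000000000000)
def cC_s_nets_n7_1 : ℕ := (nat_lit 0x132333113201001232133131301010001020301010)
def cC_s_nets_n7_2 : ℕ := (nat_lit 0xc0f0a060c0f030c00060c000000000000000000)
def cC_s_nets_n7_3 : ℕ := (nat_lit 0x90003a001f006100f50022003a00f0008000f5)
def cC_s_nets_n7_4 : ℕ := (nat_lit 0x6e2d0000518e00006cf700006afa00000057)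
def cC_s_nets_n7_5 : ℕ := (nat_lit 0xc8000000006e01592c0000000068ea9d00)
def cC_s_nets_n7_6 : ℕ := (nat_lit 0x877848c537957ee9)
def cC_s_nets_n7_7 : ℕ := (nat_lit 0xffffffffff)
def cC_s_nets_n7_8 : ℕ := (nat_lit 0xf2df2ae91e)
def cC_s_nets_n7_9 : ℕ := (nat_lit 0xc10000000095c6eef700000000bd9d37da)
def cC_s_nets_n7_10 : ℕ := (nat_lit 0x519e00006c45000050ff0000a8fd00007faf)
def cC_s_nets_n7_11 : ℕ := (nat_lit 0xe000f5006f005b003a00d700f500f00080003a)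
def cC_s_nets_n7_12 : ℕ := (nat_lit 0x60c0505070c0a030d060e0e00060c0a000c05000c)
def cC_s_nets_n7_13 : ℕ := (nat_lit 0x101011220232112131100132301320221310212020)
def cC_s_nets_n7_14 : ℕ := (nat_lit 0x440504400440004100414100000000000000000000)
def cC_s_nets_n2 : Net :=
  (Net.cons cC_s_nets_n2_0 (nat_lit 2) (Net.cons cC_s_nets_n2_1 (nat_lit 1) Net.nil))
def cC_s_nets_n3 : Net :=
  (Net.cons cC_s_nets_n3_0 (nat_lit 1) Net.nil)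
def cC_s_nets_n5 : Net :=
  (Net.cons cC_s_nets_n5_0 (nat_lit 1) (Net.cons cC_s_nets_n5_1 (nat_lit 4) (Net.cons cC_s_nets_n5_2 (nat_lit 2) (Net.cons cC_s_nets_n5_3 (nat_lit 1) Net.nil))))
def cC_s_nets_n6 : Net :=
  (Net.cons cC_s_nets_n6_0 (nat_lit 1) (Net.cons cC_s_nets_n6_1 (nat_lit 8) (Net.cons cC_s_nets_n6_2 (nat_lit 16) (Net.cons cC_s_nets_n6_3 (nat_lit 8) (Net.cons cC_s_nets_n6_4 (nat_lit 2) (Net.cons cC_s_nets_n6_5 (nat_lit 1) Net.nil))))))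
def cC_s_nets_n7 : Net :=
  (Net.cons cC_s_nets_n7_0 (nat_lit 1) (Net.cons cC_s_nets_n7_1 (nat_lit 2) (Net.cons cC_s_nets_n7_2 (nat_lit 4) (Net.cons cC_s_nets_n7_3 (nat_lit 8) (Net.cons cC_s_nets_n7_4 (nat_lit 16) (Net.cons cC_s_nets_n7_5 (nat_lit 32) (Net.cons cC_s_nets_n7_6 (nat_lit 64) (Net.cons cC_s_nets_n7_7 (nat_lit 128) (Net.cons cC_s_nets_n7_8 (nat_lit 64) (Net.cons cC_s_nets_n7_9 (nat_lit 32) (Net.cons cC_s_nets_n7_10 (nat_lit 16) (Net.cons cC_s_nets_n7_11 (nat_lit 8) (Net.cons cC_s_nets_n7_12 (nat_lit 4) (Net.cons cC_s_nets_n7_13 (nat_lit 2) (Net.cons cC_s_nets_n7_14 (nat_lit 1) Net.nil)))))))))))))))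
def cC_s_nets : List Net := [Net.nil, Net.nil, cC_s_nets_n2, cC_s_nets_n3, Net.nil, cC_s_nets_n5, cC_s_nets_n6, cC_s_nets_n7]
def cC_s_rels : List (List ℕ) := [[8, 0, 8, 0],
  [8, 2, 8, 2],
  [8, 4, 8, 4],
  [8, 6, 8, 6],
  [0, 2, 0, 2],
  [4, 6, 4, 6],
  [0, 4, 0, 4],
  [2, 6, 2, 6],
  [0, 6, 0, 6, 8],
  [2, 4, 2, 4, 8],
  [12, 12, 12],
  [12, 0, 13, 2],
  [12, 2, 13, 0, 2],
  [12, 4, 13, 6],
  [12, 6, 13, 4, 6],
  [12, 8, 13, 8],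
  [10, 12, 10, 12],
  [10, 0, 10, 0],
  [10, 4, 10, 4],
  [10, 8, 10, 8],
  [10, 2, 10, 0, 2],
  [10, 6, 10, 4, 6],
  [14, 14, 14],
  [14, 2, 15, 2],
  [6, 14, 6, 14],
  [14, 8, 15, 0],
  [14, 0, 15, 8, 0],
  [14, 4, 15, 10],
  [14, 10, 15, 10, 4],
  [6, 15, 10, 13, 6, 15, 10, 13, 6, 15, 10, 13, 8, 0, 2]]
theorem cC_s_nets_ok : allL (Net.ok 168) cC_s_nets = true := by decide +kernel
theorem cC_s_rel_s0 : relsAt cC_s_nets 168 8 (List.range' 0 8) (sqW [0, 1, 2, 3, 4, 5] ++ cC_s_rels) = true := by decide +kernel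
theorem cC_s_rel : ∀ w ∈ (sqW [0, 1, 2, 3, 4, 5] ++ cC_s_rels), ev (netGen cC_s_nets) w = 1 :=
  SlicesOk.rel (K := 8) ((SlicesOk.zero _ _ _ _).step 8 cC_s_rel_s0)
    cC_s_nets_ok (by norm_num)
theorem cC_s_model : Model 168 cC_s_nets (imOf [0, 1, 2, 3, 4, 5]) cC_s_rels := Model.of_rel cC_s_nets_ok cC_s_rel
def cC_s_t : Tr := (Tr.node (Tr.node (Tr.node (Tr.node (Tr.node (Tr.node (Tr.node Tr.leaf [13] 4 11 0 Tr.leaf) [6] 6 6 0 Tr.leaf) [0] 6 5 0 (Tr.node (Tr.node Tr.leaf [8] 4 9 0 Tr.leaf) [12] 4 10 0 Tr.leaf)) [14] 0 0 0 (Tr.node (Tr.node (Tr.node Tr.leaf [12] 1 4 0 Tr.leaf) [13] 0 7 0 Tr.leaf) [4] 0 2 0 (Tr.node (Tr.node Tr.leaf [] 7 0 0 Tr.leaf) [6] 4 8 0 Tr.leaf))) [6] 0 0 0 (Tr.node (Tr.node (Tr.node (Tr.node Tr.leaf [13] 5 0 0 Tr.leaf) [12] 2 2 0 Tr.leaf) [15] 6 4 0 (Tr.node (Tr.node Tr.leaf [13] 6 4 0 Tr.leaf) [4] 2 2 0 Tr.leaf))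 [0] 0 4 0 (Tr.node (Tr.node (Tr.node Tr.leaf [8] 3 5 0 Tr.leaf) [6] 1 0 0 Tr.leaf) [2] 2 0 0 (Tr.node Tr.leaf [15] 8 6 0 Tr.leaf)))) [2] 0 0 0 (Tr.node (Tr.node (Tr.node (Tr.node (Tr.node Tr.leaf [2] 3 6 0 Tr.leaf) [14] 0 5 0 Tr.leaf) [15] 5 5 0 (Tr.node (Tr.node Tr.leaf [0] 3 6 0 Tr.leaf) [6] 4 3 0 Tr.leaf)) [15] 0 0 0 (Tr.node (Tr.node (Tr.node Tr.leaf [13] 4 6 0 Tr.leaf) [10] 5 6 0 Tr.leaf) [12] 0 3 0 (Tr.node Tr.leaf [14] 9 4 0 Tr.leaf))) [10] 0 0 0 (Tr.node (Tr.node (Tr.node (Tr.node Tr.leaf [0] 5 2 0 Tr.leaf) [] 6 4 0 Tr.leaf) [15] 4 5 0 (Tr.node (Tr.node Tr.leaf [2] 2 3 0 Tr.leaf) [10] 2 0 0 Tr.leaf)) [15] 0 2 0 (Tr.node (Tr.node (Tr.node Tr.leaf [4] 4 4 0 Tr.leaf) [15] 2 1 0 Tr.leaf) [10] 4 4 0 (Tr.node Tr.leaf [0] 11 6 0 Tr.leaf))))) [0] 0 0 0 (Tr.node (Tr.node (Tr.node (Tr.node (Tr.node (Tr.node Tr.leaf [2] 11 7 0 Tr.leaf)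 [8] 4 0 0 Tr.leaf) [] 6 5 0 (Tr.node (Tr.node Tr.leaf [6] 9 4 0 Tr.leaf) [10] 10 5 0 Tr.leaf)) [13] 0 0 0 (Tr.node (Tr.node (Tr.node Tr.leaf [8] 3 4 0 Tr.leaf) [6] 2 1 0 Tr.leaf) [6] 2 0 0 (Tr.node Tr.leaf [8] 8 4 0 Tr.leaf))) [8] 0 0 0 (Tr.node (Tr.node (Tr.node (Tr.node Tr.leaf [12] 2 5 0 Tr.leaf) [10] 1 0 0 Tr.leaf) [12] 6 6 0 (Tr.node (Tr.node Tr.leaf [8] 4 7 0 Tr.leaf) [4] 1 0 0 Tr.leaf)) [8] 0 6 0 (Tr.node (Tr.node (Tr.node Tr.leaf [4] 3 0 0 Tr.leaf) [10] 3 0 0 Tr.leaf) [2] 4 0 0 (Tr.node Tr.leaf [15] 4 11 0 Tr.leaf)))) [4] 0 0 0 (Tr.node (Tr.node (Tr.node (Tr.node (Tr.node Tr.leaf [] 3 5 0 Tr.leaf) [] 5 2 0 Tr.leaf) [6] 5 5 0 (Tr.node (Tr.node Tr.leaf [13] 1 0 0 Tr.leaf) [10] 5 5 0 Tr.leaf)) [2] 0 5 0 (Tr.node (Tr.node (Tr.node Tr.leaf [6] 6 5 0 Tr.leaf) [0] 5 5 0 Tr.leaf) [10] 2 2 0 (Tr.node Tr.leaf [14] 6 9 0 Tr.leaf)))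 [12] 0 0 0 (Tr.node (Tr.node (Tr.node (Tr.node Tr.leaf [] 5 1 0 Tr.leaf) [14] 0 1 0 Tr.leaf) [12] 5 4 0 (Tr.node (Tr.node Tr.leaf [] 3 0 0 Tr.leaf) [4] 3 3 0 Tr.leaf)) [] 5 4 0 (Tr.node (Tr.node (Tr.node Tr.leaf [10] 7 3 0 Tr.leaf) [4] 6 6 0 Tr.leaf) [10] 6 6 0 (Tr.node Tr.leaf [8] 11 4 0 Tr.leaf))))))
def cC_s_m0 : ℕ := (nat_lit 0)
def cC_s_m1 : ℕ := (nat_lit 0)
def cC_s_m2 : ℕ := (nat_lit 0x4080008880004000080088004088008080004)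
def cC_s_m3 : ℕ := (nat_lit 0x20020020020000022a)
def cC_s_m4 : ℕ := (nat_lit 0)
def cC_s_m5 : ℕ := (nat_lit 0x800000400000080000400000800000400000d0)
def cC_s_m6 : ℕ := (nat_lit 0x5a00003e00007600001700007700007700007f000)
def cC_s_m7 : ℕ := (nat_lit 0x18506114109210066188021a0000510000a2000000)
def cC_s_m8 : ℕ := (nat_lit 0x600d00600500200900700900d00d00d00d00f00d00)
def cC_s_m9 : ℕ := (nat_lit 0x82021a800a2540909206842500002a000015000000)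
def cC_s_p0 : List ℕ := [nat_lit 0x101f005005,
  nat_lit 0x101f007007,
  nat_lit 0x101f00b00b,
  nat_lit 0x101f00d011,
  nat_lit 0x101f00f013,
  nat_lit 0xd00100b00d00d,
  nat_lit 0xf00101700f00f,
  nat_lit 0xe00c00201100b00e,
  nat_lit 0x101f00b00b,
  nat_lit 0xf00b00401c005010,
  nat_lit 0xe00500100e00700d,
  nat_lit 0x800e00300e00d006,
  nat_lit 0xd00700400e00500e,
  nat_lit 0x10008002019007010,
  nat_lit 0x101f007007,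
  nat_lit 0xb01000301c00f006,
  nat_lit 0x7005002006005008,
  nat_lit 0x1000c00f00901d00b006,
  nat_lit 0x101f00b00b,
  nat_lit 0xb00500101300500c,
  nat_lit 0xd00700400e00500e,
  nat_lit 0x5007001006007006,
  nat_lit 0xd00700500500f00700e,
  nat_lit 0x101f007007,
  nat_lit 0xb00700500501600700c,
  nat_lit 0x101f007007,
  nat_lit 0xe00700d00900f005008,
  nat_lit 0x101f005005,
  nat_lit 0x800e00300e00d006,
  nat_lit 0x500b00201300b006,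
  nat_lit 0x1000500101c00b00f,
  nat_lit 0x700f00101900f008,
  nat_lit 0x5007001006007006,
  nat_lit 0xf00b00500401d00b010,
  nat_lit 0x10008002019007010,
  nat_lit 0x101f007007,
  nat_lit 0x600c01000301d00f00c,
  nat_lit 0xe00c00201100b00e,
  nat_lit 0x101f00b00b,
  nat_lit 0xb00500101300500c,
  nat_lit 0xb00700500501600700c,
  nat_lit 0x700500b00301600b008,
  nat_lit 0x7005002006005008,
  nat_lit 0x600800e00600f00d008,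
  nat_lit 0xf00b00401c005010,
  nat_lit 0xd00700400e00500e,
  nat_lit 0xe00c00201100b00e,
  nat_lit 0x101f00b00b,
  nat_lit 0xd00700500500f00700e,
  nat_lit 0xe00500100e00700d,
  nat_lit 0x1000500101c00b00f,
  nat_lit 0xe00700d00900f005008,
  nat_lit 0x101f005005,
  nat_lit 0x10008002019007010,
  nat_lit 0x101f007007,
  nat_lit 0x1000700201905804e,
  nat_lit 0x4d00c00401c069010,
  nat_lit 0x6a007001006057006,
  nat_lit 0x505700100600706a,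
  nat_lit 0x101f007007,
  nat_lit 0x700f00101900f008,
  nat_lit 0x1000500101c06c01c,
  nat_lit 0x1000c01c00a01d00506c,
  nat_lit 0x3300700400e06d034,
  nat_lit 0xe00b00201105a034,
  nat_lit 0x5906d00101300505a,
  nat_lit 0x1700500100709b018,
  nat_lit 0x1900500100305d01a,
  nat_lit 0x15007001008025016,
  nat_lit 0x1900700100403f01a,
  nat_lit 0x1900b00201403d01a,
  nat_lit 0x1700b00201203b018,
  nat_lit 0x6f017007001009071018,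
  nat_lit 0x1b00201705b04e,
  nat_lit 0x1900e00301002901a,
  nat_lit 0x1500e00300c02d018,
  nat_lit 0x4f00c00201109d034,
  nat_lit 0x3300800400e09900e,
  nat_lit 0x1b00500101c03501c,
  nat_lit 0x1b00800201905104e,
  nat_lit 0x1900f00201a027018,
  nat_lit 0x1500f002018023016,
  nat_lit 0x9f01701000601b073018,
  nat_lit 0x1701001800801b07e07a,
  nat_lit 0x1b008002019031010,
  nat_lit 0x9f0700010040a1072,
  nat_lit 0x2e03b002011062060,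
  nat_lit 0x6f027004019077040,
  nat_lit 0x7907100101a07b078,
  nat_lit 0x28001017075073,
  nat_lit 0x4d00600c00501d049010,
  nat_lit 0xc01000c00101d02f01c,
  nat_lit 0x5c04a00401c030010,
  nat_lit 0x3c02704002a03e0760a206006202302601501801901e07f07d,
  nat_lit 0x7f01700100c081050,
  nat_lit 0x9d08107c00501508303e,
  nat_lit 0x1501a05d08300300a08606e,
  nat_lit 0x8500101f087033,
  nat_lit 0x3200508700300f089026,
  nat_lit 0x8a01500d00900d08c016,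
  nat_lit 0x1500c01608c005015045036,
  nat_lit 0x5104500101f08e026,
  nat_lit 0x8d00101f08f02e,
  nat_lit 0x8f05102f00500f063034,
  nat_lit 0x6301701a0070090a3040,
  nat_lit 0x63017007001009091018,
  nat_lit 0x9103300201009301a,
  nat_lit 0x2e09c00100e096094,
  nat_lit 0x9503e04000701605305e,
  nat_lit 0x5302e0040110a703c,
  nat_lit 0xa70190010100a9050,
  nat_lit 0x5204d00b00d00700f00b00d00700f00b00d01a01e01e0ab0a3,
  nat_lit 0x1506b0ac0070150530a4,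
  nat_lit 0x5a01a001014097053,
  nat_lit 0x1509909801500600a045030,
  nat_lit 0x4500101f037015,
  nat_lit 0x6b01b00800e00c0100310380180aa04f04905b03200f01e0ae034,
  nat_lit 0x340ae00101f0b0050,
  nat_lit 0xaf00101f00d04f,
  nat_lit 0x5800d06900200f0a5058,
  nat_lit 0xa600c00301104900d,
  nat_lit 0x490a600101100d00c,
  nat_lit 0x5c04a00401c030010,
  nat_lit 0x3200e00300e047030,
  nat_lit 0x1900e00c01003104803601b00800e00c01000801d01e01f016,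
  nat_lit 0x1500d01601f00500d02202a,
  nat_lit 0x1700f01a00201b02b020,
  nat_lit 0x3f02200101f021026,
  nat_lit 0x2d02100101f04c02a,
  nat_lit 0x2c00101f01e023,
  nat_lit 0x3b04b00101f04c03e,
  nat_lit 0x2a04c00101f02102d,
  nat_lit 0x2a02201500d00900d01f016,
  nat_lit 0x2401e00101f022027,
  nat_lit 0x2702200101f01e024,
  nat_lit 0x1700f01a00201b02b020,
  nat_lit 0x2d02100101f04c02a,
  nat_lit 0x2a02201500d00900d01f016,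
  nat_lit 0x1d00101f02b024,
  nat_lit 0x3b04b00101f04c03e,
  nat_lit 0x1901001800101b01f02c,
  nat_lit 0x2a04c00101f02102d,
  nat_lit 0x2c00101f01e023,
  nat_lit 0x1700f01a00201b02b020,
  nat_lit 0x2702200101f01e024,
  nat_lit 0x2c00101f01e023,
  nat_lit 0x2401e00101f022027,
  nat_lit 0x3200f00b00d01a02001500700f00b00d00701c01001e047036,
  nat_lit 0x1d00101f02b024,
  nat_lit 0x3f02200101f021026,
  nat_lit 0xd03100400e02f048,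
  nat_lit 0x2702200101f01e024,
  nat_lit 0x2a02201500d00900d01f016,
  nat_lit 0x1901001800101b01f02c,
  nat_lit 0xb03001b00601d00f00c,
  nat_lit 0x3104800300e00d02f,
  nat_lit 0x1500d01601f00500d02202a,
  nat_lit 0x1500f002018023016,
  nat_lit 0x1900f00201a027018,
  nat_lit 0x10008002019007010,
  nat_lit 0x101f007007,
  nat_lit 0xf00b00401c005010,
  nat_lit 0x800e00300e00d006,
  nat_lit 0xe00c00201100b00e,
  nat_lit 0x101f00b00b,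
  nat_lit 0x1000b00f00a01d00500c,
  nat_lit 0x101f005005,
  nat_lit 0xb01000301c00f006,
  nat_lit 0x15007001008025016,
  nat_lit 0x1900e00301002901a,
  nat_lit 0x1500e00300c02d018,
  nat_lit 0x1b00500101c03501c,
  nat_lit 0x4d00600c00501d049010,
  nat_lit 0x700b00700701600b006,
  nat_lit 0x600c01000301d00f00c,
  nat_lit 0x5007001006007006,
  nat_lit 0x600800e00600f00d008,
  nat_lit 0x1500f002018023016,
  nat_lit 0x1900f00201a027018,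
  nat_lit 0x9f01701000601b073018,
  nat_lit 0x1701001800801b07e07a,
  nat_lit 0x2e03b002011062060,
  nat_lit 0x1700b00201203b018,
  nat_lit 0x1900b00201403d01a,
  nat_lit 0x1500e00300c02d018,
  nat_lit 0x1900e00301002901a,
  nat_lit 0x6f027004019077040,
  nat_lit 0x7907100101a07b078,
  nat_lit 0x2702200101f01e024,
  nat_lit 0x2e03b002011062060,
  nat_lit 0x28001017075073,
  nat_lit 0x5c04a00401c030010,
  nat_lit 0x1700f01a00201b02b020,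
  nat_lit 0x3c02704002a03e0760a206006202302601501801901e07f07d,
  nat_lit 0xd00100b00d00d,
  nat_lit 0x2a02201500d00900d01f016,
  nat_lit 0x7f01700100c081050,
  nat_lit 0x9d08107c00501508303e,
  nat_lit 0x1501a05d08300300a08606e,
  nat_lit 0x8500101f087033]
def cC_s_p1 : List ℕ := [nat_lit 0x3200508700300f089026,
  nat_lit 0x8a01500d00900d08c016,
  nat_lit 0x1500c01608c005015045036,
  nat_lit 0x4500101f037015,
  nat_lit 0x9a01604602f00100a097016,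
  nat_lit 0x9705a00201405301a,
  nat_lit 0x5405d03f00401609603e,
  nat_lit 0x9b02d00200e093095,
  nat_lit 0x94019004010092034,
  nat_lit 0x17007018009009063091,
  nat_lit 0x5102f03400300f08f063,
  nat_lit 0x9000101f08e02d,
  nat_lit 0x5208d00101f046026,
  nat_lit 0x4500101f037015,
  nat_lit 0x2c00101f01e023,
  nat_lit 0x1700f01a00201b02b020,
  nat_lit 0x2c00101f01e023,
  nat_lit 0x1d00101f039015,
  nat_lit 0xd03901700500d00300e,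
  nat_lit 0xd00300400c00100e,
  nat_lit 0xf00100401a009010,
  nat_lit 0x7009002004009008,
  nat_lit 0xe00900101000900d,
  nat_lit 0xd00900401000900e,
  nat_lit 0x1000900101a00100f,
  nat_lit 0xe00100100c00300d,
  nat_lit 0x1700700100a009041008,
  nat_lit 0xf04101700401b001010,
  nat_lit 0x1701000100801b04100f,
  nat_lit 0xf00100401a009010,
  nat_lit 0x3501b00b00101d06701c,
  nat_lit 0x15001002005055016,
  nat_lit 0x5501500b006015065016,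
  nat_lit 0x3701b003018043016,
  nat_lit 0x600c04400301d043066,
  nat_lit 0xb00d00700f00b00d00700f00b00d04101701600401e043026,
  nat_lit 0x4401500101803801c,
  nat_lit 0x3706803800a00a009006,
  nat_lit 0xd00900401000900e,
  nat_lit 0x7009002004009008,
  nat_lit 0xe00900101000900d,
  nat_lit 0x9007001003009001008,
  nat_lit 0xb00900101400900c,
  nat_lit 0x1000900101a00100f,
  nat_lit 0x900500300300a003006,
  nat_lit 0x7009002004009008,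
  nat_lit 0x15001002005055016,
  nat_lit 0x1700700100a009041008,
  nat_lit 0x5501500b006015065016,
  nat_lit 0xe00100100c00300d,
  nat_lit 0x1700e00300100d03900d,
  nat_lit 0xf003004018003010,
  nat_lit 0x400c00400801500100c,
  nat_lit 0x100b00300101500300c,
  nat_lit 0x1000300101800300f,
  nat_lit 0x3a00101f01e016,
  nat_lit 0xd00300400c00100e,
  nat_lit 0x1700e00300100d03900d,
  nat_lit 0x15001002005055016,
  nat_lit 0x400600400a00a009006,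
  nat_lit 0x3a00101f01e016,
  nat_lit 0x1d00101f02b024,
  nat_lit 0x1700700100a009041008,
  nat_lit 0x5501500b006015065016,
  nat_lit 0x1900801801d00300901f026,
  nat_lit 0x1500d01601f00500d02202a,
  nat_lit 0x200800200a009009008,
  nat_lit 0xb00900101400900c,
  nat_lit 0x1901001800101b01f02c,
  nat_lit 0x1700701a02000600901e026,
  nat_lit 0x1d00101f039015,
  nat_lit 0x2702200101f01e024,
  nat_lit 0x1d00101f039015,
  nat_lit 0xd03901700500d00300e,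
  nat_lit 0x5001002007001006,
  nat_lit 0x500300900700a003006,
  nat_lit 0xb00504400601d043066,
  nat_lit 0x1701000100801b04100f,
  nat_lit 0xd00300400c00100e,
  nat_lit 0x4401500101803801c,
  nat_lit 0x5001002007001006,
  nat_lit 0xf00100401a009010,
  nat_lit 0xf04101700401b001010,
  nat_lit 0xf00900100401b001010,
  nat_lit 0xd00900401000900e,
  nat_lit 0x3200f00b00d01a02001500700f00b00d00701c01001e047036,
  nat_lit 0x3104800300e00d02f,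
  nat_lit 0xd00700500500f00700e,
  nat_lit 0xd00700400e00500e,
  nat_lit 0xd00100b00d00d,
  nat_lit 0xe00c00201100b00e,
  nat_lit 0x101f00b00b,
  nat_lit 0xe00500100e00700d,
  nat_lit 0x15007001008025016,
  nat_lit 0x5007001006007006,
  nat_lit 0x500b00201300b006,
  nat_lit 0x700f00101900f008,
  nat_lit 0x1700700100a009041008,
  nat_lit 0xc01000c00101d02f01c,
  nat_lit 0x15007001008025016,
  nat_lit 0x800e00300e00d006,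
  nat_lit 0x3501b00b00101d06701c,
  nat_lit 0xc01000301c00f006,
  nat_lit 0x600c01000301d00f00c,
  nat_lit 0x10008002019007010,
  nat_lit 0xf00b00401c005010,
  nat_lit 0x15007001008025016,
  nat_lit 0x1b00500101c03501c,
  nat_lit 0x500b00201300b006,
  nat_lit 0x700e00300e00d006,
  nat_lit 0x3501b00b00101d06701c,
  nat_lit 0xb00d00700f00b00d00700f00b00d04101701600401e043026,
  nat_lit 0x4401500101803801c,
  nat_lit 0x3706803800a00a009006,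
  nat_lit 0x7009002004009008,
  nat_lit 0x9007001003009001008,
  nat_lit 0x900500300300a003006,
  nat_lit 0x1000900101a00100f,
  nat_lit 0xe00100100c00300d,
  nat_lit 0x1700e00300100d03900d,
  nat_lit 0x3a00101f01e016,
  nat_lit 0x1900801801d00300901f026,
  nat_lit 0xb00900101400900c,
  nat_lit 0x5001002007001006,
  nat_lit 0xf003004018003010,
  nat_lit 0x3200f00b00d01a02001500700f00b00d00701c01001e047036,
  nat_lit 0x3104800300e00d02f,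
  nat_lit 0xd00100b00d00d,
  nat_lit 0xe00c00201100b00e,
  nat_lit 0xe00500100e00700d,
  nat_lit 0xd00700400e00500e,
  nat_lit 0xd00300100500d00300e,
  nat_lit 0x700f00101900f008,
  nat_lit 0xb00501000601d00f00c,
  nat_lit 0x7009002004009008]
noncomputable def cC_s : CE where
  p0 := 0
  F := (Nat.sub (Nat.shiftLeft 1 168) 1)
  masks := [cC_s_m0, cC_s_m1, cC_s_m2, cC_s_m3, cC_s_m4, cC_s_m5, cC_s_m6, cC_s_m7, cC_s_m8, cC_s_m9]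
  gprog := [2, 3, 5, 6, 7, 8, 9, 2, 3, 5, 6, 7, 8, 9, 2, 3, 6, 7, 8, 2]
  cprog := [38, 13, 25, 11, 10, 12, 39, 55, 79, 47, 60]
  sids := []
  t0 := cC_s_t
  s := 12
  progs := [cC_s_p0, cC_s_p1]
  O := (Nat.sub (Nat.shiftLeft 1 168) 1)
  yids := [0, 1, 2, 3, 4, 5, 6, 7]
theorem cC_s_chk : ∃ progs, CE.check { cC_s with progs := progs } cC_s_nets (imOf [0, 1, 2, 3, 4, 5]) cC_s_rels [] [[0], [2], [4], [6], [8], [10], [12], [14]] = true :=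
  ⟨cC_s.progs, by decide +kernel⟩
theorem cC_s_idx {Γ : Type*} [Group Γ] {g : ℕ → Γ} (hi : InvOk g (imOf [0, 1, 2, 3, 4, 5])) (hr : ∀ r ∈ cC_s_rels, ev g r = 1)
    {H : Subgroup Γ} (hs : ∀ u ∈ ([] : List (List ℕ)), ev g u ∈ H) :
    H.relIndex (gen g [[0], [2], [4], [6], [8], [10], [12], [14]]) ≠ 0 ∧ H.relIndex (gen g [[0], [2], [4], [6], [8], [10], [12], [14]]) ≤ 168 :=
  Reach.relIndex_le cC_s_model hi hr hs cC_s_chk (by decide +kernel)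

theorem cC_index {Γ : Type*} [Group Γ] {g : ℕ → Γ} (h : ∀ r ∈ sqW [0, 1, 2, 3, 4, 5] ++ cC_rels, ev g r = 1)
    {H : Subgroup Γ} (hs : ∀ u ∈ ([] : List (List ℕ)), ev g u ∈ H) :
    H.relIndex (gen g [[0], [2], [4], [6], [8], [10], [12], [14]]) ≠ 0 ∧ H.relIndex (gen g [[0], [2], [4], [6], [8], [10], [12], [14]]) ≤ 168 :=
  have hi := invOk_of_sqW fun w hw => h w (List.mem_append_left _ hw)
  cC_s_idx hi (conseq_sound hi (fun w hw => h w (List.mem_append_right _ hw)) (hs := [1, 1025, 2049, 3073, 4097, 5121, 6145, 7169, 8193, 9217, 10241, 11265, 12289, 13313, 14337, 15361, 16385, 17409, 18433, 19457, 20481, 21505, 22529, 23553, 24577, 25601, 26625, 27649, 28673, 29697]) (by decide +kernel)) hs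


end CfsgLib.W2
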