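import Mathlib
import Cfsg.Agent.Lib.W2.Tab

/-! Certified coset enumerations (generated by tools/cosetenum/w2tc.cpp). -/

set_option maxRecDepth 100000
set_option Elab.async false

namespace CfsgLib.W2

open CfsgLib.CosetEnum

/-- generators a b c d z x; relators (za)^2 (zb)^2 (zc)^2 (zd)^2 (ab)^2 (cd)^2 (ac)^2 (bd)^2 (ad)^2z (bc)^2z xxx xax^-1b xbx^-1ab xcx^-1d xdx^-1cd xzx^-1z -/
def pQX_rels : List (List ℕ) := [[8, 0, 8, 0],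
  [8, 2, 8, 2],
  [8, 4, 8, 4],
  [8, 6, 8, 6],
  [0, 2, 0, 2],
  [4, 6, 4, 6],
  [0, 4, 0, 4],
  [2, 6, 2, 6],
  [0, 6, 0, 6, 8],
  [2, 4, 2, 4, 8],
  [10, 10, 10],
  [10, 0, 11, 2],
  [10, 2, 11, 0, 2],
  [10, 4, 11, 6],
  [10, 6, 11, 4, 6],
  [10, 8, 11, 8]]

def pQX_1_nets_n4_0 : ℕ := (nat_lit 0x1)
def pQX_1_nets_n4 : Net :=
  (Net.cons pQX_1_nets_n4_0 (nat_lit 1) Net.nil)
def pQX_1_nets : List Net := [Net.nil, Net.nil, Net.nil, Net.nil, pQX_1_nets_n4, Net.nil]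
def pQX_1_rels : List (List ℕ) := []
theorem pQX_1_nets_ok : allL (Net.ok 2) pQX_1_nets = true := by decide +kernel
theorem pQX_1_rel_s0 : relsAt pQX_1_nets 2 1 (List.range' 0 1) (sqW [0, 1, 2, 3, 4] ++ pQX_1_rels) = true := by decide +kernel
theorem pQX_1_rel : ∀ w ∈ (sqW [0, 1, 2, 3, 4] ++ pQX_1_rels), ev (netGen pQX_1_nets) w = 1 :=
  SlicesOk.rel (K := 1) ((SlicesOk.zero _ _ _ _).step 1 pQX_1_rel_s0)
    pQX_1_nets_ok (by norm_num)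
theorem pQX_1_model : Model 2 pQX_1_nets (imOf [0, 1, 2, 3, 4]) pQX_1_rels := Model.of_rel pQX_1_nets_ok pQX_1_rel
def pQX_1_t : Tr := (Tr.node Tr.leaf [8] 0 0 0 Tr.leaf)
def pQX_1_m0 : ℕ := (nat_lit 0x2)
def pQX_1_p0 : List ℕ := [nat_lit 0x1001001001]
noncomputable def pQX_1 : CE where
  p0 := 0
  F := (Nat.sub (Nat.shiftLeft 1 2) 1)
  masks := [pQX_1_m0]
  gprog := [0]
  cprog := []
  sids := []
  t0 := pQX_1_t
  s := 12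
  progs := [pQX_1_p0]
  O := (Nat.sub (Nat.shiftLeft 1 2) 1)
  yids := [0]
theorem pQX_1_chk : ∃ progs, CE.check { pQX_1 with progs := progs } pQX_1_nets (imOf [0, 1, 2, 3, 4]) pQX_1_rels [] [[8]] = true :=
  ⟨pQX_1.progs, by decide +kernel⟩
theorem pQX_1_idx {Γ : Type*} [Group Γ] {g : ℕ → Γ} (hi : InvOk g (imOf [0, 1, 2, 3, 4])) (hr : ∀ r ∈ pQX_1_rels, ev g r = 1)
    {H : Subgroup Γ} (hs : ∀ u ∈ ([] : List (List ℕ)), ev g u ∈ H) :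
    H.relIndex (gen g [[8]]) ≠ 0 ∧ H.relIndex (gen g [[8]]) ≤ 2 :=
  Reach.relIndex_le pQX_1_model hi hr hs pQX_1_chk (by decide +kernel)

def pQX_2_nets_n0_0 : ℕ := (nat_lit 0x5)
def pQX_2_nets_n1_0 : ℕ := (nat_lit 0x3)
def pQX_2_nets_n0 : Net :=
  (Net.cons pQX_2_nets_n0_0 (nat_lit 1) Net.nil)
def pQX_2_nets_n1 : Net :=
  (Net.cons pQX_2_nets_n1_0 (nat_lit 2) Net.nil)
def pQX_2_nets : List Net := [pQX_2_nets_n0, pQX_2_nets_n1, Net.nil, Net.nil, Net.nil, Net.nil]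
def pQX_2_rels : List (List ℕ) := [[8, 0, 8, 0],
  [8, 2, 8, 2],
  [0, 2, 0, 2]]
theorem pQX_2_nets_ok : allL (Net.ok 4) pQX_2_nets = true := by decide +kernel
theorem pQX_2_rel_s0 : relsAt pQX_2_nets 4 2 (List.range' 0 2) (sqW [0, 1, 2, 3, 4] ++ pQX_2_rels) = true := by decide +kernel
theorem pQX_2_rel : ∀ w ∈ (sqW [0, 1, 2, 3, 4] ++ pQX_2_rels), ev (netGen pQX_2_nets) w = 1 :=
  SlicesOk.rel (K := 2) ((SlicesOk.zero _ _ _ _).step 2 pQX_2_rel_s0)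
    pQX_2_nets_ok (by norm_num)
theorem pQX_2_model : Model 4 pQX_2_nets (imOf [0, 1, 2, 3, 4]) pQX_2_rels := Model.of_rel pQX_2_nets_ok pQX_2_rel
def pQX_2_t : Tr := (Tr.node (Tr.node Tr.leaf [0] 0 0 0 Tr.leaf) [8] 0 0 0 (Tr.node Tr.leaf [2] 0 0 0 Tr.leaf))
def pQX_2_m0 : ℕ := (nat_lit 0)
def pQX_2_m1 : ℕ := (nat_lit 0x2)
def pQX_2_m2 : ℕ := (nat_lit 0xc)
def pQX_2_p0 : List ℕ := [nat_lit 0x1004003003,
  nat_lit 0x1004005005,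
  nat_lit 0x5003002003003006,
  nat_lit 0x3001002001001004,
  nat_lit 0x5001002002001006]
noncomputable def pQX_2 : CE where
  p0 := 0
  F := (Nat.sub (Nat.shiftLeft 1 4) 1)
  masks := [pQX_2_m0, pQX_2_m1, pQX_2_m2]
  gprog := [1, 2]
  cprog := []
  sids := [0]
  t0 := pQX_2_t
  s := 12
  progs := [pQX_2_p0]
  O := (Nat.sub (Nat.shiftLeft 1 4) 1)
  yids := [0, 1, 2]
theorem pQX_2_chk : ∃ progs, CE.check { pQX_2 with progs := progs } pQX_2_nets (imOf [0, 1, 2, 3, 4]) pQX_2_rels [[8]] [[8], [0], [2]] = true :=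
  ⟨pQX_2.progs, by decide +kernel⟩
theorem pQX_2_idx {Γ : Type*} [Group Γ] {g : ℕ → Γ} (hi : InvOk g (imOf [0, 1, 2, 3, 4])) (hr : ∀ r ∈ pQX_2_rels, ev g r = 1)
    {H : Subgroup Γ} (hs : ∀ u ∈ ([[8]] : List (List ℕ)), ev g u ∈ H) :
    H.relIndex (gen g [[8], [0], [2]]) ≠ 0 ∧ H.relIndex (gen g [[8], [0], [2]]) ≤ 4 :=
  Reach.relIndex_le pQX_2_model hi hr hs pQX_2_chk (by decide +kernel)

def pQX_3_nets_n2_0 : ℕ := (nat_lit 0x5)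
def pQX_3_nets_n3_0 : ℕ := (nat_lit 0x3)
def pQX_3_nets_n2 : Net :=
  (Net.cons pQX_3_nets_n2_0 (nat_lit 1) Net.nil)
def pQX_3_nets_n3 : Net :=
  (Net.cons pQX_3_nets_n3_0 (nat_lit 2) Net.nil)
def pQX_3_nets : List Net := [Net.nil, Net.nil, pQX_3_nets_n2, pQX_3_nets_n3, Net.nil, Net.nil]
def pQX_3_rels : List (List ℕ) := [[8, 0, 8, 0],
  [8, 2, 8, 2],
  [8, 4, 8, 4],
  [8, 6, 8, 6],
  [0, 2, 0, 2],
  [4, 6, 4, 6],
  [0, 4, 0, 4],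
  [2, 6, 2, 6],
  [0, 6, 0, 6, 8],
  [2, 4, 2, 4, 8]]
theorem pQX_3_nets_ok : allL (Net.ok 4) pQX_3_nets = true := by decide +kernel
theorem pQX_3_rel_s0 : relsAt pQX_3_nets 4 2 (List.range' 0 2) (sqW [0, 1, 2, 3, 4] ++ pQX_3_rels) = true := by decide +kernel
theorem pQX_3_rel : ∀ w ∈ (sqW [0, 1, 2, 3, 4] ++ pQX_3_rels), ev (netGen pQX_3_nets) w = 1 :=
  SlicesOk.rel (K := 2) ((SlicesOk.zero _ _ _ _).step 2 pQX_3_rel_s0)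
    pQX_3_nets_ok (by norm_num)
theorem pQX_3_model : Model 4 pQX_3_nets (imOf [0, 1, 2, 3, 4]) pQX_3_rels := Model.of_rel pQX_3_nets_ok pQX_3_rel
def pQX_3_t : Tr := (Tr.node (Tr.node (Tr.node Tr.leaf [4] 0 0 0 Tr.leaf) [0] 0 0 0 Tr.leaf) [8] 0 0 0 (Tr.node (Tr.node Tr.leaf [6] 0 0 0 Tr.leaf) [2] 0 0 0 Tr.leaf))
def pQX_3_m0 : ℕ := (nat_lit 0)
def pQX_3_m1 : ℕ := (nat_lit 0)
def pQX_3_m2 : ℕ := (nat_lit 0)
def pQX_3_m3 : ℕ := (nat_lit 0x2)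
def pQX_3_m4 : ℕ := (nat_lit 0xc)
def pQX_3_p0 : List ℕ := [nat_lit 0x100b007007,
  nat_lit 0x100b009009,
  nat_lit 0x900700200600700a,
  nat_lit 0x7001002003001008,
  nat_lit 0x900100200400100a,
  nat_lit 0x7003002007003008,
  nat_lit 0x900500200800500a,
  nat_lit 0x900300100700900300a,
  nat_lit 0x700500100700a005008]
noncomputable def pQX_3 : CE where
  p0 := 0
  F := (Nat.sub (Nat.shiftLeft 1 4) 1)
  masks := [pQX_3_m0, pQX_3_m1, pQX_3_m2, pQX_3_m3, pQX_3_m4]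
  gprog := [3, 4]
  cprog := []
  sids := [0, 1, 2]
  t0 := pQX_3_t
  s := 12
  progs := [pQX_3_p0]
  O := (Nat.sub (Nat.shiftLeft 1 4) 1)
  yids := [0, 1, 2, 3, 4]
theorem pQX_3_chk : ∃ progs, CE.check { pQX_3 with progs := progs } pQX_3_nets (imOf [0, 1, 2, 3, 4]) pQX_3_rels [[8], [0], [2]] [[8], [0], [2], [4], [6]] = true :=
  ⟨pQX_3.progs, by decide +kernel⟩
theorem pQX_3_idx {Γ : Type*} [Group Γ] {g : ℕ → Γ} (hi : InvOk g (imOf [0, 1, 2, 3, 4])) (hr : ∀ r ∈ pQX_3_rels, ev g r = 1)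
    {H : Subgroup Γ} (hs : ∀ u ∈ ([[8], [0], [2]] : List (List ℕ)), ev g u ∈ H) :
    H.relIndex (gen g [[8], [0], [2], [4], [6]]) ≠ 0 ∧ H.relIndex (gen g [[8], [0], [2], [4], [6]]) ≤ 4 :=
  Reach.relIndex_le pQX_3_model hi hr hs pQX_3_chk (by decide +kernel)

def pQX_4_nets_n5_0 : ℕ := (nat_lit 0x1)
def pQX_4_nets_n5_1 : ℕ := (nat_lit 0x1)
def pQX_4_nets_n5 : Net :=
  (Net.cons pQX_4_nets_n5_0 (nat_lit 1) (Net.cons pQX_4_nets_n5_1 (nat_lit 2) Net.nil))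
def pQX_4_nets : List Net := [Net.nil, Net.nil, Net.nil, Net.nil, Net.nil, pQX_4_nets_n5]
def pQX_4_rels : List (List ℕ) := [[8, 0, 8, 0],
  [8, 2, 8, 2],
  [8, 4, 8, 4],
  [8, 6, 8, 6],
  [0, 2, 0, 2],
  [4, 6, 4, 6],
  [0, 4, 0, 4],
  [2, 6, 2, 6],
  [0, 6, 0, 6, 8],
  [2, 4, 2, 4, 8],
  [10, 10, 10],
  [10, 0, 11, 2],
  [10, 2, 11, 0, 2],
  [10, 4, 11, 6],
  [10, 6, 11, 4, 6],
  [10, 8, 11, 8]]
theorem pQX_4_nets_ok : allL (Net.ok 3) pQX_4_nets = true := by decide +kernel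
theorem pQX_4_rel_s0 : relsAt pQX_4_nets 3 2 (List.range' 0 2) (sqW [0, 1, 2, 3, 4] ++ pQX_4_rels) = true := by decide +kernel
theorem pQX_4_rel : ∀ w ∈ (sqW [0, 1, 2, 3, 4] ++ pQX_4_rels), ev (netGen pQX_4_nets) w = 1 :=
  SlicesOk.rel (K := 2) ((SlicesOk.zero _ _ _ _).step 2 pQX_4_rel_s0)
    pQX_4_nets_ok (by norm_num)
theorem pQX_4_model : Model 3 pQX_4_nets (imOf [0, 1, 2, 3, 4]) pQX_4_rels := Model.of_rel pQX_4_nets_ok pQX_4_rel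
def pQX_4_t : Tr := (Tr.node (Tr.node (Tr.node Tr.leaf [6] 0 0 0 Tr.leaf) [2] 0 0 0 (Tr.node Tr.leaf [10] 0 0 0 Tr.leaf)) [0] 0 0 0 (Tr.node (Tr.node Tr.leaf [8] 0 0 0 Tr.leaf) [4] 0 0 0 (Tr.node Tr.leaf [11] 0 0 0 Tr.leaf)))
def pQX_4_m0 : ℕ := (nat_lit 0)
def pQX_4_m1 : ℕ := (nat_lit 0)
def pQX_4_m2 : ℕ := (nat_lit 0)
def pQX_4_m3 : ℕ := (nat_lit 0)
def pQX_4_m4 : ℕ := (nat_lit 0)
def pQX_4_m5 : ℕ := (nat_lit 0x4)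
def pQX_4_m6 : ℕ := (nat_lit 0x2)
def pQX_4_p0 : List ℕ := [nat_lit 0x101100b00d,
  nat_lit 0xb00100b00b00b,
  nat_lit 0xb00300400c00100c,
  nat_lit 0xb00700400e00500c,
  nat_lit 0xb00900401000900c,
  nat_lit 0xc00100100c00300b,
  nat_lit 0xb00300100500d00300c,
  nat_lit 0xc00500100e00700b,
  nat_lit 0xb00700500500f00700c,
  nat_lit 0xc00900101000900b,
  nat_lit 0xb00300400c00100c,
  nat_lit 0xb00700400e00500c]
noncomputable def pQX_4 : CE where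
  p0 := 0
  F := (Nat.sub (Nat.shiftLeft 1 3) 1)
  masks := [pQX_4_m0, pQX_4_m1, pQX_4_m2, pQX_4_m3, pQX_4_m4, pQX_4_m5, pQX_4_m6]
  gprog := [5, 6]
  cprog := []
  sids := [4, 0, 1, 2, 3]
  t0 := pQX_4_t
  s := 12
  progs := [pQX_4_p0]
  O := (Nat.sub (Nat.shiftLeft 1 3) 1)
  yids := [0, 1, 2, 3, 4, 5]
theorem pQX_4_chk : ∃ progs, CE.check { pQX_4 with progs := progs } pQX_4_nets (imOf [0, 1, 2, 3, 4]) pQX_4_rels [[8], [0], [2], [4], [6]] [[0], [2], [4], [6], [8], [10]] = true :=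
  ⟨pQX_4.progs, by decide +kernel⟩
theorem pQX_4_idx {Γ : Type*} [Group Γ] {g : ℕ → Γ} (hi : InvOk g (imOf [0, 1, 2, 3, 4])) (hr : ∀ r ∈ pQX_4_rels, ev g r = 1)
    {H : Subgroup Γ} (hs : ∀ u ∈ ([[8], [0], [2], [4], [6]] : List (List ℕ)), ev g u ∈ H) :
    H.relIndex (gen g [[0], [2], [4], [6], [8], [10]]) ≠ 0 ∧ H.relIndex (gen g [[0], [2], [4], [6], [8], [10]]) ≤ 3 :=
  Reach.relIndex_le pQX_4_model hi hr hs pQX_4_chk (by decide +kernel)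

theorem pQX_pres : CfsgLib.W2.Pres [0, 1, 2, 3, 4] pQX_rels [[0], [2], [4], [6], [8], [10]] 96 := fun {_} _ {g} hi hr =>
  (Bound.of_idx (n := 3) (m := 32) (Bound.of_idx (n := 4) (m := 8) (Bound.of_idx (n := 4) (m := 2) (Bound.of_idx (n := 2) (m := 1) (bound_nil g)
    (pQX_1_idx hi (conseq_sound hi hr (hs := []) (by decide +kernel))))
    (pQX_2_idx hi (conseq_sound hi hr (hs := [1, 1025, 4097]) (by decide +kernel))))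
    (pQX_3_idx hi (conseq_sound hi hr (hs := [1, 1025, 2049, 3073, 4097, 5121, 6145, 7169, 8193, 9217]) (by decide +kernel))))
    (pQX_4_idx hi (conseq_sound hi hr (hs := [1, 1025, 2049, 3073, 4097, 5121, 6145, 7169, 8193, 9217, 10241, 11265, 12289, 13313, 14337, 15361]) (by decide +kernel))))

/-- generators a b c d z t x; relators (za)^2 (zb)^2 (zc)^2 (zd)^2 (ab)^2 (cd)^2 (ac)^2 (bd)^2 (ad)^2z (bc)^2z xxx xax^-1b xbx^-1ab xcx^-1d xdx^-1cd xzx^-1z (tx)^2 (ta)^2 (tc)^2 (tz)^2 tbtab tdtcd -/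
def pHA_rels : List (List ℕ) := [[8, 0, 8, 0],
  [8, 2, 8, 2],
  [8, 4, 8, 4],
  [8, 6, 8, 6],
  [0, 2, 0, 2],
  [4, 6, 4, 6],
  [0, 4, 0, 4],
  [2, 6, 2, 6],
  [0, 6, 0, 6, 8],
  [2, 4, 2, 4, 8],
  [12, 12, 12],
  [12, 0, 13, 2],
  [12, 2, 13, 0, 2],
  [12, 4, 13, 6],
  [12, 6, 13, 4, 6],
  [12, 8, 13, 8],
  [10, 12, 10, 12],
  [10, 0, 10, 0],
  [10, 4, 10, 4],
  [10, 8, 10, 8],
  [10, 2, 10, 0, 2],
  [10, 6, 10, 4, 6]]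

def pHA_1_nets_n4_0 : ℕ := (nat_lit 0x1)
def pHA_1_nets_n4 : Net :=
  (Net.cons pHA_1_nets_n4_0 (nat_lit 1) Net.nil)
def pHA_1_nets : List Net := [Net.nil, Net.nil, Net.nil, Net.nil, pHA_1_nets_n4, Net.nil, Net.nil]
def pHA_1_rels : List (List ℕ) := []
theorem pHA_1_nets_ok : allL (Net.ok 2) pHA_1_nets = true := by decide +kernel
theorem pHA_1_rel_s0 : relsAt pHA_1_nets 2 1 (List.range' 0 1) (sqW [0, 1, 2, 3, 4, 5] ++ pHA_1_rels) = true := by decide +kernel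
theorem pHA_1_rel : ∀ w ∈ (sqW [0, 1, 2, 3, 4, 5] ++ pHA_1_rels), ev (netGen pHA_1_nets) w = 1 :=
  SlicesOk.rel (K := 1) ((SlicesOk.zero _ _ _ _).step 1 pHA_1_rel_s0)
    pHA_1_nets_ok (by norm_num)
theorem pHA_1_model : Model 2 pHA_1_nets (imOf [0, 1, 2, 3, 4, 5]) pHA_1_rels := Model.of_rel pHA_1_nets_ok pHA_1_rel
def pHA_1_t : Tr := (Tr.node Tr.leaf [8] 0 0 0 Tr.leaf)
def pHA_1_m0 : ℕ := (nat_lit 0x2)
def pHA_1_p0 : List ℕ := [nat_lit 0x1001001001]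
noncomputable def pHA_1 : CE where
  p0 := 0
  F := (Nat.sub (Nat.shiftLeft 1 2) 1)
  masks := [pHA_1_m0]
  gprog := [0]
  cprog := []
  sids := []
  t0 := pHA_1_t
  s := 12
  progs := [pHA_1_p0]
  O := (Nat.sub (Nat.shiftLeft 1 2) 1)
  yids := [0]
theorem pHA_1_chk : ∃ progs, CE.check { pHA_1 with progs := progs } pHA_1_nets (imOf [0, 1, 2, 3, 4, 5]) pHA_1_rels [] [[8]] = true :=
  ⟨pHA_1.progs, by decide +kernel⟩
theorem pHA_1_idx {Γ : Type*} [Group Γ] {g : ℕ → Γ} (hi : InvOk g (imOf [0, 1, 2, 3, 4, 5])) (hr : ∀ r ∈ pHA_1_rels, ev g r = 1)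
    {H : Subgroup Γ} (hs : ∀ u ∈ ([] : List (List ℕ)), ev g u ∈ H) :
    H.relIndex (gen g [[8]]) ≠ 0 ∧ H.relIndex (gen g [[8]]) ≤ 2 :=
  Reach.relIndex_le pHA_1_model hi hr hs pHA_1_chk (by decide +kernel)

def pHA_2_nets_n0_0 : ℕ := (nat_lit 0x5)
def pHA_2_nets_n1_0 : ℕ := (nat_lit 0x3)
def pHA_2_nets_n0 : Net :=
  (Net.cons pHA_2_nets_n0_0 (nat_lit 1) Net.nil)
def pHA_2_nets_n1 : Net :=
  (Net.cons pHA_2_nets_n1_0 (nat_lit 2) Net.nil)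
def pHA_2_nets : List Net := [pHA_2_nets_n0, pHA_2_nets_n1, Net.nil, Net.nil, Net.nil, Net.nil, Net.nil]
def pHA_2_rels : List (List ℕ) := [[8, 0, 8, 0],
  [8, 2, 8, 2],
  [0, 2, 0, 2]]
theorem pHA_2_nets_ok : allL (Net.ok 4) pHA_2_nets = true := by decide +kernel
theorem pHA_2_rel_s0 : relsAt pHA_2_nets 4 2 (List.range' 0 2) (sqW [0, 1, 2, 3, 4, 5] ++ pHA_2_rels) = true := by decide +kernel
theorem pHA_2_rel : ∀ w ∈ (sqW [0, 1, 2, 3, 4, 5] ++ pHA_2_rels), ev (netGen pHA_2_nets) w = 1 :=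
  SlicesOk.rel (K := 2) ((SlicesOk.zero _ _ _ _).step 2 pHA_2_rel_s0)
    pHA_2_nets_ok (by norm_num)
theorem pHA_2_model : Model 4 pHA_2_nets (imOf [0, 1, 2, 3, 4, 5]) pHA_2_rels := Model.of_rel pHA_2_nets_ok pHA_2_rel
def pHA_2_t : Tr := (Tr.node (Tr.node Tr.leaf [0] 0 0 0 Tr.leaf) [8] 0 0 0 (Tr.node Tr.leaf [2] 0 0 0 Tr.leaf))
def pHA_2_m0 : ℕ := (nat_lit 0)
def pHA_2_m1 : ℕ := (nat_lit 0x2)
def pHA_2_m2 : ℕ := (nat_lit 0xc)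
def pHA_2_p0 : List ℕ := [nat_lit 0x1004003003,
  nat_lit 0x1004005005,
  nat_lit 0x5003002003003006,
  nat_lit 0x3001002001001004,
  nat_lit 0x5001002002001006]
noncomputable def pHA_2 : CE where
  p0 := 0
  F := (Nat.sub (Nat.shiftLeft 1 4) 1)
  masks := [pHA_2_m0, pHA_2_m1, pHA_2_m2]
  gprog := [1, 2]
  cprog := []
  sids := [0]
  t0 := pHA_2_t
  s := 12
  progs := [pHA_2_p0]
  O := (Nat.sub (Nat.shiftLeft 1 4) 1)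
  yids := [0, 1, 2]
theorem pHA_2_chk : ∃ progs, CE.check { pHA_2 with progs := progs } pHA_2_nets (imOf [0, 1, 2, 3, 4, 5]) pHA_2_rels [[8]] [[8], [0], [2]] = true :=
  ⟨pHA_2.progs, by decide +kernel⟩
theorem pHA_2_idx {Γ : Type*} [Group Γ] {g : ℕ → Γ} (hi : InvOk g (imOf [0, 1, 2, 3, 4, 5])) (hr : ∀ r ∈ pHA_2_rels, ev g r = 1)
    {H : Subgroup Γ} (hs : ∀ u ∈ ([[8]] : List (List ℕ)), ev g u ∈ H) :
    H.relIndex (gen g [[8], [0], [2]]) ≠ 0 ∧ H.relIndex (gen g [[8], [0], [2]]) ≤ 4 :=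
  Reach.relIndex_le pHA_2_model hi hr hs pHA_2_chk (by decide +kernel)

def pHA_3_nets_n2_0 : ℕ := (nat_lit 0x5)
def pHA_3_nets_n3_0 : ℕ := (nat_lit 0x3)
def pHA_3_nets_n2 : Net :=
  (Net.cons pHA_3_nets_n2_0 (nat_lit 1) Net.nil)
def pHA_3_nets_n3 : Net :=
  (Net.cons pHA_3_nets_n3_0 (nat_lit 2) Net.nil)
def pHA_3_nets : List Net := [Net.nil, Net.nil, pHA_3_nets_n2, pHA_3_nets_n3, Net.nil, Net.nil, Net.nil]
def pHA_3_rels : List (List ℕ) := [[8, 0, 8, 0],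
  [8, 2, 8, 2],
  [8, 4, 8, 4],
  [8, 6, 8, 6],
  [0, 2, 0, 2],
  [4, 6, 4, 6],
  [0, 4, 0, 4],
  [2, 6, 2, 6],
  [0, 6, 0, 6, 8],
  [2, 4, 2, 4, 8]]
theorem pHA_3_nets_ok : allL (Net.ok 4) pHA_3_nets = true := by decide +kernel
theorem pHA_3_rel_s0 : relsAt pHA_3_nets 4 2 (List.range' 0 2) (sqW [0, 1, 2, 3, 4, 5] ++ pHA_3_rels) = true := by decide +kernel
theorem pHA_3_rel : ∀ w ∈ (sqW [0, 1, 2, 3, 4, 5] ++ pHA_3_rels), ev (netGen pHA_3_nets) w = 1 :=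
  SlicesOk.rel (K := 2) ((SlicesOk.zero _ _ _ _).step 2 pHA_3_rel_s0)
    pHA_3_nets_ok (by norm_num)
theorem pHA_3_model : Model 4 pHA_3_nets (imOf [0, 1, 2, 3, 4, 5]) pHA_3_rels := Model.of_rel pHA_3_nets_ok pHA_3_rel
def pHA_3_t : Tr := (Tr.node (Tr.node (Tr.node Tr.leaf [4] 0 0 0 Tr.leaf) [0] 0 0 0 Tr.leaf) [8] 0 0 0 (Tr.node (Tr.node Tr.leaf [6] 0 0 0 Tr.leaf) [2] 0 0 0 Tr.leaf))
def pHA_3_m0 : ℕ := (nat_lit 0)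
def pHA_3_m1 : ℕ := (nat_lit 0)
def pHA_3_m2 : ℕ := (nat_lit 0)
def pHA_3_m3 : ℕ := (nat_lit 0x2)
def pHA_3_m4 : ℕ := (nat_lit 0xc)
def pHA_3_p0 : List ℕ := [nat_lit 0x100b007007,
  nat_lit 0x100b009009,
  nat_lit 0x900700200600700a,
  nat_lit 0x7001002003001008,
  nat_lit 0x900100200400100a,
  nat_lit 0x7003002007003008,
  nat_lit 0x900500200800500a,
  nat_lit 0x900300100700900300a,
  nat_lit 0x700500100700a005008]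
noncomputable def pHA_3 : CE where
  p0 := 0
  F := (Nat.sub (Nat.shiftLeft 1 4) 1)
  masks := [pHA_3_m0, pHA_3_m1, pHA_3_m2, pHA_3_m3, pHA_3_m4]
  gprog := [3, 4]
  cprog := []
  sids := [0, 1, 2]
  t0 := pHA_3_t
  s := 12
  progs := [pHA_3_p0]
  O := (Nat.sub (Nat.shiftLeft 1 4) 1)
  yids := [0, 1, 2, 3, 4]
theorem pHA_3_chk : ∃ progs, CE.check { pHA_3 with progs := progs } pHA_3_nets (imOf [0, 1, 2, 3, 4, 5]) pHA_3_rels [[8], [0], [2]] [[8], [0], [2], [4], [6]] = true :=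
  ⟨pHA_3.progs, by decide +kernel⟩
theorem pHA_3_idx {Γ : Type*} [Group Γ] {g : ℕ → Γ} (hi : InvOk g (imOf [0, 1, 2, 3, 4, 5])) (hr : ∀ r ∈ pHA_3_rels, ev g r = 1)
    {H : Subgroup Γ} (hs : ∀ u ∈ ([[8], [0], [2]] : List (List ℕ)), ev g u ∈ H) :
    H.relIndex (gen g [[8], [0], [2], [4], [6]]) ≠ 0 ∧ H.relIndex (gen g [[8], [0], [2], [4], [6]]) ≤ 4 :=
  Reach.relIndex_le pHA_3_model hi hr hs pHA_3_chk (by decide +kernel)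

def pHA_4_nets_n5_0 : ℕ := (nat_lit 0x1)
def pHA_4_nets_n5 : Net :=
  (Net.cons pHA_4_nets_n5_0 (nat_lit 1) Net.nil)
def pHA_4_nets : List Net := [Net.nil, Net.nil, Net.nil, Net.nil, Net.nil, pHA_4_nets_n5, Net.nil]
def pHA_4_rels : List (List ℕ) := [[8, 0, 8, 0],
  [8, 2, 8, 2],
  [8, 4, 8, 4],
  [8, 6, 8, 6],
  [0, 2, 0, 2],
  [4, 6, 4, 6],
  [0, 4, 0, 4],
  [2, 6, 2, 6],
  [0, 6, 0, 6, 8],
  [2, 4, 2, 4, 8],
  [10, 0, 10, 0],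
  [10, 4, 10, 4],
  [10, 8, 10, 8],
  [10, 2, 10, 0, 2],
  [10, 6, 10, 4, 6]]
theorem pHA_4_nets_ok : allL (Net.ok 2) pHA_4_nets = true := by decide +kernel
theorem pHA_4_rel_s0 : relsAt pHA_4_nets 2 1 (List.range' 0 1) (sqW [0, 1, 2, 3, 4, 5] ++ pHA_4_rels) = true := by decide +kernel
theorem pHA_4_rel : ∀ w ∈ (sqW [0, 1, 2, 3, 4, 5] ++ pHA_4_rels), ev (netGen pHA_4_nets) w = 1 :=
  SlicesOk.rel (K := 1) ((SlicesOk.zero _ _ _ _).step 1 pHA_4_rel_s0)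
    pHA_4_nets_ok (by norm_num)
theorem pHA_4_model : Model 2 pHA_4_nets (imOf [0, 1, 2, 3, 4, 5]) pHA_4_rels := Model.of_rel pHA_4_nets_ok pHA_4_rel
def pHA_4_t : Tr := (Tr.node (Tr.node (Tr.node Tr.leaf [4] 0 0 0 Tr.leaf) [0] 0 0 0 (Tr.node Tr.leaf [10] 0 0 0 Tr.leaf)) [8] 0 0 0 (Tr.node (Tr.node Tr.leaf [6] 0 0 0 Tr.leaf) [2] 0 0 0 Tr.leaf))
def pHA_4_m0 : ℕ := (nat_lit 0)
def pHA_4_m1 : ℕ := (nat_lit 0)
def pHA_4_m2 : ℕ := (nat_lit 0)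
def pHA_4_m3 : ℕ := (nat_lit 0)
def pHA_4_m4 : ℕ := (nat_lit 0)
def pHA_4_m5 : ℕ := (nat_lit 0x2)
def pHA_4_p0 : List ℕ := [nat_lit 0x101000b00b,
  nat_lit 0xb00300100b00300c,
  nat_lit 0xb00700100c00700c,
  nat_lit 0xb00100100d00100c,
  nat_lit 0xb00500300500e00500c,
  nat_lit 0xb00900700500f00900c]
noncomputable def pHA_4 : CE where
  p0 := 0
  F := (Nat.sub (Nat.shiftLeft 1 2) 1)
  masks := [pHA_4_m0, pHA_4_m1, pHA_4_m2, pHA_4_m3, pHA_4_m4, pHA_4_m5]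
  gprog := [5]
  cprog := []
  sids := [0, 1, 2, 3, 4]
  t0 := pHA_4_t
  s := 12
  progs := [pHA_4_p0]
  O := (Nat.sub (Nat.shiftLeft 1 2) 1)
  yids := [0, 1, 2, 3, 4, 5]
theorem pHA_4_chk : ∃ progs, CE.check { pHA_4 with progs := progs } pHA_4_nets (imOf [0, 1, 2, 3, 4, 5]) pHA_4_rels [[8], [0], [2], [4], [6]] [[8], [0], [2], [4], [6], [10]] = true :=
  ⟨pHA_4.progs, by decide +kernel⟩
theorem pHA_4_idx {Γ : Type*} [Group Γ] {g : ℕ → Γ} (hi : InvOk g (imOf [0, 1, 2, 3, 4, 5])) (hr : ∀ r ∈ pHA_4_rels, ev g r = 1)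
    {H : Subgroup Γ} (hs : ∀ u ∈ ([[8], [0], [2], [4], [6]] : List (List ℕ)), ev g u ∈ H) :
    H.relIndex (gen g [[8], [0], [2], [4], [6], [10]]) ≠ 0 ∧ H.relIndex (gen g [[8], [0], [2], [4], [6], [10]]) ≤ 2 :=
  Reach.relIndex_le pHA_4_model hi hr hs pHA_4_chk (by decide +kernel)

def pHA_5_nets_n5_0 : ℕ := (nat_lit 0x2)
def pHA_5_nets_n6_0 : ℕ := (nat_lit 0x1)
def pHA_5_nets_n6_1 : ℕ := (nat_lit 0x1)
def pHA_5_nets_n5 : Net :=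
  (Net.cons pHA_5_nets_n5_0 (nat_lit 1) Net.nil)
def pHA_5_nets_n6 : Net :=
  (Net.cons pHA_5_nets_n6_0 (nat_lit 1) (Net.cons pHA_5_nets_n6_1 (nat_lit 2) Net.nil))
def pHA_5_nets : List Net := [Net.nil, Net.nil, Net.nil, Net.nil, Net.nil, pHA_5_nets_n5, pHA_5_nets_n6]
def pHA_5_rels : List (List ℕ) := [[8, 0, 8, 0],
  [8, 2, 8, 2],
  [8, 4, 8, 4],
  [8, 6, 8, 6],
  [0, 2, 0, 2],
  [4, 6, 4, 6],
  [0, 4, 0, 4],
  [2, 6, 2, 6],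
  [0, 6, 0, 6, 8],
  [2, 4, 2, 4, 8],
  [12, 12, 12],
  [12, 0, 13, 2],
  [12, 2, 13, 0, 2],
  [12, 4, 13, 6],
  [12, 6, 13, 4, 6],
  [12, 8, 13, 8],
  [10, 12, 10, 12],
  [10, 0, 10, 0],
  [10, 4, 10, 4],
  [10, 8, 10, 8],
  [10, 2, 10, 0, 2],
  [10, 6, 10, 4, 6]]
theorem pHA_5_nets_ok : allL (Net.ok 3) pHA_5_nets = true := by decide +kernel
theorem pHA_5_rel_s0 : relsAt pHA_5_nets 3 2 (List.range' 0 2) (sqW [0, 1, 2, 3, 4, 5] ++ pHA_5_rels) = true := by decide +kernel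
theorem pHA_5_rel : ∀ w ∈ (sqW [0, 1, 2, 3, 4, 5] ++ pHA_5_rels), ev (netGen pHA_5_nets) w = 1 :=
  SlicesOk.rel (K := 2) ((SlicesOk.zero _ _ _ _).step 2 pHA_5_rel_s0)
    pHA_5_nets_ok (by norm_num)
theorem pHA_5_model : Model 3 pHA_5_nets (imOf [0, 1, 2, 3, 4, 5]) pHA_5_rels := Model.of_rel pHA_5_nets_ok pHA_5_rel
def pHA_5_t : Tr := (Tr.node (Tr.node (Tr.node (Tr.node Tr.leaf [13] 0 0 0 Tr.leaf) [6] 0 0 0 Tr.leaf) [2] 0 0 0 (Tr.node Tr.leaf [10] 0 0 0 Tr.leaf)) [0] 0 0 0 (Tr.node (Tr.node Tr.leaf [8] 0 0 0 Tr.leaf) [4] 0 0 0 (Tr.node Tr.leaf [12] 0 0 0 Tr.leaf)))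
def pHA_5_m0 : ℕ := (nat_lit 0)
def pHA_5_m1 : ℕ := (nat_lit 0)
def pHA_5_m2 : ℕ := (nat_lit 0)
def pHA_5_m3 : ℕ := (nat_lit 0)
def pHA_5_m4 : ℕ := (nat_lit 0)
def pHA_5_m5 : ℕ := (nat_lit 0)
def pHA_5_m6 : ℕ := (nat_lit 0x4)
def pHA_5_m7 : ℕ := (nat_lit 0x2)
def pHA_5_p0 : List ℕ := [nat_lit 0x101700d00f,
  nat_lit 0xd00100b00d00d,
  nat_lit 0xd00300400c00100e,
  nat_lit 0xd00700400e00500e,
  nat_lit 0xd00900401000900e,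
  nat_lit 0xe00c00201100b00e,
  nat_lit 0x101700b00b,
  nat_lit 0xe00100100c00300d,
  nat_lit 0xd00300100500d00300e,
  nat_lit 0xe00500100e00700d,
  nat_lit 0xd00700500500f00700e,
  nat_lit 0xe00900101000900d,
  nat_lit 0xb00100101200100c,
  nat_lit 0xb00500101300500c]
noncomputable def pHA_5 : CE where
  p0 := 0
  F := (Nat.sub (Nat.shiftLeft 1 3) 1)
  masks := [pHA_5_m0, pHA_5_m1, pHA_5_m2, pHA_5_m3, pHA_5_m4, pHA_5_m5, pHA_5_m6, pHA_5_m7]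
  gprog := [6, 7]
  cprog := []
  sids := [4, 0, 1, 2, 3, 5]
  t0 := pHA_5_t
  s := 12
  progs := [pHA_5_p0]
  O := (Nat.sub (Nat.shiftLeft 1 3) 1)
  yids := [0, 1, 2, 3, 4, 5, 6]
theorem pHA_5_chk : ∃ progs, CE.check { pHA_5 with progs := progs } pHA_5_nets (imOf [0, 1, 2, 3, 4, 5]) pHA_5_rels [[8], [0], [2], [4], [6], [10]] [[0], [2], [4], [6], [8], [10], [12]] = true :=
  ⟨pHA_5.progs, by decide +kernel⟩
theorem pHA_5_idx {Γ : Type*} [Group Γ] {g : ℕ → Γ} (hi : InvOk g (imOf [0, 1, 2, 3, 4, 5])) (hr : ∀ r ∈ pHA_5_rels, ev g r = 1)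
    {H : Subgroup Γ} (hs : ∀ u ∈ ([[8], [0], [2], [4], [6], [10]] : List (List ℕ)), ev g u ∈ H) :
    H.relIndex (gen g [[0], [2], [4], [6], [8], [10], [12]]) ≠ 0 ∧ H.relIndex (gen g [[0], [2], [4], [6], [8], [10], [12]]) ≤ 3 :=
  Reach.relIndex_le pHA_5_model hi hr hs pHA_5_chk (by decide +kernel)

theorem pHA_pres : CfsgLib.W2.Pres [0, 1, 2, 3, 4, 5] pHA_rels [[0], [2], [4], [6], [8], [10], [12]] 192 := fun {_} _ {g} hi hr =>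
  (Bound.of_idx (n := 3) (m := 64) (Bound.of_idx (n := 2) (m := 32) (Bound.of_idx (n := 4) (m := 8) (Bound.of_idx (n := 4) (m := 2) (Bound.of_idx (n := 2) (m := 1) (bound_nil g)
    (pHA_1_idx hi (conseq_sound hi hr (hs := []) (by decide +kernel))))
    (pHA_2_idx hi (conseq_sound hi hr (hs := [1, 1025, 4097]) (by decide +kernel))))
    (pHA_3_idx hi (conseq_sound hi hr (hs := [1, 1025, 2049, 3073, 4097, 5121, 6145, 7169, 8193, 9217]) (by decide +kernel))))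
    (pHA_4_idx hi (conseq_sound hi hr (hs := [1, 1025, 2049, 3073, 4097, 5121, 6145, 7169, 8193, 9217, 17409, 18433, 19457, 20481, 21505]) (by decide +kernel))))
    (pHA_5_idx hi (conseq_sound hi hr (hs := [1, 1025, 2049, 3073, 4097, 5121, 6145, 7169, 8193, 9217, 10241, 11265, 12289, 13313, 14337, 15361, 16385, 17409, 18433, 19457, 20481, 21505]) (by decide +kernel))))

/-- generators a b c d z t x; relators (za)^2 (zb)^2 (zc)^2 (zd)^2 (ab)^2 (cd)^2 (ac)^2 (bd)^2 (ad)^2z (bc)^2z xxx xax^-1b xbx^-1ab xcx^-1d xdx^-1cd xzx^-1z (tx)^2 (ta)^2 tctacz (tz)^2 tbtab tdtabcdz -/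
def pHM_rels : List (List ℕ) := [[8, 0, 8, 0],
  [8, 2, 8, 2],
  [8, 4, 8, 4],
  [8, 6, 8, 6],
  [0, 2, 0, 2],
  [4, 6, 4, 6],
  [0, 4, 0, 4],
  [2, 6, 2, 6],
  [0, 6, 0, 6, 8],
  [2, 4, 2, 4, 8],
  [12, 12, 12],
  [12, 0, 13, 2],
  [12, 2, 13, 0, 2],
  [12, 4, 13, 6],
  [12, 6, 13, 4, 6],
  [12, 8, 13, 8],
  [10, 12, 10, 12],
  [10, 0, 10, 0],
  [10, 4, 10, 0, 4, 8],
  [10, 8, 10, 8],
  [10, 2, 10, 0, 2],
  [10, 6, 10, 0, 2, 4, 6, 8]]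

def pHM_1_nets_n4_0 : ℕ := (nat_lit 0x1)
def pHM_1_nets_n4 : Net :=
  (Net.cons pHM_1_nets_n4_0 (nat_lit 1) Net.nil)
def pHM_1_nets : List Net := [Net.nil, Net.nil, Net.nil, Net.nil, pHM_1_nets_n4, Net.nil, Net.nil]
def pHM_1_rels : List (List ℕ) := []
theorem pHM_1_nets_ok : allL (Net.ok 2) pHM_1_nets = true := by decide +kernel
theorem pHM_1_rel_s0 : relsAt pHM_1_nets 2 1 (List.range' 0 1) (sqW [0, 1, 2, 3, 4, 5] ++ pHM_1_rels) = true := by decide +kernel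
theorem pHM_1_rel : ∀ w ∈ (sqW [0, 1, 2, 3, 4, 5] ++ pHM_1_rels), ev (netGen pHM_1_nets) w = 1 :=
  SlicesOk.rel (K := 1) ((SlicesOk.zero _ _ _ _).step 1 pHM_1_rel_s0)
    pHM_1_nets_ok (by norm_num)
theorem pHM_1_model : Model 2 pHM_1_nets (imOf [0, 1, 2, 3, 4, 5]) pHM_1_rels := Model.of_rel pHM_1_nets_ok pHM_1_rel
def pHM_1_t : Tr := (Tr.node Tr.leaf [8] 0 0 0 Tr.leaf)
def pHM_1_m0 : ℕ := (nat_lit 0x2)
def pHM_1_p0 : List ℕ := [nat_lit 0x1001001001]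
noncomputable def pHM_1 : CE where
  p0 := 0
  F := (Nat.sub (Nat.shiftLeft 1 2) 1)
  masks := [pHM_1_m0]
  gprog := [0]
  cprog := []
  sids := []
  t0 := pHM_1_t
  s := 12
  progs := [pHM_1_p0]
  O := (Nat.sub (Nat.shiftLeft 1 2) 1)
  yids := [0]
theorem pHM_1_chk : ∃ progs, CE.check { pHM_1 with progs := progs } pHM_1_nets (imOf [0, 1, 2, 3, 4, 5]) pHM_1_rels [] [[8]] = true :=
  ⟨pHM_1.progs, by decide +kernel⟩
theorem pHM_1_idx {Γ : Type*} [Group Γ] {g : ℕ → Γ} (hi : InvOk g (imOf [0, 1, 2, 3, 4, 5])) (hr : ∀ r ∈ pHM_1_rels, ev g r = 1)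
    {H : Subgroup Γ} (hs : ∀ u ∈ ([] : List (List ℕ)), ev g u ∈ H) :
    H.relIndex (gen g [[8]]) ≠ 0 ∧ H.relIndex (gen g [[8]]) ≤ 2 :=
  Reach.relIndex_le pHM_1_model hi hr hs pHM_1_chk (by decide +kernel)

def pHM_2_nets_n0_0 : ℕ := (nat_lit 0x5)
def pHM_2_nets_n1_0 : ℕ := (nat_lit 0x3)
def pHM_2_nets_n0 : Net :=
  (Net.cons pHM_2_nets_n0_0 (nat_lit 1) Net.nil)
def pHM_2_nets_n1 : Net :=
  (Net.cons pHM_2_nets_n1_0 (nat_lit 2) Net.nil)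
def pHM_2_nets : List Net := [pHM_2_nets_n0, pHM_2_nets_n1, Net.nil, Net.nil, Net.nil, Net.nil, Net.nil]
def pHM_2_rels : List (List ℕ) := [[8, 0, 8, 0],
  [8, 2, 8, 2],
  [0, 2, 0, 2]]
theorem pHM_2_nets_ok : allL (Net.ok 4) pHM_2_nets = true := by decide +kernel
theorem pHM_2_rel_s0 : relsAt pHM_2_nets 4 2 (List.range' 0 2) (sqW [0, 1, 2, 3, 4, 5] ++ pHM_2_rels) = true := by decide +kernel
theorem pHM_2_rel : ∀ w ∈ (sqW [0, 1, 2, 3, 4, 5] ++ pHM_2_rels), ev (netGen pHM_2_nets) w = 1 :=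
  SlicesOk.rel (K := 2) ((SlicesOk.zero _ _ _ _).step 2 pHM_2_rel_s0)
    pHM_2_nets_ok (by norm_num)
theorem pHM_2_model : Model 4 pHM_2_nets (imOf [0, 1, 2, 3, 4, 5]) pHM_2_rels := Model.of_rel pHM_2_nets_ok pHM_2_rel
def pHM_2_t : Tr := (Tr.node (Tr.node Tr.leaf [0] 0 0 0 Tr.leaf) [8] 0 0 0 (Tr.node Tr.leaf [2] 0 0 0 Tr.leaf))
def pHM_2_m0 : ℕ := (nat_lit 0)
def pHM_2_m1 : ℕ := (nat_lit 0x2)
def pHM_2_m2 : ℕ := (nat_lit 0xc)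
def pHM_2_p0 : List ℕ := [nat_lit 0x1004003003,
  nat_lit 0x1004005005,
  nat_lit 0x5003002003003006,
  nat_lit 0x3001002001001004,
  nat_lit 0x5001002002001006]
noncomputable def pHM_2 : CE where
  p0 := 0
  F := (Nat.sub (Nat.shiftLeft 1 4) 1)
  masks := [pHM_2_m0, pHM_2_m1, pHM_2_m2]
  gprog := [1, 2]
  cprog := []
  sids := [0]
  t0 := pHM_2_t
  s := 12
  progs := [pHM_2_p0]
  O := (Nat.sub (Nat.shiftLeft 1 4) 1)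
  yids := [0, 1, 2]
theorem pHM_2_chk : ∃ progs, CE.check { pHM_2 with progs := progs } pHM_2_nets (imOf [0, 1, 2, 3, 4, 5]) pHM_2_rels [[8]] [[8], [0], [2]] = true :=
  ⟨pHM_2.progs, by decide +kernel⟩
theorem pHM_2_idx {Γ : Type*} [Group Γ] {g : ℕ → Γ} (hi : InvOk g (imOf [0, 1, 2, 3, 4, 5])) (hr : ∀ r ∈ pHM_2_rels, ev g r = 1)
    {H : Subgroup Γ} (hs : ∀ u ∈ ([[8]] : List (List ℕ)), ev g u ∈ H) :
    H.relIndex (gen g [[8], [0], [2]]) ≠ 0 ∧ H.relIndex (gen g [[8], [0], [2]]) ≤ 4 :=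
  Reach.relIndex_le pHM_2_model hi hr hs pHM_2_chk (by decide +kernel)

def pHM_3_nets_n2_0 : ℕ := (nat_lit 0x5)
def pHM_3_nets_n3_0 : ℕ := (nat_lit 0x3)
def pHM_3_nets_n2 : Net :=
  (Net.cons pHM_3_nets_n2_0 (nat_lit 1) Net.nil)
def pHM_3_nets_n3 : Net :=
  (Net.cons pHM_3_nets_n3_0 (nat_lit 2) Net.nil)
def pHM_3_nets : List Net := [Net.nil, Net.nil, pHM_3_nets_n2, pHM_3_nets_n3, Net.nil, Net.nil, Net.nil]
def pHM_3_rels : List (List ℕ) := [[8, 0, 8, 0],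
  [8, 2, 8, 2],
  [8, 4, 8, 4],
  [8, 6, 8, 6],
  [0, 2, 0, 2],
  [4, 6, 4, 6],
  [0, 4, 0, 4],
  [2, 6, 2, 6],
  [0, 6, 0, 6, 8],
  [2, 4, 2, 4, 8]]
theorem pHM_3_nets_ok : allL (Net.ok 4) pHM_3_nets = true := by decide +kernel
theorem pHM_3_rel_s0 : relsAt pHM_3_nets 4 2 (List.range' 0 2) (sqW [0, 1, 2, 3, 4, 5] ++ pHM_3_rels) = true := by decide +kernel
theorem pHM_3_rel : ∀ w ∈ (sqW [0, 1, 2, 3, 4, 5] ++ pHM_3_rels), ev (netGen pHM_3_nets) w = 1 :=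
  SlicesOk.rel (K := 2) ((SlicesOk.zero _ _ _ _).step 2 pHM_3_rel_s0)
    pHM_3_nets_ok (by norm_num)
theorem pHM_3_model : Model 4 pHM_3_nets (imOf [0, 1, 2, 3, 4, 5]) pHM_3_rels := Model.of_rel pHM_3_nets_ok pHM_3_rel
def pHM_3_t : Tr := (Tr.node (Tr.node (Tr.node Tr.leaf [4] 0 0 0 Tr.leaf) [0] 0 0 0 Tr.leaf) [8] 0 0 0 (Tr.node (Tr.node Tr.leaf [6] 0 0 0 Tr.leaf) [2] 0 0 0 Tr.leaf))
def pHM_3_m0 : ℕ := (nat_lit 0)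
def pHM_3_m1 : ℕ := (nat_lit 0)
def pHM_3_m2 : ℕ := (nat_lit 0)
def pHM_3_m3 : ℕ := (nat_lit 0x2)
def pHM_3_m4 : ℕ := (nat_lit 0xc)
def pHM_3_p0 : List ℕ := [nat_lit 0x100b007007,
  nat_lit 0x100b009009,
  nat_lit 0x900700200600700a,
  nat_lit 0x7001002003001008,
  nat_lit 0x900100200400100a,
  nat_lit 0x7003002007003008,
  nat_lit 0x900500200800500a,
  nat_lit 0x900300100700900300a,
  nat_lit 0x700500100700a005008]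
noncomputable def pHM_3 : CE where
  p0 := 0
  F := (Nat.sub (Nat.shiftLeft 1 4) 1)
  masks := [pHM_3_m0, pHM_3_m1, pHM_3_m2, pHM_3_m3, pHM_3_m4]
  gprog := [3, 4]
  cprog := []
  sids := [0, 1, 2]
  t0 := pHM_3_t
  s := 12
  progs := [pHM_3_p0]
  O := (Nat.sub (Nat.shiftLeft 1 4) 1)
  yids := [0, 1, 2, 3, 4]
theorem pHM_3_chk : ∃ progs, CE.check { pHM_3 with progs := progs } pHM_3_nets (imOf [0, 1, 2, 3, 4, 5]) pHM_3_rels [[8], [0], [2]] [[8], [0], [2], [4], [6]] = true :=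
  ⟨pHM_3.progs, by decide +kernel⟩
theorem pHM_3_idx {Γ : Type*} [Group Γ] {g : ℕ → Γ} (hi : InvOk g (imOf [0, 1, 2, 3, 4, 5])) (hr : ∀ r ∈ pHM_3_rels, ev g r = 1)
    {H : Subgroup Γ} (hs : ∀ u ∈ ([[8], [0], [2]] : List (List ℕ)), ev g u ∈ H) :
    H.relIndex (gen g [[8], [0], [2], [4], [6]]) ≠ 0 ∧ H.relIndex (gen g [[8], [0], [2], [4], [6]]) ≤ 4 :=
  Reach.relIndex_le pHM_3_model hi hr hs pHM_3_chk (by decide +kernel)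

def pHM_4_nets_n5_0 : ℕ := (nat_lit 0x1)
def pHM_4_nets_n5 : Net :=
  (Net.cons pHM_4_nets_n5_0 (nat_lit 1) Net.nil)
def pHM_4_nets : List Net := [Net.nil, Net.nil, Net.nil, Net.nil, Net.nil, pHM_4_nets_n5, Net.nil]
def pHM_4_rels : List (List ℕ) := [[8, 0, 8, 0],
  [8, 2, 8, 2],
  [8, 4, 8, 4],
  [8, 6, 8, 6],
  [0, 2, 0, 2],
  [4, 6, 4, 6],
  [0, 4, 0, 4],
  [2, 6, 2, 6],
  [0, 6, 0, 6, 8],
  [2, 4, 2, 4, 8],
  [10, 0, 10, 0],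
  [10, 4, 10, 0, 4, 8],
  [10, 8, 10, 8],
  [10, 2, 10, 0, 2],
  [10, 6, 10, 0, 2, 4, 6, 8]]
theorem pHM_4_nets_ok : allL (Net.ok 2) pHM_4_nets = true := by decide +kernel
theorem pHM_4_rel_s0 : relsAt pHM_4_nets 2 1 (List.range' 0 1) (sqW [0, 1, 2, 3, 4, 5] ++ pHM_4_rels) = true := by decide +kernel
theorem pHM_4_rel : ∀ w ∈ (sqW [0, 1, 2, 3, 4, 5] ++ pHM_4_rels), ev (netGen pHM_4_nets) w = 1 :=
  SlicesOk.rel (K := 1) ((SlicesOk.zero _ _ _ _).step 1 pHM_4_rel_s0)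
    pHM_4_nets_ok (by norm_num)
theorem pHM_4_model : Model 2 pHM_4_nets (imOf [0, 1, 2, 3, 4, 5]) pHM_4_rels := Model.of_rel pHM_4_nets_ok pHM_4_rel
def pHM_4_t : Tr := (Tr.node (Tr.node (Tr.node Tr.leaf [4] 0 0 0 Tr.leaf) [0] 0 0 0 (Tr.node Tr.leaf [10] 0 0 0 Tr.leaf)) [8] 0 0 0 (Tr.node (Tr.node Tr.leaf [6] 0 0 0 Tr.leaf) [2] 0 0 0 Tr.leaf))
def pHM_4_m0 : ℕ := (nat_lit 0)
def pHM_4_m1 : ℕ := (nat_lit 0)
def pHM_4_m2 : ℕ := (nat_lit 0)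
def pHM_4_m3 : ℕ := (nat_lit 0)
def pHM_4_m4 : ℕ := (nat_lit 0)
def pHM_4_m5 : ℕ := (nat_lit 0x2)
def pHM_4_p0 : List ℕ := [nat_lit 0x101000b00b,
  nat_lit 0xb00300100b00300c,
  nat_lit 0xb00100100d00100c,
  nat_lit 0xb00500300500e00500c,
  nat_lit 0xb00300700100400c00700c,
  nat_lit 0xb00300500700900100400f00900c]
noncomputable def pHM_4 : CE where
  p0 := 0
  F := (Nat.sub (Nat.shiftLeft 1 2) 1)
  masks := [pHM_4_m0, pHM_4_m1, pHM_4_m2, pHM_4_m3, pHM_4_m4, pHM_4_m5]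
  gprog := [5]
  cprog := []
  sids := [0, 1, 2, 3, 4]
  t0 := pHM_4_t
  s := 12
  progs := [pHM_4_p0]
  O := (Nat.sub (Nat.shiftLeft 1 2) 1)
  yids := [0, 1, 2, 3, 4, 5]
theorem pHM_4_chk : ∃ progs, CE.check { pHM_4 with progs := progs } pHM_4_nets (imOf [0, 1, 2, 3, 4, 5]) pHM_4_rels [[8], [0], [2], [4], [6]] [[8], [0], [2], [4], [6], [10]] = true :=
  ⟨pHM_4.progs, by decide +kernel⟩
theorem pHM_4_idx {Γ : Type*} [Group Γ] {g : ℕ → Γ} (hi : InvOk g (imOf [0, 1, 2, 3, 4, 5])) (hr : ∀ r ∈ pHM_4_rels, ev g r = 1)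
    {H : Subgroup Γ} (hs : ∀ u ∈ ([[8], [0], [2], [4], [6]] : List (List ℕ)), ev g u ∈ H) :
    H.relIndex (gen g [[8], [0], [2], [4], [6], [10]]) ≠ 0 ∧ H.relIndex (gen g [[8], [0], [2], [4], [6], [10]]) ≤ 2 :=
  Reach.relIndex_le pHM_4_model hi hr hs pHM_4_chk (by decide +kernel)

def pHM_5_nets_n5_0 : ℕ := (nat_lit 0x2)
def pHM_5_nets_n6_0 : ℕ := (nat_lit 0x1)
def pHM_5_nets_n6_1 : ℕ := (nat_lit 0x1)
def pHM_5_nets_n5 : Net :=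
  (Net.cons pHM_5_nets_n5_0 (nat_lit 1) Net.nil)
def pHM_5_nets_n6 : Net :=
  (Net.cons pHM_5_nets_n6_0 (nat_lit 1) (Net.cons pHM_5_nets_n6_1 (nat_lit 2) Net.nil))
def pHM_5_nets : List Net := [Net.nil, Net.nil, Net.nil, Net.nil, Net.nil, pHM_5_nets_n5, pHM_5_nets_n6]
def pHM_5_rels : List (List ℕ) := [[8, 0, 8, 0],
  [8, 2, 8, 2],
  [8, 4, 8, 4],
  [8, 6, 8, 6],
  [0, 2, 0, 2],
  [4, 6, 4, 6],
  [0, 4, 0, 4],
  [2, 6, 2, 6],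
  [0, 6, 0, 6, 8],
  [2, 4, 2, 4, 8],
  [12, 12, 12],
  [12, 0, 13, 2],
  [12, 2, 13, 0, 2],
  [12, 4, 13, 6],
  [12, 6, 13, 4, 6],
  [12, 8, 13, 8],
  [10, 12, 10, 12],
  [10, 0, 10, 0],
  [10, 4, 10, 0, 4, 8],
  [10, 8, 10, 8],
  [10, 2, 10, 0, 2],
  [10, 6, 10, 0, 2, 4, 6, 8]]
theorem pHM_5_nets_ok : allL (Net.ok 3) pHM_5_nets = true := by decide +kernel
theorem pHM_5_rel_s0 : relsAt pHM_5_nets 3 2 (List.range' 0 2) (sqW [0, 1, 2, 3, 4, 5] ++ pHM_5_rels) = true := by decide +kernel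
theorem pHM_5_rel : ∀ w ∈ (sqW [0, 1, 2, 3, 4, 5] ++ pHM_5_rels), ev (netGen pHM_5_nets) w = 1 :=
  SlicesOk.rel (K := 2) ((SlicesOk.zero _ _ _ _).step 2 pHM_5_rel_s0)
    pHM_5_nets_ok (by norm_num)
theorem pHM_5_model : Model 3 pHM_5_nets (imOf [0, 1, 2, 3, 4, 5]) pHM_5_rels := Model.of_rel pHM_5_nets_ok pHM_5_rel
def pHM_5_t : Tr := (Tr.node (Tr.node (Tr.node (Tr.node Tr.leaf [13] 0 0 0 Tr.leaf) [6] 0 0 0 Tr.leaf) [2] 0 0 0 (Tr.node Tr.leaf [10] 0 0 0 Tr.leaf)) [0] 0 0 0 (Tr.node (Tr.node Tr.leaf [8] 0 0 0 Tr.leaf) [4] 0 0 0 (Tr.node Tr.leaf [12] 0 0 0 Tr.leaf)))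
def pHM_5_m0 : ℕ := (nat_lit 0)
def pHM_5_m1 : ℕ := (nat_lit 0)
def pHM_5_m2 : ℕ := (nat_lit 0)
def pHM_5_m3 : ℕ := (nat_lit 0)
def pHM_5_m4 : ℕ := (nat_lit 0)
def pHM_5_m5 : ℕ := (nat_lit 0)
def pHM_5_m6 : ℕ := (nat_lit 0x4)
def pHM_5_m7 : ℕ := (nat_lit 0x2)
def pHM_5_p0 : List ℕ := [nat_lit 0x101700d00f,
  nat_lit 0xd00100b00d00d,
  nat_lit 0xd00300400c00100e,
  nat_lit 0xd00700400e00500e,
  nat_lit 0xd00900401000900e,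
  nat_lit 0xe00c00201100b00e,
  nat_lit 0x101700b00b,
  nat_lit 0xe00100100c00300d,
  nat_lit 0xd00300100500d00300e,
  nat_lit 0xe00500100e00700d,
  nat_lit 0xd00700500500f00700e,
  nat_lit 0xe00900101000900d,
  nat_lit 0xb00100101200100c,
  nat_lit 0xd00700400e00500e]
noncomputable def pHM_5 : CE where
  p0 := 0
  F := (Nat.sub (Nat.shiftLeft 1 3) 1)
  masks := [pHM_5_m0, pHM_5_m1, pHM_5_m2, pHM_5_m3, pHM_5_m4, pHM_5_m5, pHM_5_m6, pHM_5_m7]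
  gprog := [6, 7]
  cprog := []
  sids := [4, 0, 1, 2, 3, 5]
  t0 := pHM_5_t
  s := 12
  progs := [pHM_5_p0]
  O := (Nat.sub (Nat.shiftLeft 1 3) 1)
  yids := [0, 1, 2, 3, 4, 5, 6]
theorem pHM_5_chk : ∃ progs, CE.check { pHM_5 with progs := progs } pHM_5_nets (imOf [0, 1, 2, 3, 4, 5]) pHM_5_rels [[8], [0], [2], [4], [6], [10]] [[0], [2], [4], [6], [8], [10], [12]] = true :=
  ⟨pHM_5.progs, by decide +kernel⟩
theorem pHM_5_idx {Γ : Type*} [Group Γ] {g : ℕ → Γ} (hi : InvOk g (imOf [0, 1, 2, 3, 4, 5])) (hr : ∀ r ∈ pHM_5_rels, ev g r = 1)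
    {H : Subgroup Γ} (hs : ∀ u ∈ ([[8], [0], [2], [4], [6], [10]] : List (List ℕ)), ev g u ∈ H) :
    H.relIndex (gen g [[0], [2], [4], [6], [8], [10], [12]]) ≠ 0 ∧ H.relIndex (gen g [[0], [2], [4], [6], [8], [10], [12]]) ≤ 3 :=
  Reach.relIndex_le pHM_5_model hi hr hs pHM_5_chk (by decide +kernel)

theorem pHM_pres : CfsgLib.W2.Pres [0, 1, 2, 3, 4, 5] pHM_rels [[0], [2], [4], [6], [8], [10], [12]] 192 := fun {_} _ {g} hi hr =>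
  (Bound.of_idx (n := 3) (m := 64) (Bound.of_idx (n := 2) (m := 32) (Bound.of_idx (n := 4) (m := 8) (Bound.of_idx (n := 4) (m := 2) (Bound.of_idx (n := 2) (m := 1) (bound_nil g)
    (pHM_1_idx hi (conseq_sound hi hr (hs := []) (by decide +kernel))))
    (pHM_2_idx hi (conseq_sound hi hr (hs := [1, 1025, 4097]) (by decide +kernel))))
    (pHM_3_idx hi (conseq_sound hi hr (hs := [1, 1025, 2049, 3073, 4097, 5121, 6145, 7169, 8193, 9217]) (by decide +kernel))))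
    (pHM_4_idx hi (conseq_sound hi hr (hs := [1, 1025, 2049, 3073, 4097, 5121, 6145, 7169, 8193, 9217, 17409, 18433, 19457, 20481, 21505]) (by decide +kernel))))
    (pHM_5_idx hi (conseq_sound hi hr (hs := [1, 1025, 2049, 3073, 4097, 5121, 6145, 7169, 8193, 9217, 10241, 11265, 12289, 13313, 14337, 15361, 16385, 17409, 18433, 19457, 20481, 21505]) (by decide +kernel))))


end CfsgLib.W2
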