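import Mathlib
import Cfsg.Agent.Lib.W2.Tab

/-! Certified coset enumerations (generated by tools/cosetenum/w2tc.cpp). -/

set_option maxRecDepth 100000
set_option Elab.async false

namespace CfsgLib.W2

open CfsgLib.CosetEnum

/-- generators a b c d z t x y s; relators (za)^2 (zb)^2 (zc)^2 (zd)^2 (ab)^2 (cd)^2 (ac)^2 (bd)^2 (ad)^2z (bc)^2z xxx xax^-1b xbx^-1ab xcx^-1d xdx^-1cd xzx^-1z (tx)^2 (ta)^2 tctacz (tz)^2 tbtab tdtabcdz yyy ycy^-1c (dy)^2 yzy^-1a yay^-1za yty^-1b yby^-1tcba ss scs^-1c sds^-1d sys^-1y^-1 (sdz)^3 xsdzx^-1zds^-1 -/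
def pM12_rels : List (List ℕ) := [[8, 0, 8, 0],
  [8, 2, 8, 2],
  [8, 4, 8, 4],
  [8, 6, 8, 6],
  [0, 2, 0, 2],
  [4, 6, 4, 6],
  [0, 4, 0, 4],
  [2, 6, 2, 6],
  [0, 6, 0, 6, 8],
  [2, 4, 2, 4, 8],
  [12, 12, 12],
  [12, 0, 13, 2],
  [12, 2, 13, 0, 2],
  [12, 4, 13, 6],
  [12, 6, 13, 4, 6],
  [12, 8, 13, 8],
  [10, 12, 10, 12],
  [10, 0, 10, 0],
  [10, 4, 10, 0, 4, 8],
  [10, 8, 10, 8],
  [10, 2, 10, 0, 2],
  [10, 6, 10, 0, 2, 4, 6, 8],
  [14, 14, 14],
  [14, 4, 15, 4],
  [6, 14, 6, 14],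
  [14, 8, 15, 0],
  [14, 0, 15, 8, 0],
  [14, 10, 15, 2],
  [14, 2, 15, 10, 4, 2, 0],
  [16, 16],
  [16, 4, 17, 4],
  [16, 6, 17, 6],
  [16, 14, 17, 15],
  [16, 6, 8, 16, 6, 8, 16, 6, 8],
  [12, 16, 6, 8, 13, 8, 6, 17]]

def pM12_1_nets_n4_0 : ℕ := (nat_lit 0x1)
def pM12_1_nets_n4 : Net :=
  (Net.cons pM12_1_nets_n4_0 (nat_lit 1) Net.nil)
def pM12_1_nets : List Net := [Net.nil, Net.nil, Net.nil, Net.nil, pM12_1_nets_n4, Net.nil, Net.nil, Net.nil, Net.nil]
def pM12_1_rels : List (List ℕ) := []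
theorem pM12_1_nets_ok : allL (Net.ok 2) pM12_1_nets = true := by decide +kernel
theorem pM12_1_rel_s0 : relsAt pM12_1_nets 2 1 (List.range' 0 1) (sqW [0, 1, 2, 3, 4, 5] ++ pM12_1_rels) = true := by decide +kernel
theorem pM12_1_rel : ∀ w ∈ (sqW [0, 1, 2, 3, 4, 5] ++ pM12_1_rels), ev (netGen pM12_1_nets) w = 1 :=
  SlicesOk.rel (K := 1) ((SlicesOk.zero _ _ _ _).step 1 pM12_1_rel_s0)
    pM12_1_nets_ok (by norm_num)
theorem pM12_1_model : Model 2 pM12_1_nets (imOf [0, 1, 2, 3, 4, 5]) pM12_1_rels := Model.of_rel pM12_1_nets_ok pM12_1_rel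
def pM12_1_t : Tr := (Tr.node Tr.leaf [8] 0 0 0 Tr.leaf)
def pM12_1_m0 : ℕ := (nat_lit 0x2)
def pM12_1_p0 : List ℕ := [nat_lit 0x1001001001]
noncomputable def pM12_1 : CE where
  p0 := 0
  F := (Nat.sub (Nat.shiftLeft 1 2) 1)
  masks := [pM12_1_m0]
  gprog := [0]
  cprog := []
  sids := []
  t0 := pM12_1_t
  s := 12
  progs := [pM12_1_p0]
  O := (Nat.sub (Nat.shiftLeft 1 2) 1)
  yids := [0]
theorem pM12_1_chk : ∃ progs, CE.check { pM12_1 with progs := progs } pM12_1_nets (imOf [0, 1, 2, 3, 4, 5]) pM12_1_rels [] [[8]] = true :=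
  ⟨pM12_1.progs, by decide +kernel⟩
theorem pM12_1_idx {Γ : Type*} [Group Γ] {g : ℕ → Γ} (hi : InvOk g (imOf [0, 1, 2, 3, 4, 5])) (hr : ∀ r ∈ pM12_1_rels, ev g r = 1)
    {H : Subgroup Γ} (hs : ∀ u ∈ ([] : List (List ℕ)), ev g u ∈ H) :
    H.relIndex (gen g [[8]]) ≠ 0 ∧ H.relIndex (gen g [[8]]) ≤ 2 :=
  Reach.relIndex_le pM12_1_model hi hr hs pM12_1_chk (by decide +kernel)

def pM12_2_nets_n0_0 : ℕ := (nat_lit 0x5)
def pM12_2_nets_n1_0 : ℕ := (nat_lit 0x3)
def pM12_2_nets_n0 : Net :=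
  (Net.cons pM12_2_nets_n0_0 (nat_lit 1) Net.nil)
def pM12_2_nets_n1 : Net :=
  (Net.cons pM12_2_nets_n1_0 (nat_lit 2) Net.nil)
def pM12_2_nets : List Net := [pM12_2_nets_n0, pM12_2_nets_n1, Net.nil, Net.nil, Net.nil, Net.nil, Net.nil, Net.nil, Net.nil]
def pM12_2_rels : List (List ℕ) := [[8, 0, 8, 0],
  [8, 2, 8, 2],
  [0, 2, 0, 2]]
theorem pM12_2_nets_ok : allL (Net.ok 4) pM12_2_nets = true := by decide +kernel
theorem pM12_2_rel_s0 : relsAt pM12_2_nets 4 2 (List.range' 0 2) (sqW [0, 1, 2, 3, 4, 5] ++ pM12_2_rels) = true := by decide +kernel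
theorem pM12_2_rel : ∀ w ∈ (sqW [0, 1, 2, 3, 4, 5] ++ pM12_2_rels), ev (netGen pM12_2_nets) w = 1 :=
  SlicesOk.rel (K := 2) ((SlicesOk.zero _ _ _ _).step 2 pM12_2_rel_s0)
    pM12_2_nets_ok (by norm_num)
theorem pM12_2_model : Model 4 pM12_2_nets (imOf [0, 1, 2, 3, 4, 5]) pM12_2_rels := Model.of_rel pM12_2_nets_ok pM12_2_rel
def pM12_2_t : Tr := (Tr.node (Tr.node Tr.leaf [0] 0 0 0 Tr.leaf) [8] 0 0 0 (Tr.node Tr.leaf [2] 0 0 0 Tr.leaf))
def pM12_2_m0 : ℕ := (nat_lit 0)
def pM12_2_m1 : ℕ := (nat_lit 0x2)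
def pM12_2_m2 : ℕ := (nat_lit 0xc)
def pM12_2_p0 : List ℕ := [nat_lit 0x1004003003,
  nat_lit 0x1004005005,
  nat_lit 0x5003002003003006,
  nat_lit 0x3001002001001004,
  nat_lit 0x5001002002001006]
noncomputable def pM12_2 : CE where
  p0 := 0
  F := (Nat.sub (Nat.shiftLeft 1 4) 1)
  masks := [pM12_2_m0, pM12_2_m1, pM12_2_m2]
  gprog := [1, 2]
  cprog := []
  sids := [0]
  t0 := pM12_2_t
  s := 12
  progs := [pM12_2_p0]
  O := (Nat.sub (Nat.shiftLeft 1 4) 1)
  yids := [0, 1, 2]
theorem pM12_2_chk : ∃ progs, CE.check { pM12_2 with progs := progs } pM12_2_nets (imOf [0, 1, 2, 3, 4, 5]) pM12_2_rels [[8]] [[8], [0], [2]] = true :=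
  ⟨pM12_2.progs, by decide +kernel⟩
theorem pM12_2_idx {Γ : Type*} [Group Γ] {g : ℕ → Γ} (hi : InvOk g (imOf [0, 1, 2, 3, 4, 5])) (hr : ∀ r ∈ pM12_2_rels, ev g r = 1)
    {H : Subgroup Γ} (hs : ∀ u ∈ ([[8]] : List (List ℕ)), ev g u ∈ H) :
    H.relIndex (gen g [[8], [0], [2]]) ≠ 0 ∧ H.relIndex (gen g [[8], [0], [2]]) ≤ 4 :=
  Reach.relIndex_le pM12_2_model hi hr hs pM12_2_chk (by decide +kernel)

def pM12_3_nets_n2_0 : ℕ := (nat_lit 0x5)
def pM12_3_nets_n3_0 : ℕ := (nat_lit 0x3)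
def pM12_3_nets_n2 : Net :=
  (Net.cons pM12_3_nets_n2_0 (nat_lit 1) Net.nil)
def pM12_3_nets_n3 : Net :=
  (Net.cons pM12_3_nets_n3_0 (nat_lit 2) Net.nil)
def pM12_3_nets : List Net := [Net.nil, Net.nil, pM12_3_nets_n2, pM12_3_nets_n3, Net.nil, Net.nil, Net.nil, Net.nil, Net.nil]
def pM12_3_rels : List (List ℕ) := [[8, 0, 8, 0],
  [8, 2, 8, 2],
  [8, 4, 8, 4],
  [8, 6, 8, 6],
  [0, 2, 0, 2],
  [4, 6, 4, 6],
  [0, 4, 0, 4],
  [2, 6, 2, 6],
  [0, 6, 0, 6, 8],
  [2, 4, 2, 4, 8]]
theorem pM12_3_nets_ok : allL (Net.ok 4) pM12_3_nets = true := by decide +kernel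
theorem pM12_3_rel_s0 : relsAt pM12_3_nets 4 2 (List.range' 0 2) (sqW [0, 1, 2, 3, 4, 5] ++ pM12_3_rels) = true := by decide +kernel
theorem pM12_3_rel : ∀ w ∈ (sqW [0, 1, 2, 3, 4, 5] ++ pM12_3_rels), ev (netGen pM12_3_nets) w = 1 :=
  SlicesOk.rel (K := 2) ((SlicesOk.zero _ _ _ _).step 2 pM12_3_rel_s0)
    pM12_3_nets_ok (by norm_num)
theorem pM12_3_model : Model 4 pM12_3_nets (imOf [0, 1, 2, 3, 4, 5]) pM12_3_rels := Model.of_rel pM12_3_nets_ok pM12_3_rel
def pM12_3_t : Tr := (Tr.node (Tr.node (Tr.node Tr.leaf [4] 0 0 0 Tr.leaf) [0] 0 0 0 Tr.leaf) [8] 0 0 0 (Tr.node (Tr.node Tr.leaf [6] 0 0 0 Tr.leaf) [2] 0 0 0 Tr.leaf))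
def pM12_3_m0 : ℕ := (nat_lit 0)
def pM12_3_m1 : ℕ := (nat_lit 0)
def pM12_3_m2 : ℕ := (nat_lit 0)
def pM12_3_m3 : ℕ := (nat_lit 0x2)
def pM12_3_m4 : ℕ := (nat_lit 0xc)
def pM12_3_p0 : List ℕ := [nat_lit 0x100b007007,
  nat_lit 0x100b009009,
  nat_lit 0x900700200600700a,
  nat_lit 0x7001002003001008,
  nat_lit 0x900100200400100a,
  nat_lit 0x7003002007003008,
  nat_lit 0x900500200800500a,
  nat_lit 0x900300100700900300a,
  nat_lit 0x700500100700a005008]
noncomputable def pM12_3 : CE where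
  p0 := 0
  F := (Nat.sub (Nat.shiftLeft 1 4) 1)
  masks := [pM12_3_m0, pM12_3_m1, pM12_3_m2, pM12_3_m3, pM12_3_m4]
  gprog := [3, 4]
  cprog := []
  sids := [0, 1, 2]
  t0 := pM12_3_t
  s := 12
  progs := [pM12_3_p0]
  O := (Nat.sub (Nat.shiftLeft 1 4) 1)
  yids := [0, 1, 2, 3, 4]
theorem pM12_3_chk : ∃ progs, CE.check { pM12_3 with progs := progs } pM12_3_nets (imOf [0, 1, 2, 3, 4, 5]) pM12_3_rels [[8], [0], [2]] [[8], [0], [2], [4], [6]] = true :=
  ⟨pM12_3.progs, by decide +kernel⟩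
theorem pM12_3_idx {Γ : Type*} [Group Γ] {g : ℕ → Γ} (hi : InvOk g (imOf [0, 1, 2, 3, 4, 5])) (hr : ∀ r ∈ pM12_3_rels, ev g r = 1)
    {H : Subgroup Γ} (hs : ∀ u ∈ ([[8], [0], [2]] : List (List ℕ)), ev g u ∈ H) :
    H.relIndex (gen g [[8], [0], [2], [4], [6]]) ≠ 0 ∧ H.relIndex (gen g [[8], [0], [2], [4], [6]]) ≤ 4 :=
  Reach.relIndex_le pM12_3_model hi hr hs pM12_3_chk (by decide +kernel)

def pM12_4_nets_n5_0 : ℕ := (nat_lit 0x1)
def pM12_4_nets_n5 : Net :=
  (Net.cons pM12_4_nets_n5_0 (nat_lit 1) Net.nil)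
def pM12_4_nets : List Net := [Net.nil, Net.nil, Net.nil, Net.nil, Net.nil, pM12_4_nets_n5, Net.nil, Net.nil, Net.nil]
def pM12_4_rels : List (List ℕ) := [[8, 0, 8, 0],
  [8, 2, 8, 2],
  [8, 4, 8, 4],
  [8, 6, 8, 6],
  [0, 2, 0, 2],
  [4, 6, 4, 6],
  [0, 4, 0, 4],
  [2, 6, 2, 6],
  [0, 6, 0, 6, 8],
  [2, 4, 2, 4, 8],
  [10, 0, 10, 0],
  [10, 4, 10, 0, 4, 8],
  [10, 8, 10, 8],
  [10, 2, 10, 0, 2],
  [10, 6, 10, 0, 2, 4, 6, 8]]
theorem pM12_4_nets_ok : allL (Net.ok 2) pM12_4_nets = true := by decide +kernel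
theorem pM12_4_rel_s0 : relsAt pM12_4_nets 2 1 (List.range' 0 1) (sqW [0, 1, 2, 3, 4, 5] ++ pM12_4_rels) = true := by decide +kernel
theorem pM12_4_rel : ∀ w ∈ (sqW [0, 1, 2, 3, 4, 5] ++ pM12_4_rels), ev (netGen pM12_4_nets) w = 1 :=
  SlicesOk.rel (K := 1) ((SlicesOk.zero _ _ _ _).step 1 pM12_4_rel_s0)
    pM12_4_nets_ok (by norm_num)
theorem pM12_4_model : Model 2 pM12_4_nets (imOf [0, 1, 2, 3, 4, 5]) pM12_4_rels := Model.of_rel pM12_4_nets_ok pM12_4_rel
def pM12_4_t : Tr := (Tr.node (Tr.node (Tr.node Tr.leaf [4] 0 0 0 Tr.leaf) [0] 0 0 0 (Tr.node Tr.leaf [10] 0 0 0 Tr.leaf)) [8] 0 0 0 (Tr.node (Tr.node Tr.leaf [6] 0 0 0 Tr.leaf) [2] 0 0 0 Tr.leaf))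
def pM12_4_m0 : ℕ := (nat_lit 0)
def pM12_4_m1 : ℕ := (nat_lit 0)
def pM12_4_m2 : ℕ := (nat_lit 0)
def pM12_4_m3 : ℕ := (nat_lit 0)
def pM12_4_m4 : ℕ := (nat_lit 0)
def pM12_4_m5 : ℕ := (nat_lit 0x2)
def pM12_4_p0 : List ℕ := [nat_lit 0x101000b00b,
  nat_lit 0xb00300100b00300c,
  nat_lit 0xb00100100d00100c,
  nat_lit 0xb00500300500e00500c,
  nat_lit 0xb00300700100400c00700c,
  nat_lit 0xb00300500700900100400f00900c]
noncomputable def pM12_4 : CE where
  p0 := 0
  F := (Nat.sub (Nat.shiftLeft 1 2) 1)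
  masks := [pM12_4_m0, pM12_4_m1, pM12_4_m2, pM12_4_m3, pM12_4_m4, pM12_4_m5]
  gprog := [5]
  cprog := []
  sids := [0, 1, 2, 3, 4]
  t0 := pM12_4_t
  s := 12
  progs := [pM12_4_p0]
  O := (Nat.sub (Nat.shiftLeft 1 2) 1)
  yids := [0, 1, 2, 3, 4, 5]
theorem pM12_4_chk : ∃ progs, CE.check { pM12_4 with progs := progs } pM12_4_nets (imOf [0, 1, 2, 3, 4, 5]) pM12_4_rels [[8], [0], [2], [4], [6]] [[8], [0], [2], [4], [6], [10]] = true :=
  ⟨pM12_4.progs, by decide +kernel⟩
theorem pM12_4_idx {Γ : Type*} [Group Γ] {g : ℕ → Γ} (hi : InvOk g (imOf [0, 1, 2, 3, 4, 5])) (hr : ∀ r ∈ pM12_4_rels, ev g r = 1)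
    {H : Subgroup Γ} (hs : ∀ u ∈ ([[8], [0], [2], [4], [6]] : List (List ℕ)), ev g u ∈ H) :
    H.relIndex (gen g [[8], [0], [2], [4], [6], [10]]) ≠ 0 ∧ H.relIndex (gen g [[8], [0], [2], [4], [6], [10]]) ≤ 2 :=
  Reach.relIndex_le pM12_4_model hi hr hs pM12_4_chk (by decide +kernel)

def pM12_5_nets_n5_0 : ℕ := (nat_lit 0x2)
def pM12_5_nets_n6_0 : ℕ := (nat_lit 0x1)
def pM12_5_nets_n6_1 : ℕ := (nat_lit 0x1)
def pM12_5_nets_n5 : Net :=
  (Net.cons pM12_5_nets_n5_0 (nat_lit 1) Net.nil)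
def pM12_5_nets_n6 : Net :=
  (Net.cons pM12_5_nets_n6_0 (nat_lit 1) (Net.cons pM12_5_nets_n6_1 (nat_lit 2) Net.nil))
def pM12_5_nets : List Net := [Net.nil, Net.nil, Net.nil, Net.nil, Net.nil, pM12_5_nets_n5, pM12_5_nets_n6, Net.nil, Net.nil]
def pM12_5_rels : List (List ℕ) := [[8, 0, 8, 0],
  [8, 2, 8, 2],
  [8, 4, 8, 4],
  [8, 6, 8, 6],
  [0, 2, 0, 2],
  [4, 6, 4, 6],
  [0, 4, 0, 4],
  [2, 6, 2, 6],
  [0, 6, 0, 6, 8],
  [2, 4, 2, 4, 8],
  [12, 12, 12],
  [12, 0, 13, 2],
  [12, 2, 13, 0, 2],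
  [12, 4, 13, 6],
  [12, 6, 13, 4, 6],
  [12, 8, 13, 8],
  [10, 12, 10, 12],
  [10, 0, 10, 0],
  [10, 4, 10, 0, 4, 8],
  [10, 8, 10, 8],
  [10, 2, 10, 0, 2],
  [10, 6, 10, 0, 2, 4, 6, 8]]
theorem pM12_5_nets_ok : allL (Net.ok 3) pM12_5_nets = true := by decide +kernel
theorem pM12_5_rel_s0 : relsAt pM12_5_nets 3 2 (List.range' 0 2) (sqW [0, 1, 2, 3, 4, 5] ++ pM12_5_rels) = true := by decide +kernel
theorem pM12_5_rel : ∀ w ∈ (sqW [0, 1, 2, 3, 4, 5] ++ pM12_5_rels), ev (netGen pM12_5_nets) w = 1 :=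
  SlicesOk.rel (K := 2) ((SlicesOk.zero _ _ _ _).step 2 pM12_5_rel_s0)
    pM12_5_nets_ok (by norm_num)
theorem pM12_5_model : Model 3 pM12_5_nets (imOf [0, 1, 2, 3, 4, 5]) pM12_5_rels := Model.of_rel pM12_5_nets_ok pM12_5_rel
def pM12_5_t : Tr := (Tr.node (Tr.node (Tr.node (Tr.node Tr.leaf [13] 0 0 0 Tr.leaf) [6] 0 0 0 Tr.leaf) [2] 0 0 0 (Tr.node Tr.leaf [10] 0 0 0 Tr.leaf)) [0] 0 0 0 (Tr.node (Tr.node Tr.leaf [8] 0 0 0 Tr.leaf) [4] 0 0 0 (Tr.node Tr.leaf [12] 0 0 0 Tr.leaf)))
def pM12_5_m0 : ℕ := (nat_lit 0)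
def pM12_5_m1 : ℕ := (nat_lit 0)
def pM12_5_m2 : ℕ := (nat_lit 0)
def pM12_5_m3 : ℕ := (nat_lit 0)
def pM12_5_m4 : ℕ := (nat_lit 0)
def pM12_5_m5 : ℕ := (nat_lit 0)
def pM12_5_m6 : ℕ := (nat_lit 0x4)
def pM12_5_m7 : ℕ := (nat_lit 0x2)
def pM12_5_p0 : List ℕ := [nat_lit 0x101700d00f,
  nat_lit 0xd00100b00d00d,
  nat_lit 0xd00300400c00100e,
  nat_lit 0xd00700400e00500e,
  nat_lit 0xd00900401000900e,
  nat_lit 0xe00c00201100b00e,
  nat_lit 0x101700b00b,
  nat_lit 0xe00100100c00300d,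
  nat_lit 0xd00300100500d00300e,
  nat_lit 0xe00500100e00700d,
  nat_lit 0xd00700500500f00700e,
  nat_lit 0xe00900101000900d,
  nat_lit 0xb00100101200100c,
  nat_lit 0xd00700400e00500e]
noncomputable def pM12_5 : CE where
  p0 := 0
  F := (Nat.sub (Nat.shiftLeft 1 3) 1)
  masks := [pM12_5_m0, pM12_5_m1, pM12_5_m2, pM12_5_m3, pM12_5_m4, pM12_5_m5, pM12_5_m6, pM12_5_m7]
  gprog := [6, 7]
  cprog := []
  sids := [4, 0, 1, 2, 3, 5]
  t0 := pM12_5_t
  s := 12
  progs := [pM12_5_p0]
  O := (Nat.sub (Nat.shiftLeft 1 3) 1)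
  yids := [0, 1, 2, 3, 4, 5, 6]
theorem pM12_5_chk : ∃ progs, CE.check { pM12_5 with progs := progs } pM12_5_nets (imOf [0, 1, 2, 3, 4, 5]) pM12_5_rels [[8], [0], [2], [4], [6], [10]] [[0], [2], [4], [6], [8], [10], [12]] = true :=
  ⟨pM12_5.progs, by decide +kernel⟩
theorem pM12_5_idx {Γ : Type*} [Group Γ] {g : ℕ → Γ} (hi : InvOk g (imOf [0, 1, 2, 3, 4, 5])) (hr : ∀ r ∈ pM12_5_rels, ev g r = 1)
    {H : Subgroup Γ} (hs : ∀ u ∈ ([[8], [0], [2], [4], [6], [10]] : List (List ℕ)), ev g u ∈ H) :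
    H.relIndex (gen g [[0], [2], [4], [6], [8], [10], [12]]) ≠ 0 ∧ H.relIndex (gen g [[0], [2], [4], [6], [8], [10], [12]]) ≤ 3 :=
  Reach.relIndex_le pM12_5_model hi hr hs pM12_5_chk (by decide +kernel)

def pM12_6_nets_n0_0 : ℕ := (nat_lit 0x220a0000000008a08000000000000000000000000000000000000000000000000000000000000000000000000000000000000000000000000000)
def pM12_6_nets_n0_1 : ℕ := (nat_lit 0x199980000019998000000000000000001980)
def pM12_6_nets_n0_2 : ℕ := (nat_lit 0x787878780000787878780000787878787878787878787878787878787878787878787878787878787878787800000078780000787878787878787878000)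
def pM12_6_nets_n0_3 : ℕ := (nat_lit 0x1980198000001980000000001999800019801980001999801980000000001980198019998000000000000000000000198000001999800019800000000000)
def pM12_6_nets_n0_4 : ℕ := (nat_lit 0x2080000880000a2a800000000a002a8000220a08a20a2a80208008800880000020aaaaa080220022002200000282802aaa82802a8a00000a220000000000)
def pM12_6_nets_n1_0 : ℕ := (nat_lit 0x2a800000000000000000002a800000000000000000000000000000000000000000000000000000000000000000000000000000000000000000000000)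
def pM12_6_nets_n1_1 : ℕ := (nat_lit 0x1980000000001999800000000000198000)
def pM12_6_nets_n1_2 : ℕ := (nat_lit 0x787800000000000000000000000078780000000000000000000000000000000000000000000000000000000000007800000000000000000000000000780)
def pM12_6_nets_n1_3 : ℕ := (nat_lit 0x7f80000000007f8000000000000000000000000000000000000000000000000000000000000000000000007f807f8000007f807f807f800000)
def pM12_6_nets_n1_4 : ℕ := (nat_lit 0x7fff80000000000000007fff80007fff80007fff80007fff80007fff80007fff80007fff800000000000000000000000000000000000)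
def pM12_6_nets_n1_5 : ℕ := (nat_lit 0x7f807f8000000000000000000000000000000000000000000000000000)
def pM12_6_nets_n1_6 : ℕ := (nat_lit 0x7878000000007800780078787878000000000000000078000078000000007800780000000000000000000000000000000000000)
def pM12_6_nets_n1_7 : ℕ := (nat_lit 0x1980000018181800180001980000000019801980180181980180018001998199999818198000000000000000000019818180000000000001818000000000)
def pM12_6_nets_n1_8 : ℕ := (nat_lit 0x2200000a2228a828a828028000222208028202aa02228828002800080888222aaaaaaa800000000020002000028a20a200808028000002828000000000)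
def pM12_6_nets_n2_0 : ℕ := (nat_lit 0x2a80002828)
def pM12_6_nets_n2_1 : ℕ := (nat_lit 0x19800000000000199980000000000000)
def pM12_6_nets_n2_2 : ℕ := (nat_lit 0x7878000000007878000000000000000000000000000000000000000000000000000000000000000078780000007878000000007878000078000)
def pM12_6_nets_n2_3 : ℕ := (nat_lit 0x7f807f8000007f807f8000007f807f807f807f807f807f807f807f807f807f807f807f807f807f807f807f800000007f8000007f800000000000000000)
def pM12_6_nets_n2_4 : ℕ := (nat_lit 0x787800000000787800000000000000000000000078780000000000007878000000000078780000787800000000000000000)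
def pM12_6_nets_n2_5 : ℕ := (nat_lit 0x1818181800199818000000199999800001818198181818180181800000001818019819999999999980000000001980180180001999800019800000000000)
def pM12_6_nets_n2_6 : ℕ := (nat_lit 0x20082008220a2a2a0000220a0802282820200000000028280a8a88082a2a000028a2a008228a8820288a8000222082800022000aaa2a802aaa8000088000)
def pM12_6_nets_n3_0 : ℕ := (nat_lit 0x2aaaaa80002222000000000000000000220a)
def pM12_6_nets_n3_1 : ℕ := (nat_lit 0x1999999999999999999999999999999999999999999999999999999999999999999999999999999999999999800000199980001999999999999999998000)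
def pM12_6_nets_n3_2 : ℕ := (nat_lit 0x2a82a80002a82aa8282802a80002a8282800000000002828002800280002a82800282800280028000280282800000002a8000002aaa82800002828028000)
def pM12_6_nets_n4_0 : ℕ := (nat_lit 0x2aaaaaaaaaaaaaaaaaaaaaaaaaaaaaaaaaaaaaaaaaaaaaaaaaaaaaaaaaaaaaaaaaaaaaaaaaaaaaaaaaaaaaaa8000002aaaaaaaaaaaaaaaaaaaaaaaaaaa80)
def pM12_6_nets_n5_0 : ℕ := (nat_lit 0x8000000000000000000000000000000000000000000000000000000000000000082011000000000000000000000000000000)
def pM12_6_nets_n5_1 : ℕ := (nat_lit 0x1800180001801800000006060000000001818000199980000180000019980000199800001999800000000000181810001800001980198001800000180018)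
def pM12_6_nets_n5_2 : ℕ := (nat_lit 0x1860000000006000000000000000000000000000000000000078000000780000000000000000000000003078000000000000000000000000000)
def pM12_6_nets_n5_3 : ℕ := (nat_lit 0x780000000001e000000000007800000780000000000000078000000000000007f800000000000007f80000000000000000000000000007f80)
def pM12_6_nets_n5_4 : ℕ := (nat_lit 0x7fff800000001999800000007fff80001e1980000000000000000000619980000000000000000000199980000000007fff80007fff80007fff800000)
def pM12_6_nets_n5_5 : ℕ := (nat_lit 0x7fffffff80000000000000007fffffff80000000000000000000000000000000000000000000)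
def pM12_6_nets_n5_6 : ℕ := (nat_lit 0x666600001e6600000000000066198000619e00000000000000000000000000000000000000000000)
def pM12_6_nets_n5_7 : ℕ := (nat_lit 0x198066000000198019800000198061801f801800660066007e00060079800180000000007f8000001980198000000078001e0066001e00660066000000)
def pM12_6_nets_n5_8 : ℕ := (nat_lit 0x601878001860601818606000000000001878781860186018007800786078006018606060007800780060600030300018606060186078001860780060600)
def pM12_6_nets_n5_9 : ℕ := (nat_lit 0x199819981801800000006061818181801981980198198000181980019980000180001819801819800000000181810001800000198181801800000180000)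
def pM12_6_nets_n5_10 : ℕ := (nat_lit 0x8a22888080a8a22882202220a00a2800200882a2028820a88a0a20880000a00000a088a2a08080800000022082011200a2022280802a002022800000000)
def pM12_6_nets_n6_0 : ℕ := (nat_lit 0x202002000000000000000000000000000000)
def pM12_6_nets_n6_1 : ℕ := (nat_lit 0x1800180000181800000000181980000001800180180018000180000000001800018019801980198000000000181800180018181980198018000000060006)
def pM12_6_nets_n6_2 : ℕ := (nat_lit 0x78007800787800000000000000000078000000000000787800007878000000780000787800000078000000000000007800000078000000780060606)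
def pM12_6_nets_n6_3 : ℕ := (nat_lit 0x7f800000000000000000000000000000)
def pM12_6_nets_n6_4 : ℕ := (nat_lit 0x7878000000007fff8000000000000000000000000000000000000000000000000000787800007f800000000000000000000000000000)
def pM12_6_nets_n6_5 : ℕ := (nat_lit 0x7fff80000000000000007fff80000000000000000000000000000000000000007fffffff80000000000000000000000000000000007fff800000)
def pM12_6_nets_n6_6 : ℕ := (nat_lit 0x7fffffff80000000000000007fffffff8000000000000000000000000000007fffffff800000)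
def pM12_6_nets_n6_7 : ℕ := (nat_lit 0x7fffffff8000000000000000000000000000000000000000000000000000007fff8000000000)
def pM12_6_nets_n6_8 : ℕ := (nat_lit 0x7fff8000000000000000000000007878000007f80000078780000787800078780000787800000000000000000000000000000000000000000000)
def pM12_6_nets_n6_9 : ℕ := (nat_lit 0x1e006600078019801980780019806180660066001980198066006180198061806600198061801e0019801980000000618078001980780078001e000000)
def pM12_6_nets_n6_10 : ℕ := (nat_lit 0x186078786018000000001860780060187878007818606018000000000000000078000000787878787800000030306060606018606000001860606000000)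
def pM12_6_nets_n6_11 : ℕ := (nat_lit 0x180018018001819801998000198001998001800000181800199819801980180180018180181981819801980001109001818018000000019980019800600)
def pM12_6_nets_n6_12 : ℕ := (nat_lit 0x20000a2a8802a2a80200228028202080aa20800a000202028228020200a280a2002a820008a080200220000080220080200802220000000200020000000)
def pM12_6_nets_n7_0 : ℕ := (nat_lit 0x82828200800a000282800002028002828082020082000280828202820282828080000082808280828082828202008000020220020282820082828282201)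
def pM12_6_nets_n7_1 : ℕ := (nat_lit 0x1819819811110180181991110181999980001800198199819819818180000199980018001819800000000000000008980000001800000001819981800001)
def pM12_6_nets_n7_2 : ℕ := (nat_lit 0x70402830000828084040000868184010603010705010606840083050184850606040005820404048102050280008680058584868606800480068502800)
def pM12_6_nets_n7_3 : ℕ := (nat_lit 0x68025804b000c0040003b001100218078000a000a806a0032800a800c8064005e002100608023001400500013001e00000022801980140049002200000)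
def pM12_6_nets_n7_4 : ℕ := (nat_lit 0x1a510000136700000b5f80002a3080002e3680004735800043da80006c000000348400006c4f80002515000033a600004e0200001149000001108)
def pM12_6_nets_n7_5 : ℕ := (nat_lit 0x400000000001b067109800000007296c8ce000000006260c80a800000001040d8af000000000d022331800000004801000f00000000002080000)
def pM12_6_nets_n7_6 : ℕ := (nat_lit 0x61a2e117dde80000000000000005dae1eb3bf4fc8e9000000000000000008b61d0024294001000000000000000012953000000000000)
def pM12_6_nets_n7_7 : ℕ := (nat_lit 0x1000458040017a9a23010961848000000000000000000000000000000000a0030000000000000000000000000000)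
def pM12_6_nets_n7_8 : ℕ := (nat_lit 0x10024490006452f86319ad6d9e82b627cf2f9b5cc0912942000000000000)
def pM12_6_nets_n7_9 : ℕ := (nat_lit 0x18c444a2316c8523c0337dbc4a00000000000000000000000000000000040d4280d46ca37f1fa010148002000000)
def pM12_6_nets_n7_10 : ℕ := (nat_lit 0x1e5d1ee92a1000000000000000034fbce7335b5dcc800000000000000000149381074008e0f00000000000000005095a000000000070)
def pM12_6_nets_n7_11 : ℕ := (nat_lit 0x53180000000276d82920000000035ddc2fe800000004921940a8000000058a1ceef0000000015792611800000001070080f000000000562be918)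
def pM12_6_nets_n7_12 : ℕ := (nat_lit 0x609500006bcd80006a6f8000352500003bbc00002a5c80004fcf00006f1400000752800012d680003a7000003b67000040020000114b800045e98)
def pM12_6_nets_n7_13 : ℕ := (nat_lit 0x68042801b001e006d0003000700210007000b005a8017005b806b805f0055802e805800038059801c0025007b001e004c001380158034001e003500500)
def pM12_6_nets_n7_14 : ℕ := (nat_lit 0x20001060000878587038000850001028503000603810207818583048783840303038580050701810600850000008783018085010301010685038105810)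
def pM12_6_nets_n7_15 : ℕ := (nat_lit 0x1819818911110180091991110181999991001800198191091819890900000199980018111099800000000000180189180011111811000001891989001100)
def pM12_6_nets_n7_16 : ℕ := (nat_lit 0x2a220008200222a8000000000820a800002028aa0222a8000a800800082a800020282800aaa880202a8200000822a0280a02002202000008200880220000)
def pM12_6_nets_n8_0 : ℕ := (nat_lit 0x14441151540444450515040040004555151551550500050440100540105515100100105544505055454515504545401504011541404504400105114140)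
def pM12_6_nets_n8_1 : ℕ := (nat_lit 0x321301302333323001123130200003030012102000100133030022100311001123320023010021020021001023212032111020301031130122301120030)
def pM12_6_nets_n8_2 : ℕ := (nat_lit 0x704040e0c08040f020e040000090e0e070e0605090d05010d060a04040408000a0102040907010c0b010b000e00010102090a0801020402090408060408)
def pM12_6_nets_n8_3 : ℕ := (nat_lit 0xda008700090099006600a800e800d000db004c00d400eb00250032001900da00b0002000d40011003c00af0042003c000000840008006400400000)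
def pM12_6_nets_n8_4 : ℕ := (nat_lit 0xf0dd00004d6d0000779f0000c68d000076830000ba0a000030180000303400005b6e0000664a000010c400002eb5000008850000700c00006c48)
def pM12_6_nets_n8_5 : ℕ := (nat_lit 0x20e000000000a7843129000000006744902a00000000489e852a0000000015df020800000000492f08d800000000c021b1210000000079810000)
def pM12_6_nets_n8_6 : ℕ := (nat_lit 0xcca7c5b80b00000000000000002d25458d8754b33c0000000000000000549c22603010402500000000000000004e8c000000000000)
def pM12_6_nets_n8_7 : ℕ := (nat_lit 0x23ee50e6080001000241023717170000000000000000000000000000000044080000000000000000000000000000)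
def pM12_6_nets_n8_8 : ℕ := (nat_lit 0x10627f4cf8b77bffb32da2da5fd74459779d8fb2e5ed4a7d9dd628a50008)
def pM12_6_nets_n8_9 : ℕ := (nat_lit 0x23ea78a740a5a405020d0bff971a000000000000000000000000000000007166288748f546888ac526e77d924800)
def pM12_6_nets_n8_10 : ℕ := (nat_lit 0x4e3759d3c77000000000000000002d75459e8744b739000000000000000054d20a79d000a8020000000000000000669ca836689bd828)
def pM12_6_nets_n8_11 : ℕ := (nat_lit 0x1ebe00000000a744975d000000002704902f0000000078de058c000000005533180c00000000496d85de00000000e8c33b0c0000000059c7c0a0)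
def pM12_6_nets_n8_12 : ℕ := (nat_lit 0xd2320000cf7700007c550000900b000037830000be4a00003818000030d50000b97e00006a080000f5c400002436000020a5000074890000218e)
def pM12_6_nets_n8_13 : ℕ := (nat_lit 0x8001900bf00010093006c00310047003e00df006500b300c10025001200d300f0009a0004007e00bb0074008300420016002000a800480040000c0064)
def pM12_6_nets_n8_14 : ℕ := (nat_lit 0x5070a0e0c08060d040a040b08090e020b020705090d01090d060a040404040c080302060b05010603010f060e000101020f0a0b0b020400030808020409)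
def pM12_6_nets_n8_15 : ℕ := (nat_lit 0x321000202111303320323130200131010112322020312033030032301313213123231033212213320023233023210032111020301023310332303320032)
def pM12_6_nets_n8_16 : ℕ := (nat_lit 0x14451051540444450515040050014455151551450514540440100540115515000000105544505055554515504545401504011541414515510105114140)
def pM12_6_nets_n0 : Net :=
  (Net.cons pM12_6_nets_n0_0 (nat_lit 1) (Net.cons pM12_6_nets_n0_1 (nat_lit 2) (Net.cons pM12_6_nets_n0_2 (nat_lit 4) (Net.cons pM12_6_nets_n0_3 (nat_lit 2) (Net.cons pM12_6_nets_n0_4 (nat_lit 1) Net.nil)))))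
def pM12_6_nets_n1 : Net :=
  (Net.cons pM12_6_nets_n1_0 (nat_lit 1) (Net.cons pM12_6_nets_n1_1 (nat_lit 2) (Net.cons pM12_6_nets_n1_2 (nat_lit 4) (Net.cons pM12_6_nets_n1_3 (nat_lit 8) (Net.cons pM12_6_nets_n1_4 (nat_lit 16) (Net.cons pM12_6_nets_n1_5 (nat_lit 8) (Net.cons pM12_6_nets_n1_6 (nat_lit 4) (Net.cons pM12_6_nets_n1_7 (nat_lit 2) (Net.cons pM12_6_nets_n1_8 (nat_lit 1) Net.nil)))))))))
def pM12_6_nets_n2 : Net :=
  (Net.cons pM12_6_nets_n2_0 (nat_lit 1) (Net.cons pM12_6_nets_n2_1 (nat_lit 2) (Net.cons pM12_6_nets_n2_2 (nat_lit 4) (Net.cons pM12_6_nets_n2_3 (nat_lit 8) (Net.cons pM12_6_nets_n2_4 (nat_lit 4) (Net.cons pM12_6_nets_n2_5 (nat_lit 2) (Net.cons pM12_6_nets_n2_6 (nat_lit 1) Net.nil)))))))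
def pM12_6_nets_n3 : Net :=
  (Net.cons pM12_6_nets_n3_0 (nat_lit 1) (Net.cons pM12_6_nets_n3_1 (nat_lit 2) (Net.cons pM12_6_nets_n3_2 (nat_lit 1) Net.nil)))
def pM12_6_nets_n4 : Net :=
  (Net.cons pM12_6_nets_n4_0 (nat_lit 1) Net.nil)
def pM12_6_nets_n5 : Net :=
  (Net.cons pM12_6_nets_n5_0 (nat_lit 1) (Net.cons pM12_6_nets_n5_1 (nat_lit 2) (Net.cons pM12_6_nets_n5_2 (nat_lit 4) (Net.cons pM12_6_nets_n5_3 (nat_lit 8) (Net.cons pM12_6_nets_n5_4 (nat_lit 16) (Net.cons pM12_6_nets_n5_5 (nat_lit 32) (Net.cons pM12_6_nets_n5_6 (nat_lit 16) (Net.cons pM12_6_nets_n5_7 (nat_lit 8) (Net.cons pM12_6_nets_n5_8 (nat_lit 4) (Net.cons pM12_6_nets_n5_9 (nat_lit 2) (Net.cons pM12_6_nets_n5_10 (nat_lit 1) Net.nil)))))))))))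
def pM12_6_nets_n6 : Net :=
  (Net.cons pM12_6_nets_n6_0 (nat_lit 1) (Net.cons pM12_6_nets_n6_1 (nat_lit 2) (Net.cons pM12_6_nets_n6_2 (nat_lit 4) (Net.cons pM12_6_nets_n6_3 (nat_lit 8) (Net.cons pM12_6_nets_n6_4 (nat_lit 16) (Net.cons pM12_6_nets_n6_5 (nat_lit 32) (Net.cons pM12_6_nets_n6_6 (nat_lit 64) (Net.cons pM12_6_nets_n6_7 (nat_lit 32) (Net.cons pM12_6_nets_n6_8 (nat_lit 16) (Net.cons pM12_6_nets_n6_9 (nat_lit 8) (Net.cons pM12_6_nets_n6_10 (nat_lit 4) (Net.cons pM12_6_nets_n6_11 (nat_lit 2) (Net.cons pM12_6_nets_n6_12 (nat_lit 1) Net.nil)))))))))))))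
def pM12_6_nets_n7 : Net :=
  (Net.cons pM12_6_nets_n7_0 (nat_lit 1) (Net.cons pM12_6_nets_n7_1 (nat_lit 2) (Net.cons pM12_6_nets_n7_2 (nat_lit 4) (Net.cons pM12_6_nets_n7_3 (nat_lit 8) (Net.cons pM12_6_nets_n7_4 (nat_lit 16) (Net.cons pM12_6_nets_n7_5 (nat_lit 32) (Net.cons pM12_6_nets_n7_6 (nat_lit 64) (Net.cons pM12_6_nets_n7_7 (nat_lit 128) (Net.cons pM12_6_nets_n7_8 (nat_lit 256) (Net.cons pM12_6_nets_n7_9 (nat_lit 128) (Net.cons pM12_6_nets_n7_10 (nat_lit 64) (Net.cons pM12_6_nets_n7_11 (nat_lit 32) (Net.cons pM12_6_nets_n7_12 (nat_lit 16) (Net.cons pM12_6_nets_n7_13 (nat_lit 8) (Net.cons pM12_6_nets_n7_14 (nat_lit 4) (Net.cons pM12_6_nets_n7_15 (nat_lit 2) (Net.cons pM12_6_nets_n7_16 (nat_lit 1) Net.nil)))))))))))))))))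
def pM12_6_nets_n8 : Net :=
  (Net.cons pM12_6_nets_n8_0 (nat_lit 1) (Net.cons pM12_6_nets_n8_1 (nat_lit 2) (Net.cons pM12_6_nets_n8_2 (nat_lit 4) (Net.cons pM12_6_nets_n8_3 (nat_lit 8) (Net.cons pM12_6_nets_n8_4 (nat_lit 16) (Net.cons pM12_6_nets_n8_5 (nat_lit 32) (Net.cons pM12_6_nets_n8_6 (nat_lit 64) (Net.cons pM12_6_nets_n8_7 (nat_lit 128) (Net.cons pM12_6_nets_n8_8 (nat_lit 256) (Net.cons pM12_6_nets_n8_9 (nat_lit 128) (Net.cons pM12_6_nets_n8_10 (nat_lit 64) (Net.cons pM12_6_nets_n8_11 (nat_lit 32) (Net.cons pM12_6_nets_n8_12 (nat_lit 16) (Net.cons pM12_6_nets_n8_13 (nat_lit 8) (Net.cons pM12_6_nets_n8_14 (nat_lit 4) (Net.cons pM12_6_nets_n8_15 (nat_lit 2) (Net.cons pM12_6_nets_n8_16 (nat_lit 1) Net.nil)))))))))))))))))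
def pM12_6_nets : List Net := [pM12_6_nets_n0, pM12_6_nets_n1, pM12_6_nets_n2, pM12_6_nets_n3, pM12_6_nets_n4, pM12_6_nets_n5, pM12_6_nets_n6, pM12_6_nets_n7, pM12_6_nets_n8]
def pM12_6_rels : List (List ℕ) := [[8, 0, 8, 0],
  [8, 2, 8, 2],
  [8, 4, 8, 4],
  [8, 6, 8, 6],
  [0, 2, 0, 2],
  [4, 6, 4, 6],
  [0, 4, 0, 4],
  [2, 6, 2, 6],
  [0, 6, 0, 6, 8],
  [2, 4, 2, 4, 8],
  [12, 12, 12],
  [12, 0, 13, 2],
  [12, 2, 13, 0, 2],
  [12, 4, 13, 6],
  [12, 6, 13, 4, 6],
  [12, 8, 13, 8],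
  [10, 12, 10, 12],
  [10, 0, 10, 0],
  [10, 4, 10, 0, 4, 8],
  [10, 8, 10, 8],
  [10, 2, 10, 0, 2],
  [10, 6, 10, 0, 2, 4, 6, 8],
  [14, 14, 14],
  [14, 4, 15, 4],
  [6, 14, 6, 14],
  [14, 8, 15, 0],
  [14, 0, 15, 8, 0],
  [14, 10, 15, 2],
  [14, 2, 15, 10, 4, 2, 0],
  [16, 16],
  [16, 4, 17, 4],
  [16, 6, 17, 6],
  [16, 14, 17, 15],
  [16, 6, 8, 16, 6, 8, 16, 6, 8],
  [12, 16, 6, 8, 13, 8, 6, 17]]
theorem pM12_6_nets_ok : allL (Net.ok 495) pM12_6_nets = true := by decide +kernel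
theorem pM12_6_rel_s0 : relsAt pM12_6_nets 495 9 (List.range' 0 9) (sqW [0, 1, 2, 3, 4, 5] ++ pM12_6_rels) = true := by decide +kernel
theorem pM12_6_rel : ∀ w ∈ (sqW [0, 1, 2, 3, 4, 5] ++ pM12_6_rels), ev (netGen pM12_6_nets) w = 1 :=
  SlicesOk.rel (K := 9) ((SlicesOk.zero _ _ _ _).step 9 pM12_6_rel_s0)
    pM12_6_nets_ok (by norm_num)
theorem pM12_6_model : Model 495 pM12_6_nets (imOf [0, 1, 2, 3, 4, 5]) pM12_6_rels := Model.of_rel pM12_6_nets_ok pM12_6_rel
def pM12_6_t : Tr := (Tr.node (Tr.node (Tr.node (Tr.node Tr.leaf [14] 0 0 0 Tr.leaf) [6] 0 0 0 (Tr.node Tr.leaf [17] 0 0 0 Tr.leaf)) [2] 0 0 0 (Tr.node (Tr.node Tr.leaf [13] 0 0 0 Tr.leaf) [10] 0 0 0 Tr.leaf)) [0] 0 0 0 (Tr.node (Tr.node (Tr.node Tr.leaf [16] 0 0 0 Tr.leaf) [8] 0 0 0 Tr.leaf) [4] 0 0 0 (Tr.node (Tr.node Tr.leaf [15] 0 0 0 Tr.leaf) [12] 0 0 0 Tr.leaf)))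
def pM12_6_m0 : ℕ := (nat_lit 0x1000000000282800000000002800400010400000000000002810482028000000400000084800000828000000000004620000002800000028000200)
def pM12_6_m1 : ℕ := (nat_lit 0x1000000030280000000000100403021000000280000000a800000030000400000002aca8000284a8000000000020001000202028004043a80022800)
def pM12_6_m2 : ℕ := (nat_lit 0x400000000000000000000000000000000000000004000000100000000004000010100000000000000000002040040040100500105000)
def pM12_6_m3 : ℕ := (nat_lit 0x400000000000000000000000000000000000000000000000000000000000000000004004040000000040200040404004000000000040400)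
def pM12_6_m4 : ℕ := (nat_lit 0x5051500000000000500000141000000010000040500000105000000050000050500051115000000000000010000011500000005000100)
def pM12_6_m5 : ℕ := (nat_lit 0x2400000000000881040000000820100080000001811001001000000020040000000b62000200000018000000000001811800051b1800029a98000698000)
def pM12_6_m6 : ℕ := (nat_lit 0x107c6d00000000000000004578000044044806018204000000000001801c000240000000100000000000007f800000007a180808000000000000000060)
def pM12_6_m7 : ℕ := (nat_lit 0x19e190600000661e000000000000000000401a2440d062400000004021a208001000100000000000000053000000000000000000424040000004)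
def pM12_6_m8 : ℕ := (nat_lit 0)
def pM12_6_m9 : ℕ := (nat_lit 0xd8f8000000000000000000008047c0001001608000000000004000008300010000041800000002002002600007f8061ec00000000780000000000000018)
def pM12_6_m10 : ℕ := (nat_lit 0x40000000661e0000000019e1820000100010000024042180340009900000000004110018040140100000000000002c800000000000000012000010000002)
def pM12_6_m11 : ℕ := (nat_lit 0x30200282800068100282800030008282828aa0a08200c04a8a211002e0048282880c0002c1002282c0200082800000000000808000000280000002800080)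
def pM12_6_p0 : List ℕ := [nat_lit 0x1024001001,
  nat_lit 0x1024003003,
  nat_lit 0x1024005005,
  nat_lit 0x1024007007,
  nat_lit 0x1024009009,
  nat_lit 0x102400b00b,
  nat_lit 0x102400d013,
  nat_lit 0x102400f015,
  nat_lit 0x1024011017,
  nat_lit 0x101e011011,
  nat_lit 0xd00100b00d00d,
  nat_lit 0xf00101700f00f,
  nat_lit 0xb00900101400900c,
  nat_lit 0x3001002005001004,
  nat_lit 0xb00100101200100c,
  nat_lit 0x1101000502100f012,
  nat_lit 0x900300100200300a,
  nat_lit 0x900100100100100a,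
  nat_lit 0x1100500401f005012,
  nat_lit 0xd00300400c00100e,
  nat_lit 0xd00900401000900e,
  nat_lit 0x201000301a00f00a,
  nat_lit 0x401000301c00f00c,
  nat_lit 0x900500100300500a,
  nat_lit 0xb00300100501500300c,
  nat_lit 0x1024003003,
  nat_lit 0x1005001007005002,
  nat_lit 0xe00c00201100b00e,
  nat_lit 0x102400b00b,
  nat_lit 0xf005004018005010,
  nat_lit 0x300100b00301500b004,
  nat_lit 0xe00900101000900d,
  nat_lit 0xf00100401a009010,
  nat_lit 0x400c00400801500100c,
  nat_lit 0x1024001001,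
  nat_lit 0x1000b00101c00300f,
  nat_lit 0xf00101700f00f,
  nat_lit 0xf00900100401b001010,
  nat_lit 0x1024001001,
  nat_lit 0x500300900700a003006,
  nat_lit 0x1024003003,
  nat_lit 0x1101000502100f012,
  nat_lit 0x501000301800f006,
  nat_lit 0xd00300100500d00300e,
  nat_lit 0x7005002006005008,
  nat_lit 0xe00500100e00700d,
  nat_lit 0x1009002001009002,
  nat_lit 0x1000500101800500f,
  nat_lit 0x500300500100a009004,
  nat_lit 0x1024009009,
  nat_lit 0x1000900101a00100f,
  nat_lit 0x11007004020007012,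
  nat_lit 0x1000200f00901b009002,
  nat_lit 0x1024009009,
  nat_lit 0xd00300400c00100e,
  nat_lit 0x900100100100100a,
  nat_lit 0x900500100300500a,
  nat_lit 0x900700100400700a,
  nat_lit 0xd00900401000900e,
  nat_lit 0x10008002019007010,
  nat_lit 0x1024007007,
  nat_lit 0xb00900500100501300500c,
  nat_lit 0x1024005005,
  nat_lit 0xf00300401c00b010,
  nat_lit 0x101000301a00f00a,
  nat_lit 0xe00100100c00300d,
  nat_lit 0x3007001008007004,
  nat_lit 0x3001002005001004,
  nat_lit 0xe00900101000900d,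
  nat_lit 0x900700100400700a,
  nat_lit 0x1009007005009007002,
  nat_lit 0xd00700400e00500e,
  nat_lit 0xb00900101400900c,
  nat_lit 0x1100500401f005012,
  nat_lit 0xb00100101200100c,
  nat_lit 0x1005001007005002,
  nat_lit 0x900500100300500a,
  nat_lit 0x11007004020007012,
  nat_lit 0xf005004018005010,
  nat_lit 0x7009002004009008,
  nat_lit 0x1000500101800500f,
  nat_lit 0x10008002019007010,
  nat_lit 0x1024007007,
  nat_lit 0x300900500500a005004,
  nat_lit 0x1024005005,
  nat_lit 0x7003002008003008,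
  nat_lit 0x7001009007009001008,
  nat_lit 0x1024001001,
  nat_lit 0x7001007001009009002,
  nat_lit 0x700f00101900f008,
  nat_lit 0x1000900101a00100f,
  nat_lit 0xf00300401c00b010,
  nat_lit 0xd00700500500f00700e,
  nat_lit 0x1003001005003002,
  nat_lit 0xb00900700500300100501600700c,
  nat_lit 0x401000301c00f00c,
  nat_lit 0x7009002004009008,
  nat_lit 0x11007004020007012,
  nat_lit 0x700f00101900f008,
  nat_lit 0x900700100400700a,
  nat_lit 0x3007001008007004,
  nat_lit 0x7003002008003008,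
  nat_lit 0xd00700400e00500e,
  nat_lit 0x7005002006005008,
  nat_lit 0x900b00201400b00a,
  nat_lit 0x10008002019007010,
  nat_lit 0x1024007007,
  nat_lit 0x900300100200300a,
  nat_lit 0xf00101700f00f,
  nat_lit 0x1009007005009007002,
  nat_lit 0x1024007007,
  nat_lit 0x7001009007009001008,
  nat_lit 0x1024001001,
  nat_lit 0xf005004018005010,
  nat_lit 0x9007011009007011009003022011008,
  nat_lit 0xd00900401000900e,
  nat_lit 0xe00500100e00700d,
  nat_lit 0xe00c00201100b00e,
  nat_lit 0x102400b00b,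
  nat_lit 0x900100100100100a,
  nat_lit 0x10008002019007010,
  nat_lit 0x1024007007,
  nat_lit 0x1009002001009002,
  nat_lit 0xd00700400e00500e,
  nat_lit 0x5009002003009006,
  nat_lit 0x3007001008007004,
  nat_lit 0x700f00101900f008,
  nat_lit 0x100b00201200b002,
  nat_lit 0x1000b00101c00300f,
  nat_lit 0xe00700d00900f005008,
  nat_lit 0x1024005005,
  nat_lit 0xf012006021011010,
  nat_lit 0xd00700500500f00700e,
  nat_lit 0x1024007007,
  nat_lit 0x900700100400700a,
  nat_lit 0x11007004020007012,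
  nat_lit 0xf00100401a009010,
  nat_lit 0x501000301800f006,
  nat_lit 0xf00900100401b001010,
  nat_lit 0x900500100300500a,
  nat_lit 0x200600a00c00601300b006,
  nat_lit 0x102400b00b,
  nat_lit 0xd00300100500d00300e,
  nat_lit 0x1001200302101100f,
  nat_lit 0x900300100200300a,
  nat_lit 0x5007001006007006,
  nat_lit 0x7005002006005008,
  nat_lit 0x300e00300c00d002,
  nat_lit 0xe00100100c00300d,
  nat_lit 0x600a00c00600801300100c,
  nat_lit 0x1024001001,
  nat_lit 0x1005001007005002,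
  nat_lit 0x1200800a00e00a00800302300d011,
  nat_lit 0x1000200f00901b009002,
  nat_lit 0x1024009009,
  nat_lit 0x300100e00300d00d004,
  nat_lit 0x900701100e01200700a02300d00a,
  nat_lit 0xd00300400c00100e,
  nat_lit 0xf005004018005010,
  nat_lit 0xb00d00101100d00c,
  nat_lit 0xf00300401c00b010,
  nat_lit 0x10008002019007010,
  nat_lit 0x1024007007,
  nat_lit 0x7003002008003008,
  nat_lit 0x400e00300c00d002,
  nat_lit 0x1000500101800500f,
  nat_lit 0xd00900401000900e,
  nat_lit 0xa00e00301000d00a,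
  nat_lit 0xe00300d00900d001004,
  nat_lit 0x1024001001,
  nat_lit 0x800e00300e00d006,
  nat_lit 0xe00900101000900d,
  nat_lit 0x900700100400700a,
  nat_lit 0x7009002004009008,
  nat_lit 0x1009002001009002,
  nat_lit 0xd00700400e00500e,
  nat_lit 0x900100100100100a,
  nat_lit 0xd00100b00d00d,
  nat_lit 0xf00100401a009010,
  nat_lit 0xf00900100401b001010,
  nat_lit 0x1024001001,
  nat_lit 0x900300100200300a,
  nat_lit 0xe00500100e00700d,
  nat_lit 0x100b00201200b002,
  nat_lit 0xe00c00201100b00e,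
  nat_lit 0x102400b00b,
  nat_lit 0x1000900101a00100f,
  nat_lit 0xf00300401c00b010,
  nat_lit 0xd00700500500f00700e,
  nat_lit 0x1003001005003002,
  nat_lit 0xe00700d00900f005008,
  nat_lit 0x1024005005,
  nat_lit 0x1200800a00e00a00800302300d011,
  nat_lit 0xe00100100c00300d,
  nat_lit 0xd01200800a00e00a005023011008,
  nat_lit 0x7003002008003008,
  nat_lit 0x300900500500a005004,
  nat_lit 0x200400e00600d00d004,
  nat_lit 0x7009002004009008,
  nat_lit 0xd00900401000900e]
def pM12_6_p1 : List ℕ := [nat_lit 0xe00900101000900d,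
  nat_lit 0x101e011011,
  nat_lit 0x400e00300c00d002,
  nat_lit 0xf005004018005010,
  nat_lit 0x900500300300a003006,
  nat_lit 0x1024003003,
  nat_lit 0x7005002006005008,
  nat_lit 0x900500100b00301300b006,
  nat_lit 0x102400b00b,
  nat_lit 0x11007004020007012,
  nat_lit 0x900e00301000d00a,
  nat_lit 0x5007001006007006,
  nat_lit 0xe00c00201100b00e,
  nat_lit 0x102400b00b,
  nat_lit 0x900700100400700a,
  nat_lit 0x601200301f011006,
  nat_lit 0x1009007005009007002,
  nat_lit 0xf00b00500300100401d003010,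
  nat_lit 0x1024003003,
  nat_lit 0x1100500401f005012,
  nat_lit 0xd00700400e00500e,
  nat_lit 0x900500100300500a,
  nat_lit 0xb00d00101100d00c,
  nat_lit 0x3007001008007004,
  nat_lit 0xb00900101400900c,
  nat_lit 0xe00300d00900d001004,
  nat_lit 0x1024001001,
  nat_lit 0xd00700500500f00700e,
  nat_lit 0xd00300100500d00300e,
  nat_lit 0xe01200700900d009010023011008,
  nat_lit 0x401000301c00f00c,
  nat_lit 0xf00300401c00b010,
  nat_lit 0x101e011011,
  nat_lit 0x300900500500a005004,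
  nat_lit 0x1024005005,
  nat_lit 0x700e00300e00d006,
  nat_lit 0x5001002007001006,
  nat_lit 0xf012006021011010,
  nat_lit 0x700f00101900f008,
  nat_lit 0x600800e00600f00d008,
  nat_lit 0x10008002019007010,
  nat_lit 0x1024007007,
  nat_lit 0x1001200302101100f,
  nat_lit 0x7005002006005008,
  nat_lit 0x9007011009007011009003022011008,
  nat_lit 0x7003002008003008,
  nat_lit 0x1000500101800500f,
  nat_lit 0x7009002004009008,
  nat_lit 0xf005004018005010,
  nat_lit 0x1101000502100f012,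
  nat_lit 0x1200500101f005011,
  nat_lit 0x5009002003009006,
  nat_lit 0x5007001006007006,
  nat_lit 0x11007004020007012,
  nat_lit 0xf00100401a009010,
  nat_lit 0x10008002019007010,
  nat_lit 0x1024007007,
  nat_lit 0xf00101700f00f,
  nat_lit 0xf012006021011010,
  nat_lit 0xb00300100501500300c,
  nat_lit 0x7009002004009008,
  nat_lit 0x1000900101a00100f,
  nat_lit 0x800e00300e00d006,
  nat_lit 0x8012003020011008,
  nat_lit 0x900300100200300a,
  nat_lit 0x101000301a00f00a,
  nat_lit 0x1200800a00e00a00800302300d011,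
  nat_lit 0x5001002007001006,
  nat_lit 0x1005001007005002,
  nat_lit 0x200400e00600d00d004,
  nat_lit 0xb00100101200100c,
  nat_lit 0xd00700400e00500e,
  nat_lit 0x900b00201400b00a,
  nat_lit 0xf00300401c00b010,
  nat_lit 0x5009002003009006,
  nat_lit 0x300e00300c00d002,
  nat_lit 0xe00100100c00300d,
  nat_lit 0x3007001008007004,
  nat_lit 0xa00e00301000d00a,
  nat_lit 0xe00900101000900d,
  nat_lit 0x100b00201200b002,
  nat_lit 0xd00300400c00100e,
  nat_lit 0x1009002001009002,
  nat_lit 0x300100b00301500b004,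
  nat_lit 0x102400b00b,
  nat_lit 0xd00300100500d00300e,
  nat_lit 0x1024003003,
  nat_lit 0x1101000502100f012,
  nat_lit 0x601000301800f006,
  nat_lit 0x1009007005009007002,
  nat_lit 0x1024007007,
  nat_lit 0xe00c00201100b00e,
  nat_lit 0x102400b00b,
  nat_lit 0x200a01000301b00f002,
  nat_lit 0x1003001005003002,
  nat_lit 0x3001002005001004,
  nat_lit 0xd00900401000900e,
  nat_lit 0x7001007001009009002,
  nat_lit 0x1024009009,
  nat_lit 0x800e00300e00d006,
  nat_lit 0x300100e00300d00d004,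
  nat_lit 0x900500100b00301300b006,
  nat_lit 0x102400b00b,
  nat_lit 0x1000b00101c00300f,
  nat_lit 0x900700100400700a,
  nat_lit 0x900500100300500a,
  nat_lit 0x300900500500a005004,
  nat_lit 0x900300100200300a,
  nat_lit 0x3009002002009004,
  nat_lit 0x900100100100100a,
  nat_lit 0x3007001008007004,
  nat_lit 0x301000301c00f00c,
  nat_lit 0x3001002005001004,
  nat_lit 0xb00300100501500300c,
  nat_lit 0xb00d00101100d00c,
  nat_lit 0x300e00300c00d002,
  nat_lit 0xd00300400c00100e,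
  nat_lit 0x1009002001009002,
  nat_lit 0xd00700400e00500e,
  nat_lit 0x1009007005009007002,
  nat_lit 0x1024007007,
  nat_lit 0x900e00301000d00a,
  nat_lit 0x900101000601b00f002,
  nat_lit 0x500300500100a009004,
  nat_lit 0x1024009009,
  nat_lit 0x201000301a00f00a,
  nat_lit 0xd00100b00d00d,
  nat_lit 0x1005001007005002,
  nat_lit 0x7003002008003008,
  nat_lit 0xf00300401c00b010,
  nat_lit 0xf00900100401b001010,
  nat_lit 0x1024001001,
  nat_lit 0xd00900401000900e,
  nat_lit 0x100b00201200b002,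
  nat_lit 0xe00100100c00300d,
  nat_lit 0xd00700500500f00700e,
  nat_lit 0x601200301f011006,
  nat_lit 0x8012003020011008,
  nat_lit 0x900700100400700a,
  nat_lit 0xe00c00201100b00e,
  nat_lit 0x102400b00b,
  nat_lit 0x1009002001009002,
  nat_lit 0xb00900101400900c,
  nat_lit 0x7001009007009001008,
  nat_lit 0x1024001001,
  nat_lit 0x1003001005003002,
  nat_lit 0x900500100300500a,
  nat_lit 0xe01200700900d009010023011008,
  nat_lit 0x200400e00600d00d004,
  nat_lit 0x1001200302101100f,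
  nat_lit 0x7009002004009008,
  nat_lit 0xd01200800a00e00a005023011008,
  nat_lit 0x600800e00600f00d008,
  nat_lit 0x9007001003009001008,
  nat_lit 0x1024001001,
  nat_lit 0xe00300d00900d001004,
  nat_lit 0x1024001001,
  nat_lit 0x700f00101900f008,
  nat_lit 0x900500300300a003006,
  nat_lit 0x1024003003,
  nat_lit 0x700e00300e00d006,
  nat_lit 0xf012006021011010,
  nat_lit 0x1005001007005002,
  nat_lit 0x200600a00c00601300b006,
  nat_lit 0x102400b00b,
  nat_lit 0xd00300100500d00300e,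
  nat_lit 0x1024003003,
  nat_lit 0x1000400f00200400901d00b006,
  nat_lit 0x102400b00b,
  nat_lit 0x401000301c00f00c,
  nat_lit 0x900500100b00301300b006,
  nat_lit 0x102400b00b,
  nat_lit 0x300100b00301500b004,
  nat_lit 0x102400b00b,
  nat_lit 0x101000301a00f00a,
  nat_lit 0x300e00300c00d002,
  nat_lit 0xf00100401a009010,
  nat_lit 0xd00300400c00100e,
  nat_lit 0x5007001006007006,
  nat_lit 0x101e011011,
  nat_lit 0x1009002001009002,
  nat_lit 0x1100500401f005012,
  nat_lit 0x1101000502100f012,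
  nat_lit 0x1200800a00e00a00800302300d011,
  nat_lit 0x8012003020011008,
  nat_lit 0xe00900101000900d,
  nat_lit 0x1000b00101c00300f,
  nat_lit 0xe01200700900d009010023011008,
  nat_lit 0xd00900401000900e,
  nat_lit 0x900500100300500a,
  nat_lit 0x1201000802100f011,
  nat_lit 0x900100100100100a,
  nat_lit 0x900b00201400b00a,
  nat_lit 0x900300100200300a,
  nat_lit 0x900700100400700a,
  nat_lit 0x1000900101a00100f,
  nat_lit 0xf00300401c00b010,
  nat_lit 0x201000301a00f00a,
  nat_lit 0x900e00301000d00a,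
  nat_lit 0x200a01000301b00f002]
def pM12_6_p2 : List ℕ := [nat_lit 0xf012006021011010,
  nat_lit 0xf00300401c00b010,
  nat_lit 0x1009002001009002,
  nat_lit 0x5001002007001006,
  nat_lit 0x700f00101900f008,
  nat_lit 0xf00900100401b001010,
  nat_lit 0x10008002019007010,
  nat_lit 0x1024007007,
  nat_lit 0x1001200302101100f,
  nat_lit 0xf00101700f00f,
  nat_lit 0x200400e00600d00d004,
  nat_lit 0xf00100401a009010,
  nat_lit 0x7012003020011008,
  nat_lit 0xf00b00500300100401d003010,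
  nat_lit 0x1024003003,
  nat_lit 0x400e00300c00d002,
  nat_lit 0x9007001003009001008,
  nat_lit 0x900b00201400b00a,
  nat_lit 0xe00c00201100b00e,
  nat_lit 0x102400b00b,
  nat_lit 0x900500100300500a,
  nat_lit 0xb00100101200100c,
  nat_lit 0x900700100400700a,
  nat_lit 0xb00900500100501300500c,
  nat_lit 0x1024005005,
  nat_lit 0x900300100200300a,
  nat_lit 0x401000301c00f00c,
  nat_lit 0xa00e00301000d00a,
  nat_lit 0x1009002001009002,
  nat_lit 0x1009007005009007002,
  nat_lit 0x601200301f011006,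
  nat_lit 0x1003001005003002,
  nat_lit 0xd01200800a00e00a005023011008,
  nat_lit 0x201000301a00f00a,
  nat_lit 0x800e00300e00d006,
  nat_lit 0x100b00201200b002,
  nat_lit 0x5009002003009006,
  nat_lit 0x5007001006007006,
  nat_lit 0x5001002007001006,
  nat_lit 0x900b00201400b00a,
  nat_lit 0x500300900700a003006,
  nat_lit 0x601000301800f006,
  nat_lit 0x101e011011,
  nat_lit 0xd00100b00d00d]
noncomputable def pM12_6 : CE where
  p0 := 0
  F := (Nat.sub (Nat.shiftLeft 1 495) 1)
  masks := [pM12_6_m0, pM12_6_m1, pM12_6_m2, pM12_6_m3, pM12_6_m4, pM12_6_m5, pM12_6_m6, pM12_6_m7, pM12_6_m8, pM12_6_m9, pM12_6_m10, pM12_6_m11]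
  gprog := [7, 9, 10, 11, 0, 1, 2, 3, 4, 5, 6, 7, 9, 10, 11, 0, 1, 2, 3, 4, 5, 6, 7, 9, 10, 11, 0, 1, 2, 3, 4, 5, 6, 7, 9, 10, 11, 6, 9]
  cprog := []
  sids := [0, 1, 2, 3, 4, 5, 6]
  t0 := pM12_6_t
  s := 12
  progs := [pM12_6_p0, pM12_6_p1, pM12_6_p2]
  O := (Nat.sub (Nat.shiftLeft 1 495) 1)
  yids := [0, 1, 2, 3, 4, 5, 6, 7, 8]
theorem pM12_6_chk : ∃ progs, CE.check { pM12_6 with progs := progs } pM12_6_nets (imOf [0, 1, 2, 3, 4, 5]) pM12_6_rels [[0], [2], [4], [6], [8], [10], [12]] [[0], [2], [4], [6], [8], [10], [12], [14], [16]] = true :=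
  ⟨pM12_6.progs, by decide +kernel⟩
theorem pM12_6_idx {Γ : Type*} [Group Γ] {g : ℕ → Γ} (hi : InvOk g (imOf [0, 1, 2, 3, 4, 5])) (hr : ∀ r ∈ pM12_6_rels, ev g r = 1)
    {H : Subgroup Γ} (hs : ∀ u ∈ ([[0], [2], [4], [6], [8], [10], [12]] : List (List ℕ)), ev g u ∈ H) :
    H.relIndex (gen g [[0], [2], [4], [6], [8], [10], [12], [14], [16]]) ≠ 0 ∧ H.relIndex (gen g [[0], [2], [4], [6], [8], [10], [12], [14], [16]]) ≤ 495 :=
  Reach.relIndex_le pM12_6_model hi hr hs pM12_6_chk (by decide +kernel)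

theorem pM12_pres : CfsgLib.W2.Pres [0, 1, 2, 3, 4, 5] pM12_rels [[0], [2], [4], [6], [8], [10], [12], [14], [16]] 95040 := fun {_} _ {g} hi hr =>
  (Bound.of_idx (n := 495) (m := 192) (Bound.of_idx (n := 3) (m := 64) (Bound.of_idx (n := 2) (m := 32) (Bound.of_idx (n := 4) (m := 8) (Bound.of_idx (n := 4) (m := 2) (Bound.of_idx (n := 2) (m := 1) (bound_nil g)
    (pM12_1_idx hi (conseq_sound hi hr (hs := []) (by decide +kernel))))
    (pM12_2_idx hi (conseq_sound hi hr (hs := [1, 1025, 4097]) (by decide +kernel))))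
    (pM12_3_idx hi (conseq_sound hi hr (hs := [1, 1025, 2049, 3073, 4097, 5121, 6145, 7169, 8193, 9217]) (by decide +kernel))))
    (pM12_4_idx hi (conseq_sound hi hr (hs := [1, 1025, 2049, 3073, 4097, 5121, 6145, 7169, 8193, 9217, 17409, 18433, 19457, 20481, 21505]) (by decide +kernel))))
    (pM12_5_idx hi (conseq_sound hi hr (hs := [1, 1025, 2049, 3073, 4097, 5121, 6145, 7169, 8193, 9217, 10241, 11265, 12289, 13313, 14337, 15361, 16385, 17409, 18433, 19457, 20481, 21505]) (by decide +kernel))))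
    (pM12_6_idx hi (conseq_sound hi hr (hs := [1, 1025, 2049, 3073, 4097, 5121, 6145, 7169, 8193, 9217, 10241, 11265, 12289, 13313, 14337, 15361, 16385, 17409, 18433, 19457, 20481, 21505, 22529, 23553, 24577, 25601, 26625, 27649, 28673, 29697, 30721, 31745, 32769, 33793, 34817]) (by decide +kernel))))


end CfsgLib.W2
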