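import Mathlib
import Cfsg.Agent.Lib.CosetEnum.Split

/-! Certified coset enumeration for a presentation of PSp4(3). -/

set_option maxRecDepth 100000
set_option Elab.async false

namespace CfsgLib.W2.P43

open CfsgLib.CosetEnum

def rels : List (List ℕ) := [[0, 0, 0, 0],
  [0, 0, 3, 3],
  [2, 0, 3, 0],
  [4, 4, 4],
  [4, 0, 5, 3],
  [4, 2, 5, 3, 1],
  [0, 6, 0, 6, 1, 6, 1, 6],
  [0, 6, 2, 6, 1, 6, 3, 6],
  [2, 6, 2, 6, 3, 6, 3, 6],
  [4, 6, 4, 6, 5, 6, 5, 6],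
  [4, 6, 0, 6, 5, 6, 1, 6],
  [6, 0, 0, 6, 1, 1],
  [8, 0, 0, 8, 6],
  [8, 0, 6, 0, 6, 8, 6, 1, 6, 1],
  [8, 2, 6, 2, 6, 8, 6, 3, 6, 3, 6, 1, 6, 1],
  [8, 4, 6, 4, 6, 8, 4, 6, 4, 6],
  [8, 0, 2, 6, 2, 6, 8, 0, 2, 6, 2, 6, 8, 0, 2, 6, 2, 6],
  [4, 6, 5, 6, 8, 4, 6, 5, 6, 8, 6, 4, 6, 5, 8, 6, 4, 6, 5, 8]]

def M0_nets_n0_0 : ℕ := (nat_lit 0xa0a00088a0a)
def M0_nets_n0_1 : ℕ := (nat_lit 0x1e1e0a0)
def M0_nets_n0_2 : ℕ := (nat_lit 0x1fe0000000)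
def M0_nets_n0_3 : ℕ := (nat_lit 0xa140000000)
def M0_nets_n0_4 : ℕ := (nat_lit 0x24600644440)
def M0_nets_n0_5 : ℕ := (nat_lit 0xa0a8882a00)
def M0_nets_n1_0 : ℕ := (nat_lit 0x88a008000)
def M0_nets_n1_1 : ℕ := (nat_lit 0x400006)
def M0_nets_n1_2 : ℕ := (nat_lit 0x18001e001e0)
def M0_nets_n1_3 : ℕ := (nat_lit 0x1fffe000)
def M0_nets_n1_4 : ℕ := (nat_lit 0x1e0012c000)
def M0_nets_n1_5 : ℕ := (nat_lit 0x1418120c000)
def M0_nets_n1_6 : ℕ := (nat_lit 0x44442624240)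
def M0_nets_n1_7 : ℕ := (nat_lit 0x88aa02aa0)
def M0_nets_n2_0 : ℕ := (nat_lit 0x2808a00aa0)
def M0_nets_n2_1 : ℕ := (nat_lit 0x8890908040)
def M0_nets_n2_2 : ℕ := (nat_lit 0x282010004)
def M0_nets_n2_3 : ℕ := (nat_lit 0x20040001c)
def M0_nets_n2_4 : ℕ := (nat_lit 0x1fa8000)
def M0_nets_n2_5 : ℕ := (nat_lit 0x8804b0000)
def M0_nets_n2_6 : ℕ := (nat_lit 0x48080000a)
def M0_nets_n2_7 : ℕ := (nat_lit 0x8019180240)
def M0_nets_n2_8 : ℕ := (nat_lit 0x8202a00288)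
def M0_nets_n3_0 : ℕ := (nat_lit 0xaaaaa0a0aa0)
def M0_nets_n4_0 : ℕ := (nat_lit 0x88884080209)
def M0_nets_n4_1 : ℕ := (nat_lit 0x200000)
def M0_nets_n4_2 : ℕ := (nat_lit 0x1e060)
def M0_nets_n4_3 : ℕ := (nat_lit 0x1fe0001e00)
def M0_nets_n4_4 : ℕ := (nat_lit 0x1e0)
def M0_nets_n4_5 : ℕ := (nat_lit 0x1e1e001e060)
def M0_nets_n4_6 : ℕ := (nat_lit 0x44240240000)
def M0_nets_n4_7 : ℕ := (nat_lit 0x82280080200)
def M0_nets_n0 : Net :=
  (Net.cons M0_nets_n0_0 (nat_lit 1) (Net.cons M0_nets_n0_1 (nat_lit 4) (Net.cons M0_nets_n0_2 (nat_lit 8) (Net.cons M0_nets_n0_3 (nat_lit 4) (Net.cons M0_nets_n0_4 (nat_lit 2) (Net.cons M0_nets_n0_5 (nat_lit 1) Net.nil))))))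
def M0_nets_n1 : Net :=
  (Net.cons M0_nets_n1_0 (nat_lit 1) (Net.cons M0_nets_n1_1 (nat_lit 2) (Net.cons M0_nets_n1_2 (nat_lit 4) (Net.cons M0_nets_n1_3 (nat_lit 16) (Net.cons M0_nets_n1_4 (nat_lit 8) (Net.cons M0_nets_n1_5 (nat_lit 4) (Net.cons M0_nets_n1_6 (nat_lit 2) (Net.cons M0_nets_n1_7 (nat_lit 1) Net.nil))))))))
def M0_nets_n2 : Net :=
  (Net.cons M0_nets_n2_0 (nat_lit 1) (Net.cons M0_nets_n2_1 (nat_lit 2) (Net.cons M0_nets_n2_2 (nat_lit 4) (Net.cons M0_nets_n2_3 (nat_lit 8) (Net.cons M0_nets_n2_4 (nat_lit 16) (Net.cons M0_nets_n2_5 (nat_lit 8) (Net.cons M0_nets_n2_6 (nat_lit 4) (Net.cons M0_nets_n2_7 (nat_lit 2) (Net.cons M0_nets_n2_8 (nat_lit 1) Net.nil)))))))))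
def M0_nets_n3 : Net :=
  (Net.cons M0_nets_n3_0 (nat_lit 1) Net.nil)
def M0_nets_n4 : Net :=
  (Net.cons M0_nets_n4_0 (nat_lit 1) (Net.cons M0_nets_n4_1 (nat_lit 2) (Net.cons M0_nets_n4_2 (nat_lit 4) (Net.cons M0_nets_n4_3 (nat_lit 8) (Net.cons M0_nets_n4_4 (nat_lit 16) (Net.cons M0_nets_n4_5 (nat_lit 4) (Net.cons M0_nets_n4_6 (nat_lit 2) (Net.cons M0_nets_n4_7 (nat_lit 1) Net.nil))))))))
def M0_nets : List Net := [M0_nets_n0, M0_nets_n1, M0_nets_n2, M0_nets_n3, M0_nets_n4]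
def M0_rels : List (List ℕ) := [[0, 0, 0, 0],
  [0, 0, 3, 3],
  [2, 0, 3, 0],
  [4, 4, 4],
  [4, 0, 5, 3],
  [4, 2, 5, 3, 1],
  [0, 6, 0, 6, 1, 6, 1, 6],
  [0, 6, 2, 6, 1, 6, 3, 6],
  [2, 6, 2, 6, 3, 6, 3, 6],
  [4, 6, 4, 6, 5, 6, 5, 6],
  [4, 6, 0, 6, 5, 6, 1, 6],
  [6, 0, 0, 6, 1, 1],
  [8, 0, 0, 8, 6],
  [8, 0, 6, 0, 6, 8, 6, 1, 6, 1],
  [8, 2, 6, 2, 6, 8, 6, 3, 6, 3, 6, 1, 6, 1],
  [8, 4, 6, 4, 6, 8, 4, 6, 4, 6],
  [8, 0, 2, 6, 2, 6, 8, 0, 2, 6, 2, 6, 8, 0, 2, 6, 2, 6],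
  [4, 6, 5, 6, 8, 4, 6, 5, 6, 8, 6, 4, 6, 5, 8, 6, 4, 6, 5, 8]]
theorem M0_nets_ok : allL (Net.ok 45) M0_nets = true := by decide +kernel
theorem M0_rel_s0 : relsAt M0_nets 45 6 (List.range' 0 6) (sqW [3, 4] ++ M0_rels) = true := by decide +kernel
theorem M0_rel : ∀ w ∈ (sqW [3, 4] ++ M0_rels), ev (netGen M0_nets) w = 1 :=
  SlicesOk.rel (K := 6) ((SlicesOk.zero _ _ _ _).step 6 M0_rel_s0)
    M0_nets_ok (by norm_num)
theorem M0_model : Model 45 M0_nets (imOf [3, 4]) M0_rels := Model.of_rel M0_nets_ok M0_rel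
def M0_t : Tr := (Tr.node (Tr.node (Tr.node (Tr.node Tr.leaf [5] 0 0 0 Tr.leaf) [6] 0 0 0 (Tr.node Tr.leaf [] 1 0 0 Tr.leaf)) [2] 0 0 0 (Tr.node (Tr.node Tr.leaf [5] 0 1 0 Tr.leaf) [1] 0 0 0 Tr.leaf)) [0] 0 0 0 (Tr.node (Tr.node (Tr.node Tr.leaf [4] 0 1 0 Tr.leaf) [8] 0 0 0 Tr.leaf) [4] 0 0 0 (Tr.node (Tr.node Tr.leaf [6] 1 1 0 Tr.leaf) [3] 0 0 0 Tr.leaf)))
def M0_m0 : ℕ := (nat_lit 0x18180000)
def M0_m1 : ℕ := (nat_lit 0x81980000000)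
def M0_m2 : ℕ := (nat_lit 0x14000000a40)
def M0_m3 : ℕ := (nat_lit 0)
def M0_m4 : ℕ := (nat_lit 0x40001e1e002)
def M0_m5 : ℕ := (nat_lit 0x6060104)
def M0_m6 : ℕ := (nat_lit 0x120660001018)
def M0_m7 : ℕ := (nat_lit 0xa0000004a0)
def M0_p0 : List ℕ := [nat_lit 0x101300100b,
  nat_lit 0x101300300d,
  nat_lit 0x101300500f,
  nat_lit 0x1013009009,
  nat_lit 0x3001005003001004,
  nat_lit 0x5001004005005,
  nat_lit 0x5004005005001006,
  nat_lit 0x100900700700d00100a,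
  nat_lit 0x2002008002003003,
  nat_lit 0x3002006002003002,
  nat_lit 0x3001005003001004,
  nat_lit 0x4004003002001001,
  nat_lit 0x6002008005003005,
  nat_lit 0x3006006005005002,
  nat_lit 0x4001001003001003,
  nat_lit 0x900100100100d00700a,
  nat_lit 0x3001006006006005004,
  nat_lit 0x5002004005006003006,
  nat_lit 0x1006004008006003005,
  nat_lit 0x5004005005001006,
  nat_lit 0x1004003003003001,
  nat_lit 0x900100100100d00700a,
  nat_lit 0x5001004005005,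
  nat_lit 0x200800a00800100800100a00600e007002,
  nat_lit 0x600800a00600800600800a006010007006,
  nat_lit 0x1013007007,
  nat_lit 0x400700900700300700300700100700100900600f007004,
  nat_lit 0x100900700700d00100a,
  nat_lit 0x200a00800400d00200a,
  nat_lit 0x1008003008002008008008007004,
  nat_lit 0x100800500800200800900b007006,
  nat_lit 0x1013007007,
  nat_lit 0x200700500700100700400b007006,
  nat_lit 0x1013007007,
  nat_lit 0x4008001008003008004008007002,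
  nat_lit 0x1013007007,
  nat_lit 0x100900700700d00100a,
  nat_lit 0x200a00800400d00200a,
  nat_lit 0x2004006003003002,
  nat_lit 0x1004003003003001,
  nat_lit 0x3002006002003002,
  nat_lit 0x2002008002003003,
  nat_lit 0x200800a00800100800100a00600e007002,
  nat_lit 0x400800a00800300800300a00200800200801300f007004,
  nat_lit 0x600800a00600800600800a006010007006,
  nat_lit 0x1013007007,
  nat_lit 0x1008003008002008008008007004,
  nat_lit 0x200400800400800a00200400800400800a002004008004002011009008,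
  nat_lit 0x1013009009,
  nat_lit 0x11007009006007005007009007006007005009007006007005009004012015012,
  nat_lit 0x800a00200800d009002,
  nat_lit 0x1013009009,
  nat_lit 0x200200a00200d009008,
  nat_lit 0x800a00600800600800a012008010013016,
  nat_lit 0x600800600800a006008006002010009008,
  nat_lit 0x1013009009,
  nat_lit 0x14011001004018014,
  nat_lit 0x12001013005018,
  nat_lit 0x3006006005005002,
  nat_lit 0x4006003005005001,
  nat_lit 0x3001006006006005004,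
  nat_lit 0x2004006003006005003,
  nat_lit 0x700100700600700200a00b005008,
  nat_lit 0x800200800600800100300b005008,
  nat_lit 0x6002008005003005,
  nat_lit 0x700600700200700500e00b001008,
  nat_lit 0x5001004005005,
  nat_lit 0x600400500a006001003,
  nat_lit 0x800600800600800500300a005008,
  nat_lit 0x3006006005005002,
  nat_lit 0x2004006003003002,
  nat_lit 0x800200800600800100300b005008,
  nat_lit 0x2004006003006005003,
  nat_lit 0x600800600800a006008006002010009008,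
  nat_lit 0x1013009009,
  nat_lit 0x3001006006006005004,
  nat_lit 0x800a00200800d009002,
  nat_lit 0x1013009009,
  nat_lit 0x100900700700d00100a,
  nat_lit 0x200a00800400d00200a,
  nat_lit 0x2004006003003002,
  nat_lit 0x900100100100d00700a,
  nat_lit 0x3006006005005002]
noncomputable def M0 : CE where
  p0 := 0
  F := (Nat.sub (Nat.shiftLeft 1 45) 1)
  masks := [M0_m0, M0_m1, M0_m2, M0_m3, M0_m4, M0_m5, M0_m6, M0_m7]
  gprog := [4, 5, 6, 7, 2, 4, 5, 6, 7, 0, 1, 2, 4, 2]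
  cprog := [8]
  sids := [0, 1, 2, 3]
  t0 := M0_t
  s := 12
  progs := [M0_p0]
  O := (Nat.sub (Nat.shiftLeft 1 45) 1)
  yids := [0, 1, 2, 3, 4]
theorem M0_chk : ∃ progs, CE.check { M0 with progs := progs } M0_nets (imOf [3, 4]) M0_rels [[0], [2], [4], [6]] [[0], [2], [4], [6], [8]] = true :=
  ⟨M0.progs, by decide +kernel⟩
theorem M0_idx {Γ : Type*} [Group Γ] {g : ℕ → Γ} (hi : InvOk g (imOf [3, 4])) (hr : ∀ r ∈ M0_rels, ev g r = 1)
    {H : Subgroup Γ} (hs : ∀ u ∈ ([[0], [2], [4], [6]] : List (List ℕ)), ev g u ∈ H) :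
    H.relIndex (gen g [[0], [2], [4], [6], [8]]) ≠ 0 ∧ H.relIndex (gen g [[0], [2], [4], [6], [8]]) ≤ 45 :=
  Reach.relIndex_le M0_model hi hr hs M0_chk (by decide +kernel)

theorem idx {Γ : Type*} [Group Γ] {g : ℕ → Γ} (hi : InvOk g (imOf [3, 4])) (hr : ∀ r ∈ rels, ev g r = 1)
    {H : Subgroup Γ} (hs : ∀ u ∈ ([[0], [2], [4], [6]] : List (List ℕ)), ev g u ∈ H) :
    H.relIndex (gen g [[0], [2], [4], [6], [8]]) ≠ 0 ∧ H.relIndex (gen g [[0], [2], [4], [6], [8]]) ≤ 45 :=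
  M0_idx hi (conseq_sound hi hr (hs := [1, 1025, 2049, 3073, 4097, 5121, 6145, 7169, 8193, 9217, 10241, 11265, 12289, 13313, 14337, 15361, 16385, 17409]) (by decide +kernel)) hs

end CfsgLib.W2.P43
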