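import Mathlib
import Cfsg.Agent.Lib.W2.HSBig

/-! Certified coset enumerations for a presentation of the Higman-Sims group (generated by tools/cosetenum/hs.cpp). -/

set_option maxRecDepth 100000
set_option Elab.async false

namespace CfsgLib.W2.HS

open CfsgLib.CosetEnum

def rels : List (List ℕ) := [[0, 0, 0, 0],
  [2, 2, 2, 2],
  [4, 4, 18],
  [0, 2, 1, 3],
  [0, 4, 1, 5],
  [2, 4, 3, 5],
  [0, 18, 1, 18],
  [2, 18, 3, 18],
  [6, 0, 6, 1],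
  [8, 0, 8, 1],
  [10, 0, 11, 1],
  [12, 0, 12, 0],
  [6, 2, 6, 2],
  [8, 4, 8, 4],
  [8, 18, 8, 18],
  [8, 2, 8, 18, 3, 3, 0, 3],
  [6, 4, 6, 3, 3, 1, 4],
  [6, 18, 6, 1, 1, 18],
  [10, 2, 11, 5],
  [10, 4, 11, 1, 1, 4, 2],
  [12, 2, 12, 3],
  [12, 4, 12, 1, 1, 4, 2],
  [12, 18, 12, 18, 3, 3],
  [14, 0, 15, 3],
  [14, 2, 15, 18, 3, 3, 0, 3],
  [14, 4, 15, 5],
  [14, 18, 15, 18],
  [6, 8, 6, 8],
  [10, 10, 10],
  [10, 6, 11, 8],
  [10, 8, 11, 8, 6],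
  [12, 10, 12, 10],
  [12, 6, 12, 6],
  [12, 8, 12, 8, 6],
  [14, 14, 14],
  [14, 6, 15, 12],
  [14, 12, 15, 12, 6],
  [8, 14, 8, 14],
  [16, 10, 16, 11],
  [16, 12, 16, 12],
  [16, 0, 16, 0],
  [16, 2, 2, 16, 6],
  [16, 18, 16, 8],
  [12, 2, 6, 16, 12, 2, 6, 16, 12, 2, 6, 16],
  [10, 14, 6, 10, 14, 6, 10, 14, 6, 10, 14, 6, 10, 14, 6, 10, 14, 6, 10, 14, 6],
  [12, 10, 8, 14, 12, 10, 8, 14, 12, 10, 8, 14, 12, 10, 8, 14, 12, 10, 8, 14, 12, 10, 8, 14, 12, 10, 8, 14, 12, 10, 8, 14],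
  [16, 2, 14, 16, 2, 14, 16, 2, 14, 16, 2, 14, 16, 2, 14],
  [16, 8, 14, 16, 8, 14, 16, 8, 14, 16, 8, 14, 16, 8, 14, 16, 8, 14, 16, 8, 14, 16, 8, 14]]

def M0_nets_n0_0 : ℕ := (nat_lit 0x144114504001000545111544514414414105500440)
def M0_nets_n0_1 : ℕ := (nat_lit 0x11312321211321201030230010223322010122213210)
def M0_nets_n0_2 : ℕ := (nat_lit 0x6090a090807080605050404040e09060403000b00)
def M0_nets_n0_3 : ℕ := (nat_lit 0xfe00b600e800ef0034001100eb004a003a00120000)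
def M0_nets_n0_4 : ℕ := (nat_lit 0x43ed00008be4000004aa000007d500002b21)
def M0_nets_n0_5 : ℕ := (nat_lit 0x328a000000000833ee400000000002020000)
def M0_nets_n0_6 : ℕ := (nat_lit 0x8b1a100c1009a0c9)
def M0_nets_n0_7 : ℕ := (nat_lit 0x355d523beafb)
def M0_nets_n0_8 : ℕ := (nat_lit 0xd094b065ae1a)
def M0_nets_n0_9 : ℕ := (nat_lit 0xe93c00000000220ae2d100000000c7d086f5)
def M0_nets_n0_10 : ℕ := (nat_lit 0x60f6000002f80000b3ba000020e50000ed3f)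
def M0_nets_n0_11 : ℕ := (nat_lit 0x10008d005e00690022009900e5006f0098009400c6)
def M0_nets_n0_12 : ℕ := (nat_lit 0xb04020c010d09000e050401070504050e0607050307)
def M0_nets_n0_13 : ℕ := (nat_lit 0x10223222000100230232310212321021032022131203)
def M0_nets_n0_14 : ℕ := (nat_lit 0x54500114504415111544151454404540544144140450)
def M0_nets_n1_0 : ℕ := (nat_lit 0x55545501145015410445144144544155504100404050)
def M0_nets_n1_1 : ℕ := (nat_lit 0x13110130002322312022222002120213221010200010)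
def M0_nets_n1_2 : ℕ := (nat_lit 0x405080f0707000f060e040d030d0700040e0d000a00)
def M0_nets_n1_3 : ℕ := (nat_lit 0xb70029001e00a900e600b800400024003e00020000)
def M0_nets_n1_4 : ℕ := (nat_lit 0xa79000091ca0000f90a000003f000002124)
def M0_nets_n1_5 : ℕ := (nat_lit 0x31480000000089acaa200000000051800000)
def M0_nets_n1_6 : ℕ := (nat_lit 0x64d092460a6b341)
def M0_nets_n1_7 : ℕ := (nat_lit 0xa93cf5e6bf47)
def M0_nets_n1_8 : ℕ := (nat_lit 0xd9129946fc91)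
def M0_nets_n1_9 : ℕ := (nat_lit 0xa9fe00000000996cccea00000000c6c01614)
def M0_nets_n1_10 : ℕ := (nat_lit 0xa7d8000042e000007dc10000239e0000ed14)
def M0_nets_n1_11 : ℕ := (nat_lit 0xb70021004a00d70080009c00930036005f0040002a)
def M0_nets_n1_12 : ℕ := (nat_lit 0x2050601070f080b090e0800000707090a0b05010701)
def M0_nets_n1_13 : ℕ := (nat_lit 0x1311120203022031320133213302210021212210320)
def M0_nets_n1_14 : ℕ := (nat_lit 0x45555144404514404441551144110554504540005041)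
def M0_nets_n2_0 : ℕ := (nat_lit 0x1010450555411441550045144145444144540440440)
def M0_nets_n2_1 : ℕ := (nat_lit 0x11312231121032113022123321213013221301202200)
def M0_nets_n2_2 : ℕ := (nat_lit 0x3080502050b0501020008080500030d080e030c0500)
def M0_nets_n2_3 : ℕ := (nat_lit 0xeb003c006c000900460034002e0000004100220000)
def M0_nets_n2_4 : ℕ := (nat_lit 0x2455000086c400009fcc00000b060000064a)
def M0_nets_n2_5 : ℕ := (nat_lit 0x27a000000000e100c8e1000000000ca80000)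
def M0_nets_n2_6 : ℕ := (nat_lit 0x11011820964c341)
def M0_nets_n2_7 : ℕ := (nat_lit 0xfbbb8fecc7c3)
def M0_nets_n2_8 : ℕ := (nat_lit 0x9d6de601c2c1)
def M0_nets_n2_9 : ℕ := (nat_lit 0x5f7000000000f2dac9a4000000009868255b)
def M0_nets_n2_10 : ℕ := (nat_lit 0x3e810000d2470000c72e000039270000368f)
def M0_nets_n2_11 : ℕ := (nat_lit 0xf6002d00f800110010001f0038006400b900eb0012)
def M0_nets_n2_12 : ℕ := (nat_lit 0x30605000607000103000409050d05000e020a0c0401)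
def M0_nets_n2_13 : ℕ := (nat_lit 0x11013000123000100102332132202023200020313211)
def M0_nets_n2_14 : ℕ := (nat_lit 0x440500415004001514044501040001450444104051)
def M0_nets_n3_0 : ℕ := (nat_lit 0x1505411015554110401001145105055040500114100)
def M0_nets_n3_1 : ℕ := (nat_lit 0x21133202321320111232300132000101111202002200)
def M0_nets_n3_2 : ℕ := (nat_lit 0x10603000f0c0803080c0202030a0a08020802080100)
def M0_nets_n3_3 : ℕ := (nat_lit 0xe0006d003600450012003200030068004800190000)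
def M0_nets_n3_4 : ℕ := (nat_lit 0x33080000d100000031210000851400007260)
def M0_nets_n3_5 : ℕ := (nat_lit 0x7c30000000046e210540000000050000000)
def M0_nets_n3_6 : ℕ := (nat_lit 0xf89d500ec96243d0)
def M0_nets_n3_7 : ℕ := (nat_lit 0xf49ed9ee73f9)
def M0_nets_n3_8 : ℕ := (nat_lit 0x45f24e73f758)
def M0_nets_n3_9 : ℕ := (nat_lit 0xb13900000000d7348271000000001da03f68)
def M0_nets_n3_10 : ℕ := (nat_lit 0x73c30000558c0000b276000040e400002781)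
def M0_nets_n3_11 : ℕ := (nat_lit 0x7700af002c004900d100d100e500b400ac005000f1)
def M0_nets_n3_12 : ℕ := (nat_lit 0x4070b000e00040208070102020603080a080b010401)
def M0_nets_n3_13 : ℕ := (nat_lit 0x11133222111120312212100132010301121202201200)
def M0_nets_n3_14 : ℕ := (nat_lit 0x1505411015550110401005145105055000500110110)
def M0_nets_n4_0 : ℕ := (nat_lit 0x14040504540011405541040055444440110445414104)
def M0_nets_n4_1 : ℕ := (nat_lit 0x3120113222321001101221000012012000320001020)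
def M0_nets_n4_2 : ℕ := (nat_lit 0x3040c02000d05010b0403000c0901010b000c080000)
def M0_nets_n4_3 : ℕ := (nat_lit 0x60007500e1004300120010000800b200ea00340000)
def M0_nets_n4_4 : ℕ := (nat_lit 0x47e70000e806000085a20000122000001002)
def M0_nets_n4_5 : ℕ := (nat_lit 0x26200000000c62140590000000007c00000)
def M0_nets_n4_6 : ℕ := (nat_lit 0x4ef08000f04804e1)
def M0_nets_n4_7 : ℕ := (nat_lit 0x134af7ecc5e3)
def M0_nets_n4_8 : ℕ := (nat_lit 0x42c25859979c)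
def M0_nets_n4_9 : ℕ := (nat_lit 0x400000000fe34da32000000001df2ace2)
def M0_nets_n4_10 : ℕ := (nat_lit 0xc7e700005d150000d7830000588200009012)
def M0_nets_n4_11 : ℕ := (nat_lit 0x62007400f900c30012003300bb00b0006800b4000b)
def M0_nets_n4_12 : ℕ := (nat_lit 0x1040e01020d0605090d0903050e010d09090e0b0004)
def M0_nets_n4_13 : ℕ := (nat_lit 0x13320113022321021133021122030212120120001202)
def M0_nets_n4_14 : ℕ := (nat_lit 0x15040504540011405541040055444440110445414104)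
def M0_nets_n5_0 : ℕ := (nat_lit 0x44414404104051410140054055110504110415114040)
def M0_nets_n5_1 : ℕ := (nat_lit 0x233110330101201201312311211330102323000300)
def M0_nets_n5_2 : ℕ := (nat_lit 0x8070f0f090d0d070902070b0a0d0c040b0d060c0000)
def M0_nets_n5_3 : ℕ := (nat_lit 0x1200e2006f001400f90006007a0036002000600000)
def M0_nets_n5_4 : ℕ := (nat_lit 0xb3690000901500000cea00008ce50000e160)
def M0_nets_n5_5 : ℕ := (nat_lit 0xe40400000000a32140880000000070610000)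
def M0_nets_n5_6 : ℕ := (nat_lit 0xb6f94d58902118a0)
def M0_nets_n5_7 : ℕ := (nat_lit 0xdff8f3e378af)
def M0_nets_n5_8 : ℕ := (nat_lit 0x67df91a9ae20)
def M0_nets_n5_9 : ℕ := (nat_lit 0x789100000000265dafbf000000002ada4ac4)
def M0_nets_n5_10 : ℕ := (nat_lit 0x56820000eaee0000ffe30000e0410000b6b3)
def M0_nets_n5_11 : ℕ := (nat_lit 0xd003100d600d6001f00a200bd007900040021003b)
def M0_nets_n5_12 : ℕ := (nat_lit 0x80e0a060d0f0903080c0001020408070d0e0a03080a)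
def M0_nets_n5_13 : ℕ := (nat_lit 0x313333031310001211220202121111331103230230)
def M0_nets_n5_14 : ℕ := (nat_lit 0x4154045004400541115105101050144055414401055)
def M0_nets_n6_0 : ℕ := (nat_lit 0x55000541144000140405510541110140154000101000)
def M0_nets_n6_1 : ℕ := (nat_lit 0x21331200300100121103232200100331312020300110)
def M0_nets_n6_2 : ℕ := (nat_lit 0xc0c07030e050f0a0800010709010604010b010200)
def M0_nets_n6_3 : ℕ := (nat_lit 0x7000aa00000071002200a5002d00a8005800140000)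
def M0_nets_n6_4 : ℕ := (nat_lit 0x76010000020d0000d2e000005f2b0000b0d8)
def M0_nets_n6_5 : ℕ := (nat_lit 0x72c0000000003a132aa00000000010de0000)
def M0_nets_n6_6 : ℕ := (nat_lit 0xd59482546288410)
def M0_nets_n6_7 : ℕ := (nat_lit 0xcf7556ffb4d0)
def M0_nets_n6_8 : ℕ := (nat_lit 0x1eb4314a2d64)
def M0_nets_n6_9 : ℕ := (nat_lit 0x4da000000006d3c2a31000000003f6db29f)
def M0_nets_n6_10 : ℕ := (nat_lit 0xf8d30000b0cf0000d4a400005d7c00009209)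
def M0_nets_n6_11 : ℕ := (nat_lit 0xb2001c00a700130010002d002d004800fd00e40020)
def M0_nets_n6_12 : ℕ := (nat_lit 0x40f0201070b050d0e01080c090f070101080903020a)
def M0_nets_n6_13 : ℕ := (nat_lit 0x31322000011100131100203011112310310302201121)
def M0_nets_n6_14 : ℕ := (nat_lit 0x55401541144010110455511551110540555400101011)
def M0_nets_n7_0 : ℕ := (nat_lit 0x10000554100514014500010154554110141005145400)
def M0_nets_n7_1 : ℕ := (nat_lit 0x21100012223300120232033030033231200110320000)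
def M0_nets_n7_2 : ℕ := (nat_lit 0x40b04090d010d000d080704050d0d0c050b0e080a00)
def M0_nets_n7_3 : ℕ := (nat_lit 0x97004d004000e500e1001200040058004c00e20000)
def M0_nets_n7_4 : ℕ := (nat_lit 0x481300000e9200000d05000053360000788a)
def M0_nets_n7_5 : ℕ := (nat_lit 0x8c3e000000006a6b8ce00000000021410000)
def M0_nets_n7_6 : ℕ := (nat_lit 0x9ae434b43cc10844)
def M0_nets_n7_7 : ℕ := (nat_lit 0x37b7fdc3bd6c)
def M0_nets_n7_8 : ℕ := (nat_lit 0x5e04d14eb830)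
def M0_nets_n7_9 : ℕ := (nat_lit 0x6abd00000000839a8a3000000000bd8b42bf)
def M0_nets_n7_10 : ℕ := (nat_lit 0xe91c0000a8590000653c0000b1b50000bac9)
def M0_nets_n7_11 : ℕ := (nat_lit 0x7f0091002c000f00cc009d0004003400d4001200fb)
def M0_nets_n7_12 : ℕ := (nat_lit 0xe070b07090b0d0f000f0b040409020d090a0e02090f)
def M0_nets_n7_13 : ℕ := (nat_lit 0x23320223131133120221212323120122220130230313)
def M0_nets_n7_14 : ℕ := (nat_lit 0x5511515414454444155055111454441455405114400)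
def M0_nets_n8_0 : ℕ := (nat_lit 0x41540504544155544515415514155105045155541410)
def M0_nets_n8_1 : ℕ := (nat_lit 0x32013203011033223031321031120210102010021030)
def M0_nets_n8_2 : ℕ := (nat_lit 0xe070001040c080c040d060405060804000300010200)
def M0_nets_n8_3 : ℕ := (nat_lit 0xf5000c0044002400aa004c007000ef000300810000)
def M0_nets_n8_4 : ℕ := (nat_lit 0x464b0000011a0000006f00004c22000007d0)
def M0_nets_n8_5 : ℕ := (nat_lit 0x469000000000972227cb0000000025400000)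
def M0_nets_n8_6 : ℕ := (nat_lit 0x3c4c16913232090e)
def M0_nets_n8_7 : ℕ := (nat_lit 0xb7b177735fbf)
def M0_nets_n8_8 : ℕ := (nat_lit 0xf2dba300152b)
def M0_nets_n8_9 : ℕ := (nat_lit 0xe2da00000000e191d4a000000000c1ac295e)
def M0_nets_n8_10 : ℕ := (nat_lit 0x7b410000f63a00005d750000a226000033b6)
def M0_nets_n8_11 : ℕ := (nat_lit 0xe40026004f006400410034001e0076006300e10008)
def M0_nets_n8_12 : ℕ := (nat_lit 0xf0606000a0a06080f0401050002050d08020408020f)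
def M0_nets_n8_13 : ℕ := (nat_lit 0x32233203201133023031221031120011102211021032)
def M0_nets_n8_14 : ℕ := (nat_lit 0x51140504544145504515415504155505045155541410)
def M0_nets_n9_0 : ℕ := (nat_lit 0x5410544140010110515145114450110100145040400)
def M0_nets_n9_1 : ℕ := (nat_lit 0x23330102102300301123320031013000132000031200)
def M0_nets_n9_2 : ℕ := (nat_lit 0x40d0803000d03020102010c010a09000c0007010400)
def M0_nets_n9_3 : ℕ := (nat_lit 0x2a00040025008500200060000700b1002800010000)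
def M0_nets_n9_4 : ℕ := (nat_lit 0x29160000007a0000c00000008b0700002613)
def M0_nets_n9_5 : ℕ := (nat_lit 0xa12400000000e65928910000000013120000)
def M0_nets_n9_6 : ℕ := (nat_lit 0x21d80436c928010e)
def M0_nets_n9_7 : ℕ := (nat_lit 0x9c3fdbba775e)
def M0_nets_n9_8 : ℕ := (nat_lit 0xed214f2d049c)
def M0_nets_n9_9 : ℕ := (nat_lit 0xb3600000000fab7fcad000000009b32a635)
def M0_nets_n9_10 : ℕ := (nat_lit 0xaf3a0000a0520000e22800006d430000a316)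
def M0_nets_n9_11 : ℕ := (nat_lit 0xcd00200021008a0064002c0082007f006d00660007)
def M0_nets_n9_12 : ℕ := (nat_lit 0x4070201080d0b0801030904030a03080c0005030400)
def M0_nets_n9_13 : ℕ := (nat_lit 0x3112112102320301123320033013022132000031200)
def M0_nets_n9_14 : ℕ := (nat_lit 0x1410544140010110515145114454110100155040400)
def M0_nets_n0 : Net :=
  (Net.cons M0_nets_n0_0 (nat_lit 1) (Net.cons M0_nets_n0_1 (nat_lit 2) (Net.cons M0_nets_n0_2 (nat_lit 4) (Net.cons M0_nets_n0_3 (nat_lit 8) (Net.cons M0_nets_n0_4 (nat_lit 16) (Net.cons M0_nets_n0_5 (nat_lit 32) (Net.cons M0_nets_n0_6 (nat_lit 64) (Net.cons M0_nets_n0_7 (nat_lit 128) (Net.cons M0_nets_n0_8 (nat_lit 64) (Net.cons M0_nets_n0_9 (nat_lit 32) (Net.cons M0_nets_n0_10 (nat_lit 16) (Net.cons M0_nets_n0_11 (nat_lit 8) (Net.cons M0_nets_n0_12 (nat_lit 4) (Net.cons M0_nets_n0_13 (nat_lit 2) (Net.cons M0_nets_n0_14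 (nat_lit 1) Net.nil)))))))))))))))
def M0_nets_n1 : Net :=
  (Net.cons M0_nets_n1_0 (nat_lit 1) (Net.cons M0_nets_n1_1 (nat_lit 2) (Net.cons M0_nets_n1_2 (nat_lit 4) (Net.cons M0_nets_n1_3 (nat_lit 8) (Net.cons M0_nets_n1_4 (nat_lit 16) (Net.cons M0_nets_n1_5 (nat_lit 32) (Net.cons M0_nets_n1_6 (nat_lit 64) (Net.cons M0_nets_n1_7 (nat_lit 128) (Net.cons M0_nets_n1_8 (nat_lit 64) (Net.cons M0_nets_n1_9 (nat_lit 32) (Net.cons M0_nets_n1_10 (nat_lit 16) (Net.cons M0_nets_n1_11 (nat_lit 8) (Net.cons M0_nets_n1_12 (nat_lit 4) (Net.cons M0_nets_n1_13 (nat_lit 2) (Net.cons M0_nets_n1_14 (nat_lit 1) Net.nil)))))))))))))))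
def M0_nets_n2 : Net :=
  (Net.cons M0_nets_n2_0 (nat_lit 1) (Net.cons M0_nets_n2_1 (nat_lit 2) (Net.cons M0_nets_n2_2 (nat_lit 4) (Net.cons M0_nets_n2_3 (nat_lit 8) (Net.cons M0_nets_n2_4 (nat_lit 16) (Net.cons M0_nets_n2_5 (nat_lit 32) (Net.cons M0_nets_n2_6 (nat_lit 64) (Net.cons M0_nets_n2_7 (nat_lit 128) (Net.cons M0_nets_n2_8 (nat_lit 64) (Net.cons M0_nets_n2_9 (nat_lit 32) (Net.cons M0_nets_n2_10 (nat_lit 16) (Net.cons M0_nets_n2_11 (nat_lit 8) (Net.cons M0_nets_n2_12 (nat_lit 4) (Net.cons M0_nets_n2_13 (nat_lit 2) (Net.cons M0_nets_n2_14 (nat_lit 1) Net.nil)))))))))))))))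
def M0_nets_n3 : Net :=
  (Net.cons M0_nets_n3_0 (nat_lit 1) (Net.cons M0_nets_n3_1 (nat_lit 2) (Net.cons M0_nets_n3_2 (nat_lit 4) (Net.cons M0_nets_n3_3 (nat_lit 8) (Net.cons M0_nets_n3_4 (nat_lit 16) (Net.cons M0_nets_n3_5 (nat_lit 32) (Net.cons M0_nets_n3_6 (nat_lit 64) (Net.cons M0_nets_n3_7 (nat_lit 128) (Net.cons M0_nets_n3_8 (nat_lit 64) (Net.cons M0_nets_n3_9 (nat_lit 32) (Net.cons M0_nets_n3_10 (nat_lit 16) (Net.cons M0_nets_n3_11 (nat_lit 8) (Net.cons M0_nets_n3_12 (nat_lit 4) (Net.cons M0_nets_n3_13 (nat_lit 2) (Net.cons M0_nets_n3_14 (nat_lit 1) Net.nil)))))))))))))))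
def M0_nets_n4 : Net :=
  (Net.cons M0_nets_n4_0 (nat_lit 1) (Net.cons M0_nets_n4_1 (nat_lit 2) (Net.cons M0_nets_n4_2 (nat_lit 4) (Net.cons M0_nets_n4_3 (nat_lit 8) (Net.cons M0_nets_n4_4 (nat_lit 16) (Net.cons M0_nets_n4_5 (nat_lit 32) (Net.cons M0_nets_n4_6 (nat_lit 64) (Net.cons M0_nets_n4_7 (nat_lit 128) (Net.cons M0_nets_n4_8 (nat_lit 64) (Net.cons M0_nets_n4_9 (nat_lit 32) (Net.cons M0_nets_n4_10 (nat_lit 16) (Net.cons M0_nets_n4_11 (nat_lit 8) (Net.cons M0_nets_n4_12 (nat_lit 4) (Net.cons M0_nets_n4_13 (nat_lit 2) (Net.cons M0_nets_n4_14 (nat_lit 1) Net.nil)))))))))))))))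
def M0_nets_n5 : Net :=
  (Net.cons M0_nets_n5_0 (nat_lit 1) (Net.cons M0_nets_n5_1 (nat_lit 2) (Net.cons M0_nets_n5_2 (nat_lit 4) (Net.cons M0_nets_n5_3 (nat_lit 8) (Net.cons M0_nets_n5_4 (nat_lit 16) (Net.cons M0_nets_n5_5 (nat_lit 32) (Net.cons M0_nets_n5_6 (nat_lit 64) (Net.cons M0_nets_n5_7 (nat_lit 128) (Net.cons M0_nets_n5_8 (nat_lit 64) (Net.cons M0_nets_n5_9 (nat_lit 32) (Net.cons M0_nets_n5_10 (nat_lit 16) (Net.cons M0_nets_n5_11 (nat_lit 8) (Net.cons M0_nets_n5_12 (nat_lit 4) (Net.cons M0_nets_n5_13 (nat_lit 2) (Net.cons M0_nets_n5_14 (nat_lit 1) Net.nil)))))))))))))))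
def M0_nets_n6 : Net :=
  (Net.cons M0_nets_n6_0 (nat_lit 1) (Net.cons M0_nets_n6_1 (nat_lit 2) (Net.cons M0_nets_n6_2 (nat_lit 4) (Net.cons M0_nets_n6_3 (nat_lit 8) (Net.cons M0_nets_n6_4 (nat_lit 16) (Net.cons M0_nets_n6_5 (nat_lit 32) (Net.cons M0_nets_n6_6 (nat_lit 64) (Net.cons M0_nets_n6_7 (nat_lit 128) (Net.cons M0_nets_n6_8 (nat_lit 64) (Net.cons M0_nets_n6_9 (nat_lit 32) (Net.cons M0_nets_n6_10 (nat_lit 16) (Net.cons M0_nets_n6_11 (nat_lit 8) (Net.cons M0_nets_n6_12 (nat_lit 4) (Net.cons M0_nets_n6_13 (nat_lit 2) (Net.cons M0_nets_n6_14 (nat_lit 1) Net.nil)))))))))))))))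
def M0_nets_n7 : Net :=
  (Net.cons M0_nets_n7_0 (nat_lit 1) (Net.cons M0_nets_n7_1 (nat_lit 2) (Net.cons M0_nets_n7_2 (nat_lit 4) (Net.cons M0_nets_n7_3 (nat_lit 8) (Net.cons M0_nets_n7_4 (nat_lit 16) (Net.cons M0_nets_n7_5 (nat_lit 32) (Net.cons M0_nets_n7_6 (nat_lit 64) (Net.cons M0_nets_n7_7 (nat_lit 128) (Net.cons M0_nets_n7_8 (nat_lit 64) (Net.cons M0_nets_n7_9 (nat_lit 32) (Net.cons M0_nets_n7_10 (nat_lit 16) (Net.cons M0_nets_n7_11 (nat_lit 8) (Net.cons M0_nets_n7_12 (nat_lit 4) (Net.cons M0_nets_n7_13 (nat_lit 2) (Net.cons M0_nets_n7_14 (nat_lit 1) Net.nil)))))))))))))))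
def M0_nets_n8 : Net :=
  (Net.cons M0_nets_n8_0 (nat_lit 1) (Net.cons M0_nets_n8_1 (nat_lit 2) (Net.cons M0_nets_n8_2 (nat_lit 4) (Net.cons M0_nets_n8_3 (nat_lit 8) (Net.cons M0_nets_n8_4 (nat_lit 16) (Net.cons M0_nets_n8_5 (nat_lit 32) (Net.cons M0_nets_n8_6 (nat_lit 64) (Net.cons M0_nets_n8_7 (nat_lit 128) (Net.cons M0_nets_n8_8 (nat_lit 64) (Net.cons M0_nets_n8_9 (nat_lit 32) (Net.cons M0_nets_n8_10 (nat_lit 16) (Net.cons M0_nets_n8_11 (nat_lit 8) (Net.cons M0_nets_n8_12 (nat_lit 4) (Net.cons M0_nets_n8_13 (nat_lit 2) (Net.cons M0_nets_n8_14 (nat_lit 1) Net.nil)))))))))))))))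
def M0_nets_n9 : Net :=
  (Net.cons M0_nets_n9_0 (nat_lit 1) (Net.cons M0_nets_n9_1 (nat_lit 2) (Net.cons M0_nets_n9_2 (nat_lit 4) (Net.cons M0_nets_n9_3 (nat_lit 8) (Net.cons M0_nets_n9_4 (nat_lit 16) (Net.cons M0_nets_n9_5 (nat_lit 32) (Net.cons M0_nets_n9_6 (nat_lit 64) (Net.cons M0_nets_n9_7 (nat_lit 128) (Net.cons M0_nets_n9_8 (nat_lit 64) (Net.cons M0_nets_n9_9 (nat_lit 32) (Net.cons M0_nets_n9_10 (nat_lit 16) (Net.cons M0_nets_n9_11 (nat_lit 8) (Net.cons M0_nets_n9_12 (nat_lit 4) (Net.cons M0_nets_n9_13 (nat_lit 2) (Net.cons M0_nets_n9_14 (nat_lit 1) Net.nil)))))))))))))))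
def M0_nets : List Net := [M0_nets_n0, M0_nets_n1, M0_nets_n2, M0_nets_n3, M0_nets_n4, M0_nets_n5, M0_nets_n6, M0_nets_n7, M0_nets_n8, M0_nets_n9]
theorem M0_nets_ok : allL (Net.ok 176) M0_nets = true := by decide +kernel
theorem M0_rel_s0 : relsAt M0_nets 176 8 (List.range' 0 8) (sqW [3, 4, 6, 8, 9] ++ rels) = true := by decide +kernel
theorem M0_rel : ∀ w ∈ (sqW [3, 4, 6, 8, 9] ++ rels), ev (netGen M0_nets) w = 1 :=
  SlicesOk.rel (K := 8) ((SlicesOk.zero _ _ _ _).step 8 M0_rel_s0)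
    M0_nets_ok (by norm_num)
theorem M0_model : Model 176 M0_nets (imOf [3, 4, 6, 8, 9]) rels := Model.of_rel M0_nets_ok M0_rel

def L0_nets_n3_0 : ℕ := (nat_lit 0x555555)
def L0_nets_n4_0 : ℕ := (nat_lit 0x333333)
def L0_nets_n4_1 : ℕ := (nat_lit 0x500550)
def L0_nets_n5_0 : ℕ := (nat_lit 0x44004)
def L0_nets_n5_1 : ℕ := (nat_lit 0xf)
def L0_nets_n5_2 : ℕ := (nat_lit 0xff)
def L0_nets_n5_3 : ℕ := (nat_lit 0xf0)
def L0_nets_n5_4 : ℕ := (nat_lit 0x222222)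
def L0_nets_n5_5 : ℕ := (nat_lit 0x400440)
def L0_nets_n6_0 : ℕ := (nat_lit 0xf0f0f)
def L0_nets_n3 : Net :=
  (Net.cons L0_nets_n3_0 (nat_lit 1) Net.nil)
def L0_nets_n4 : Net :=
  (Net.cons L0_nets_n4_0 (nat_lit 2) (Net.cons L0_nets_n4_1 (nat_lit 1) Net.nil))
def L0_nets_n5 : Net :=
  (Net.cons L0_nets_n5_0 (nat_lit 1) (Net.cons L0_nets_n5_1 (nat_lit 8) (Net.cons L0_nets_n5_2 (nat_lit 16) (Net.cons L0_nets_n5_3 (nat_lit 8) (Net.cons L0_nets_n5_4 (nat_lit 2) (Net.cons L0_nets_n5_5 (nat_lit 1) Net.nil))))))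
def L0_nets_n6 : Net :=
  (Net.cons L0_nets_n6_0 (nat_lit 4) Net.nil)
def L0_nets : List Net := [Net.nil, Net.nil, Net.nil, L0_nets_n3, L0_nets_n4, L0_nets_n5, L0_nets_n6, Net.nil, Net.nil, Net.nil]
def L0_rels : List (List ℕ) := [[6, 8, 6, 8],
  [10, 10, 10],
  [10, 6, 11, 8],
  [10, 8, 11, 8, 6],
  [12, 10, 12, 10],
  [12, 6, 12, 6],
  [12, 8, 12, 8, 6]]
theorem L0_nets_ok : allL (Net.ok 24) L0_nets = true := by decide +kernel
theorem L0_rel_s0 : relsAt L0_nets 24 5 (List.range' 0 5) (sqW [3, 4, 6, 8, 9] ++ L0_rels) = true := by decide +kernel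
theorem L0_rel : ∀ w ∈ (sqW [3, 4, 6, 8, 9] ++ L0_rels), ev (netGen L0_nets) w = 1 :=
  SlicesOk.rel (K := 5) ((SlicesOk.zero _ _ _ _).step 5 L0_rel_s0)
    L0_nets_ok (by norm_num)
theorem L0_model : Model 24 L0_nets (imOf [3, 4, 6, 8, 9]) L0_rels := Model.of_rel L0_nets_ok L0_rel
def L0_t : Tr := (Tr.node (Tr.node (Tr.node Tr.leaf [12] 0 0 0 Tr.leaf) [8] 0 0 0 Tr.leaf) [6] 0 0 0 (Tr.node (Tr.node Tr.leaf [11] 0 0 0 Tr.leaf) [10] 0 0 0 Tr.leaf))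
def L0_m0 : ℕ := (nat_lit 0x20002)
def L0_m1 : ℕ := (nat_lit 0x88c)
def L0_m2 : ℕ := (nat_lit 0xd0000)
def L0_m3 : ℕ := (nat_lit 0xf0f070)
def L0_m4 : ℕ := (nat_lit 0x700)
def L0_p0 : List ℕ := [nat_lit 0x1008001001,
  nat_lit 0x1008003003,
  nat_lit 0x1008005009,
  nat_lit 0x1008007007,
  nat_lit 0x7005001005005008,
  nat_lit 0x7001001006001008,
  nat_lit 0x5001002005005,
  nat_lit 0x3001002001001004,
  nat_lit 0x5003004003001006,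
  nat_lit 0x7003001004007003008,
  nat_lit 0x1008003003,
  nat_lit 0x6001001003003005,
  nat_lit 0x7001001006001008,
  nat_lit 0x4006003003005002,
  nat_lit 0x3001007006007007004,
  nat_lit 0x5003001004004003006,
  nat_lit 0x1008003003,
  nat_lit 0x700300700a007001004,
  nat_lit 0x3001006006004005004]
noncomputable def L0 : CE where
  p0 := 0
  F := (Nat.sub (Nat.shiftLeft 1 24) 1)
  masks := [L0_m0, L0_m1, L0_m2, L0_m3, L0_m4]
  gprog := [0, 1, 2, 3, 4, 0, 1, 3]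
  cprog := []
  sids := []
  t0 := L0_t
  s := 12
  progs := [L0_p0]
  O := (Nat.sub (Nat.shiftLeft 1 24) 1)
  yids := [0, 1, 2, 3]
theorem L0_chk : ∃ progs, CE.check { L0 with progs := progs } L0_nets (imOf [3, 4, 6, 8, 9]) L0_rels [] [[6], [8], [10], [12]] = true :=
  ⟨L0.progs, by decide +kernel⟩
theorem L0_idx {Γ : Type*} [Group Γ] {g : ℕ → Γ} (hi : InvOk g (imOf [3, 4, 6, 8, 9])) (hr : ∀ r ∈ L0_rels, ev g r = 1)
    {H : Subgroup Γ} (hs : ∀ u ∈ ([] : List (List ℕ)), ev g u ∈ H) :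
    H.relIndex (gen g [[6], [8], [10], [12]]) ≠ 0 ∧ H.relIndex (gen g [[6], [8], [10], [12]]) ≤ 24 :=
  Reach.relIndex_le L0_model hi hr hs L0_chk (by decide +kernel)

def L1_nets_n3_0 : ℕ := (nat_lit 0x28)
def L1_nets_n4_0 : ℕ := (nat_lit 0xa)
def L1_nets_n5_0 : ℕ := (nat_lit 0x6)
def L1_nets_n5_1 : ℕ := (nat_lit 0x6)
def L1_nets_n6_0 : ℕ := (nat_lit 0x18)
def L1_nets_n7_0 : ℕ := (nat_lit 0x9)
def L1_nets_n7_1 : ℕ := (nat_lit 0x9)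
def L1_nets_n3 : Net :=
  (Net.cons L1_nets_n3_0 (nat_lit 1) Net.nil)
def L1_nets_n4 : Net :=
  (Net.cons L1_nets_n4_0 (nat_lit 1) Net.nil)
def L1_nets_n5 : Net :=
  (Net.cons L1_nets_n5_0 (nat_lit 2) (Net.cons L1_nets_n5_1 (nat_lit 4) Net.nil))
def L1_nets_n6 : Net :=
  (Net.cons L1_nets_n6_0 (nat_lit 2) Net.nil)
def L1_nets_n7 : Net :=
  (Net.cons L1_nets_n7_0 (nat_lit 1) (Net.cons L1_nets_n7_1 (nat_lit 2) Net.nil))
def L1_nets : List Net := [Net.nil, Net.nil, Net.nil, L1_nets_n3, L1_nets_n4, L1_nets_n5, L1_nets_n6, L1_nets_n7, Net.nil, Net.nil]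
def L1_rels : List (List ℕ) := [[6, 8, 6, 8],
  [10, 10, 10],
  [10, 6, 11, 8],
  [10, 8, 11, 8, 6],
  [12, 10, 12, 10],
  [12, 6, 12, 6],
  [12, 8, 12, 8, 6],
  [14, 14, 14],
  [14, 6, 15, 12],
  [14, 12, 15, 12, 6],
  [8, 14, 8, 14],
  [10, 14, 6, 10, 14, 6, 10, 14, 6, 10, 14, 6, 10, 14, 6, 10, 14, 6, 10, 14, 6],
  [12, 10, 8, 14, 12, 10, 8, 14, 12, 10, 8, 14, 12, 10, 8, 14, 12, 10, 8, 14, 12, 10, 8, 14, 12, 10, 8, 14, 12, 10, 8, 14]]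
theorem L1_nets_ok : allL (Net.ok 7) L1_nets = true := by decide +kernel
theorem L1_rel_s0 : relsAt L1_nets 7 3 (List.range' 0 3) (sqW [3, 4, 6, 8, 9] ++ L1_rels) = true := by decide +kernel
theorem L1_rel : ∀ w ∈ (sqW [3, 4, 6, 8, 9] ++ L1_rels), ev (netGen L1_nets) w = 1 :=
  SlicesOk.rel (K := 3) ((SlicesOk.zero _ _ _ _).step 3 L1_rel_s0)
    L1_nets_ok (by norm_num)
theorem L1_model : Model 7 L1_nets (imOf [3, 4, 6, 8, 9]) L1_rels := Model.of_rel L1_nets_ok L1_rel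
def L1_t : Tr := (Tr.node (Tr.node (Tr.node (Tr.node (Tr.node (Tr.node (Tr.node (Tr.node Tr.leaf [] 30 3 0 Tr.leaf) [8] 9 10 0 (Tr.node Tr.leaf [10] 53 59 0 Tr.leaf)) [14] 25 39 0 (Tr.node (Tr.node Tr.leaf [6] 51 49 0 Tr.leaf) [10] 12 23 0 Tr.leaf)) [6] 7 9 0 (Tr.node (Tr.node (Tr.node Tr.leaf [14] 29 25 0 Tr.leaf) [15] 18 35 0 (Tr.node Tr.leaf [] 4 6 0 Tr.leaf)) [8] 28 16 0 (Tr.node (Tr.node Tr.leaf [8] 56 32 0 Tr.leaf) [15] 19 42 0 Tr.leaf))) [15] 0 2 0 (Tr.node (Tr.node (Tr.node (Tr.node Tr.leaf [15] 8 7 0 Tr.leaf) [11] 9 28 0 (Tr.node Tr.leaf [] 45 12 0 Tr.leaf)) [15] 14 13 0 (Tr.node (Tr.node Tr.leaf [12] 35 42 0 Tr.leaf) [8] 30 21 0 Tr.leaf)) [6] 8 14 0 (Tr.node (Tr.node (Tr.node Tr.leaf [6] 42 46 0 Tr.leaf) [] 14 1 0 Tr.leaf) [] 1 2 0 (Tr.node (Tr.node Tr.leaf [10] 40 52 0 Tr.leaf) [12] 53 41 0 Tr.leaf)))) [12] 0 0 0 (Tr.node (Tr.node (Tr.node (Tr.node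 (Tr.node Tr.leaf [6] 2 2 0 Tr.leaf) [12] 24 16 0 (Tr.node Tr.leaf [] 39 23 0 Tr.leaf)) [12] 5 6 0 (Tr.node (Tr.node Tr.leaf [6] 37 53 0 Tr.leaf) [8] 27 24 0 Tr.leaf)) [8] 1 2 0 (Tr.node (Tr.node (Tr.node Tr.leaf [15] 24 38 0 Tr.leaf) [14] 27 49 0 (Tr.node Tr.leaf [] 4 2 0 Tr.leaf)) [8] 36 35 0 (Tr.node (Tr.node Tr.leaf [10] 38 41 0 Tr.leaf) [8] 46 39 0 Tr.leaf))) [11] 1 4 0 (Tr.node (Tr.node (Tr.node (Tr.node Tr.leaf [14] 26 24 0 Tr.leaf) [6] 30 24 0 (Tr.node Tr.leaf [] 21 5 0 Tr.leaf)) [12] 25 15 0 (Tr.node (Tr.node Tr.leaf [8] 55 33 0 Tr.leaf) [15] 23 37 0 Tr.leaf)) [6] 15 23 0 (Tr.node (Tr.node (Tr.node Tr.leaf [8] 48 40 0 Tr.leaf) [11] 7 16 0 Tr.leaf) [6] 6 4 0 (Tr.node (Tr.node Tr.leaf [8] 58 45 0 Tr.leaf) [11] 33 57 0 Tr.leaf))))) [8] 0 0 0 (Tr.node (Tr.node (Tr.node (Tr.node (Tr.node (Tr.node Tr.leaf [] 10 1 0 Tr.leaf) [8] 13 14 0 (Tr.node Tr.leaf [10]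 58 31 0 Tr.leaf)) [6] 1 1 0 (Tr.node (Tr.node Tr.leaf [15] 29 52 0 Tr.leaf) [12] 17 23 0 Tr.leaf)) [11] 10 20 0 (Tr.node (Tr.node (Tr.node Tr.leaf [15] 33 32 0 Tr.leaf) [15] 20 44 0 (Tr.node Tr.leaf [] 6 2 0 Tr.leaf)) [6] 25 17 0 (Tr.node (Tr.node Tr.leaf [8] 57 53 0 Tr.leaf) [12] 44 33 0 Tr.leaf))) [10] 1 3 0 (Tr.node (Tr.node (Tr.node (Tr.node Tr.leaf [15] 12 11 0 Tr.leaf) [6] 22 26 0 (Tr.node Tr.leaf [] 9 13 0 Tr.leaf)) [12] 9 11 0 (Tr.node (Tr.node Tr.leaf [10] 42 35 0 Tr.leaf) [6] 28 29 0 Tr.leaf)) [11] 11 22 0 (Tr.node (Tr.node (Tr.node Tr.leaf [12] 47 34 0 Tr.leaf) [15] 6 14 0 Tr.leaf) [12] 1 1 0 (Tr.node (Tr.node Tr.leaf [11] 39 32 0 Tr.leaf) [15] 15 54 0 Tr.leaf)))) [11] 0 0 0 (Tr.node (Tr.node (Tr.node (Tr.node (Tr.node Tr.leaf [8] 4 4 0 Tr.leaf) [6] 20 16 0 (Tr.node Tr.leaf [] 28 25 0 Tr.leaf)) [14] 4 9 0 (Tr.node (Tr.node Tr.leaf [8] 54 50 0 Tr.leaf)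 [15] 23 28 0 Tr.leaf)) [15] 4 10 0 (Tr.node (Tr.node (Tr.node Tr.leaf [15] 44 43 0 Tr.leaf) [10] 31 36 0 (Tr.node Tr.leaf [15] 22 46 0 Tr.leaf)) [12] 36 39 0 (Tr.node (Tr.node Tr.leaf [11] 47 51 0 Tr.leaf) [8] 49 38 0 Tr.leaf))) [12] 3 4 0 (Tr.node (Tr.node (Tr.node (Tr.node Tr.leaf [6] 18 19 0 Tr.leaf) [14] 16 32 0 (Tr.node Tr.leaf [] 26 4 0 Tr.leaf)) [8] 15 19 0 (Tr.node (Tr.node Tr.leaf [15] 28 56 0 Tr.leaf) [14] 17 40 0 Tr.leaf)) [15] 16 33 0 (Tr.node (Tr.node (Tr.node Tr.leaf [6] 50 47 0 Tr.leaf) [11] 20 19 0 Tr.leaf) [12] 8 12 0 (Tr.node (Tr.node Tr.leaf [15] 30 59 0 Tr.leaf) [12] 58 32 0 Tr.leaf)))))) [6] 0 0 0 (Tr.node (Tr.node (Tr.node (Tr.node (Tr.node (Tr.node (Tr.node Tr.leaf [] 16 6 0 Tr.leaf) [12] 10 14 0 (Tr.node Tr.leaf [10] 31 48 0 Tr.leaf)) [6] 39 31 0 (Tr.node (Tr.node Tr.leaf [8] 51 44 0 Tr.leaf) [11] 25 24 0 Tr.leaf)) [10] 9 18 0 (Tr.node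 (Tr.node (Tr.node Tr.leaf [11] 26 30 0 Tr.leaf) [14] 20 43 0 (Tr.node Tr.leaf [] 28 6 0 Tr.leaf)) [8] 29 20 0 (Tr.node (Tr.node Tr.leaf [14] 22 57 0 Tr.leaf) [8] 42 31 0 Tr.leaf))) [14] 0 1 0 (Tr.node (Tr.node (Tr.node (Tr.node Tr.leaf [6] 11 13 0 Tr.leaf) [12] 19 26 0 (Tr.node Tr.leaf [] 7 11 0 Tr.leaf)) [8] 8 11 0 (Tr.node (Tr.node Tr.leaf [11] 36 39 0 Tr.leaf) [15] 17 27 0 Tr.leaf)) [10] 7 15 0 (Tr.node (Tr.node (Tr.node Tr.leaf [8] 47 41 0 Tr.leaf) [11] 4 3 0 Tr.leaf) [12] 2 2 0 (Tr.node (Tr.node Tr.leaf [10] 56 31 0 Tr.leaf) [12] 31 40 0 Tr.leaf)))) [14] 0 0 0 (Tr.node (Tr.node (Tr.node (Tr.node (Tr.node Tr.leaf [11] 6 5 0 Tr.leaf) [8] 26 17 0 (Tr.node Tr.leaf [] 15 21 0 Tr.leaf)) [8] 3 5 0 (Tr.node (Tr.node Tr.leaf [12] 54 37 0 Tr.leaf) [12] 28 21 0 Tr.leaf)) [15] 3 8 0 (Tr.node (Tr.node (Tr.node Tr.leaf [6] 40 36 0 Tr.leaf) [14] 30 58 0 (Tr.node Tr.leaf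 [] 2 0 0 Tr.leaf)) [15] 26 48 0 (Tr.node (Tr.node Tr.leaf [10] 44 50 0 Tr.leaf) [6] 35 48 0 Tr.leaf))) [11] 2 6 0 (Tr.node (Tr.node (Tr.node (Tr.node Tr.leaf [11] 12 29 0 Tr.leaf) [14] 15 31 0 (Tr.node Tr.leaf [] 33 14 0 Tr.leaf)) [11] 14 26 0 (Tr.node (Tr.node Tr.leaf [12] 55 49 0 Tr.leaf) [8] 37 34 0 Tr.leaf)) [12] 22 18 0 (Tr.node (Tr.node (Tr.node Tr.leaf [14] 19 50 0 Tr.leaf) [11] 8 17 0 Tr.leaf) [15] 5 12 0 (Tr.node (Tr.node Tr.leaf [10] 36 58 0 Tr.leaf) [11] 54 49 0 Tr.leaf))))) [10] 0 0 0 (Tr.node (Tr.node (Tr.node (Tr.node (Tr.node (Tr.node Tr.leaf [15] 2 1 0 Tr.leaf) [10] 13 24 0 (Tr.node Tr.leaf [10] 39 40 0 Tr.leaf)) [6] 3 5 0 (Tr.node (Tr.node Tr.leaf [8] 52 43 0 Tr.leaf) [14] 18 16 0 Tr.leaf)) [11] 13 25 0 (Tr.node (Tr.node (Tr.node Tr.leaf [15] 37 36 0 Tr.leaf) [14] 26 47 0 (Tr.node Tr.leaf [] 6 1 0 Tr.leaf)) [10] 14 30 0 (Tr.node (Tr.node Tr.leaf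 [11] 55 37 0 Tr.leaf) [6] 38 44 0 Tr.leaf))) [14] 3 7 0 (Tr.node (Tr.node (Tr.node (Tr.node Tr.leaf [11] 16 15 0 Tr.leaf) [12] 29 27 0 (Tr.node Tr.leaf [] 20 4 0 Tr.leaf)) [10] 10 19 0 (Tr.node (Tr.node Tr.leaf [14] 28 55 0 Tr.leaf) [12] 30 20 0 Tr.leaf)) [8] 23 18 0 (Tr.node (Tr.node (Tr.node Tr.leaf [15] 48 47 0 Tr.leaf) [6] 10 12 0 Tr.leaf) [10] 2 5 0 (Tr.node (Tr.node Tr.leaf [6] 58 43 0 Tr.leaf) [6] 57 34 0 Tr.leaf)))) [15] 0 0 0 (Tr.node (Tr.node (Tr.node (Tr.node (Tr.node Tr.leaf [8] 6 6 0 Tr.leaf) [10] 8 27 0 (Tr.node Tr.leaf [] 43 9 0 Tr.leaf)) [12] 13 7 0 (Tr.node (Tr.node Tr.leaf [6] 54 41 0 Tr.leaf) [14] 21 15 0 Tr.leaf)) [14] 6 13 0 (Tr.node (Tr.node (Tr.node Tr.leaf [15] 21 45 0 Tr.leaf) [] 31 15 0 Tr.leaf) [] 58 7 0 (Tr.node (Tr.node Tr.leaf [11] 43 35 0 Tr.leaf) [15] 25 53 0 Tr.leaf))) [14] 5 11 0 (Tr.node (Tr.node (Tr.node (Tr.node Tr.leaf [15]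 30 19 0 Tr.leaf) [14] 18 34 0 (Tr.node Tr.leaf [] 3 5 0 Tr.leaf)) [8] 22 25 0 (Tr.node (Tr.node Tr.leaf [12] 56 52 0 Tr.leaf) [15] 17 41 0 Tr.leaf)) [14] 23 36 0 (Tr.node (Tr.node (Tr.node Tr.leaf [14] 29 51 0 Tr.leaf) [10] 11 21 0 Tr.leaf) [8] 7 12 0 (Tr.node (Tr.node Tr.leaf [6] 59 33 0 Tr.leaf) [] 32 13 0 Tr.leaf)))))))
def L1_m0 : ℕ := (nat_lit 0)
def L1_m1 : ℕ := (nat_lit 0)
def L1_m2 : ℕ := (nat_lit 0x60)
def L1_m3 : ℕ := (nat_lit 0)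
def L1_m4 : ℕ := (nat_lit 0x4)
def L1_m5 : ℕ := (nat_lit 0x18)
def L1_m6 : ℕ := (nat_lit 0x2)
def L1_p0 : List ℕ := [nat_lit 0x100e00500b,
  nat_lit 0x100e00900d,
  nat_lit 0x5001002005005,
  nat_lit 0x9001008009009,
  nat_lit 0x900700400900100a,
  nat_lit 0xa00400200b00300a,
  nat_lit 0x100e003003,
  nat_lit 0xa001001009007009,
  nat_lit 0x900700100400a00700a,
  nat_lit 0x5003004003001006,
  nat_lit 0x6008002005007006,
  nat_lit 0x100e007007,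
  nat_lit 0x3001002001001004,
  nat_lit 0x6001001003003005,
  nat_lit 0x5003001004004003006,
  nat_lit 0x7001001006001008,
  nat_lit 0x690020081350a6,
  nat_lit 0xa300200812b0a2,
  nat_lit 0xf002008105012,
  nat_lit 0x19002002109076,
  nat_lit 0x170020020b1014,
  nat_lit 0x2900200810f016,
  nat_lit 0xb300200804f02e,
  nat_lit 0x7900200811301e,
  nat_lit 0xb7002002115032,
  nat_lit 0x230020020bb056,
  nat_lit 0x250020020c1086,
  nat_lit 0x59002002121066,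
  nat_lit 0x3b00200812309c,
  nat_lit 0xd700200812503e,
  nat_lit 0x1100300300b027010,
  nat_lit 0xf001001009071010,
  nat_lit 0x11007004009043012,
  nat_lit 0x1100700100400a073012,
  nat_lit 0x13028004003045076,
  nat_lit 0x7507100300504701a,
  nat_lit 0x1307300300501b018,
  nat_lit 0x1704300100310b018,
  nat_lit 0x13044028005004049076,
  nat_lit 0x7100f00700100a107010,
  nat_lit 0x4704500100607701c,
  nat_lit 0x2904600100907b07a,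
  nat_lit 0x1d04800400911102e,
  nat_lit 0x1501c00400901f04c,
  nat_lit 0x1504a00300b07d07a,
  nat_lit 0x2904a00200b05101e,
  nat_lit 0x4b10b00300b07f02c,
  nat_lit 0x1910700100310d01a,
  nat_lit 0x4b01b04600400a05301e,
  nat_lit 0x2d04704500400a04d016,
  nat_lit 0x2b0770010090810b4,
  nat_lit 0x2108000400311b056,
  nat_lit 0x2d10d00300b0830b4,
  nat_lit 0x8504e0030050870b8,
  nat_lit 0x2504e002005057032,
  nat_lit 0x11907b00200509508e,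
  nat_lit 0xb907c0020050c30c0,
  nat_lit 0x3311200100305d026,
  nat_lit 0x3107e0040030370c0,
  nat_lit 0x8f01f00100305f0b8,
  nat_lit 0x8f0540020050c90be,
  nat_lit 0x33053002005039022,
  nat_lit 0x11004d00400902f04f,
  nat_lit 0xbf07d020004004035022,
  nat_lit 0x3102008000500405b056,
  nat_lit 0x2b01b02a00a00a0b507c,
  nat_lit 0xdb0c400400912903e,
  nat_lit 0x16105e00300b1630ee,
  nat_lit 0x16103a0040090f509e,
  nat_lit 0x15b06000200b15f09c,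
  nat_lit 0x15506000300b15703c,
  nat_lit 0x9f11c00100914f0e0,
  nat_lit 0xf305c00200b14b13a,
  nat_lit 0xf30380010091490d8,
  nat_lit 0x13d09600400913f0a8,
  nat_lit 0x1ab05e00200b0e7040,
  nat_lit 0xdf05b00200b0e109a,
  nat_lit 0x5902f0010030890ba,
  nat_lit 0x3f05800400904109a,
  nat_lit 0xd703600200b0d909e,
  nat_lit 0x3d03600300b0670a0,
  nat_lit 0x650810030050d5024,
  nat_lit 0x65083004003097086,
  nat_lit 0x1190b5001003061024,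
  nat_lit 0x5508200300509105a,
  nat_lit 0xbc05b00400308b115,
  nat_lit 0x5e02508400100409305a,
  nat_lit 0x3d03705700500a06b040,
  nat_lit 0x990380c300500a0f10dc,
  nat_lit 0x5d0330510010040630ba,
  nat_lit 0x6502f0520050040cf0be,
  nat_lit 0x8d0300830050040c7086,
  nat_lit 0xa308c0010090e303c,
  nat_lit 0xa508a00300b1310de,
  nat_lit 0xa90d000300b17712e,
  nat_lit 0x6908a00200b1370dc,
  nat_lit 0xa70c800300b0eb128,
  nat_lit 0x13909200400913b0a6,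
  nat_lit 0x13d06200300b1410a4,
  nat_lit 0x14306200200b1450a2,
  nat_lit 0xed0640010090ef0de,
  nat_lit 0xa90d60040091750a2,
  nat_lit 0xe204100200112f0e7,
  nat_lit 0x1500df09200100a0e906a,
  nat_lit 0xa909808800500a0fb09c,
  nat_lit 0xa509303a00500a13309e,
  nat_lit 0x6202307f0010040d4090,
  nat_lit 0x15b0d400100915d144,
  nat_lit 0x1550d409600500a1590a8,
  nat_lit 0xda1331320010071470ef,
  nat_lit 0xf30570ee00a00a14d0f0,
  nat_lit 0x17b0d60a400a00a17d0e4,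
  nat_lit 0xe403b08700100a0e6128,
  nat_lit 0xf609d02101f01501304301100500100900500101001a07802c02408c00300c0f803c,
  nat_lit 0x2101f01501304301100500100900500100900500101001a07802c02400500c0c508c,
  nat_lit 0x1630f700300317f17d,
  nat_lit 0x1580f80f60070041650d9,
  nat_lit 0x360c600400b0cb05f,
  nat_lit 0x9303a0c600300a117087,
  nat_lit 0x14a1650040050f915a,
  nat_lit 0xc90cb0030090cd037,
  nat_lit 0x8911800400b0d10c7,
  nat_lit 0xeb0f900300316714e,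
  nat_lit 0xe50eb0f900300416914c,
  nat_lit 0xd00ce00400b11d05c,
  nat_lit 0x960d100300911f063,
  nat_lit 0x13b16900200316b141,
  nat_lit 0x12b0e51680dd06302504f02f08e0d106302504f02f08e0a813f16b13500200c16d0e9,
  nat_lit 0x6809f03903305102901c01702800f00700600300a00700600300a00700600301207301404a01e05302203503e00400d15106c,
  nat_lit 0x1300e8151003004153068,
  nat_lit 0x12a06816d00300416f145,
  nat_lit 0xe11540030031810ea,
  nat_lit 0x15e16f0010051710f1,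
  nat_lit 0x42171002003173160,
  nat_lit 0x6c1740010051790fb,
  nat_lit 0x4103f0c209711e0550b611403409406a18104103f0c209717c17f14700300c0ab126,
  nat_lit 0x1790010021830ab,
  nat_lit 0x6b0ab0010051850f2,
  nat_lit 0xac06809f03903305102901c01702800f00700600301207301404a01e05302203503e06c1861370690910bb06112000400d0ad058,
  nat_lit 0x420ae00100e187038,
  nat_lit 0x1840ae00100e06d031,
  nat_lit 0x9a0ae00100e1890cd,
  nat_lit 0x1f06d00100e18e176,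
  nat_lit 0x7d06d00100e190178,
  nat_lit 0x4e06d00100e0fe0fc,
  nat_lit 0x4018800100e18c0cc,
  nat_lit 0xaa06e00100e0ff015,
  nat_lit 0xbe18900100e192031,
  nat_lit 0x9018c00100e193025,
  nat_lit 0xa218e00100e19504b,
  nat_lit 0x12e19000100e197079,
  nat_lit 0x1240fe00100e19904f,
  nat_lit 0x9c0fe00100e10102d,
  nat_lit 0x12210000100e19b0b1,
  nat_lit 0x6610000100e0af013,
  nat_lit 0x1e19100100e19e015,
  nat_lit 0xca19800100e1a1048,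
  nat_lit 0x2e19300100e1a004b,
  nat_lit 0x2419600100e103017,
  nat_lit 0x10103c19a0b000100e1a3105,
  nat_lit 0x1a10601021a400100e1a5027,
  nat_lit 0xaf05a19c1a000100e06f019,
  nat_lit 0x1030820b007000100e06f072,
  nat_lit 0xb219e1091a600100e1a7070,
  nat_lit 0x1a702c10407000100e1a900f,
  nat_lit 0x1a900100e00900f,
  nat_lit 0x800a003009009002,
  nat_lit 0x700100a00600a009008]
noncomputable def L1 : CE where
  p0 := 0
  F := (Nat.sub (Nat.shiftLeft 1 7) 1)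
  masks := [L1_m0, L1_m1, L1_m2, L1_m3, L1_m4, L1_m5, L1_m6]
  gprog := [4, 5, 6, 2, 5]
  cprog := [8, 7, 9, 11, 58, 12, 10, 20, 37, 21, 14, 60, 22, 89, 24, 91, 92, 16, 42, 17, 94, 25, 95, 66, 18, 44, 70, 71, 140, 50, 76, 77, 29, 78, 79, 30, 107, 147, 31, 109, 110, 111, 80, 81, 150, 213, 82, 52, 83, 156, 158, 161, 118, 121, 170, 173, 176, 84, 189]
  sids := [0, 1, 2, 3]
  t0 := L1_t
  s := 12
  progs := [L1_p0]
  O := (Nat.sub (Nat.shiftLeft 1 7) 1)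
  yids := [0, 1, 2, 3, 4]
theorem L1_chk : ∃ progs, CE.check { L1 with progs := progs } L1_nets (imOf [3, 4, 6, 8, 9]) L1_rels [[6], [8], [10], [12]] [[6], [8], [10], [12], [14]] = true :=
  ⟨L1.progs, by decide +kernel⟩
theorem L1_idx {Γ : Type*} [Group Γ] {g : ℕ → Γ} (hi : InvOk g (imOf [3, 4, 6, 8, 9])) (hr : ∀ r ∈ L1_rels, ev g r = 1)
    {H : Subgroup Γ} (hs : ∀ u ∈ ([[6], [8], [10], [12]] : List (List ℕ)), ev g u ∈ H) :
    H.relIndex (gen g [[6], [8], [10], [12], [14]]) ≠ 0 ∧ H.relIndex (gen g [[6], [8], [10], [12], [14]]) ≤ 7 :=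
  Reach.relIndex_le L1_model hi hr hs L1_chk (by decide +kernel)

def N0_nets_n0_0 : ℕ := (nat_lit 0x30303030)
def N0_nets_n0_1 : ℕ := (nat_lit 0xc0c0c0c)
def N0_nets_n0_2 : ℕ := (nat_lit 0x3030303)
def N0_nets_n1_0 : ℕ := (nat_lit 0xff0000)
def N0_nets_n1_1 : ℕ := (nat_lit 0xff00)
def N0_nets_n1_2 : ℕ := (nat_lit 0xff)
def N0_nets_n9_0 : ℕ := (nat_lit 0x55555555)
def N0_nets_n0 : Net :=
  (Net.cons N0_nets_n0_0 (nat_lit 2) (Net.cons N0_nets_n0_1 (nat_lit 4) (Net.cons N0_nets_n0_2 (nat_lit 2) Net.nil)))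
def N0_nets_n1 : Net :=
  (Net.cons N0_nets_n1_0 (nat_lit 8) (Net.cons N0_nets_n1_1 (nat_lit 16) (Net.cons N0_nets_n1_2 (nat_lit 8) Net.nil)))
def N0_nets_n9 : Net :=
  (Net.cons N0_nets_n9_0 (nat_lit 1) Net.nil)
def N0_nets : List Net := [N0_nets_n0, N0_nets_n1, Net.nil, Net.nil, Net.nil, Net.nil, Net.nil, Net.nil, Net.nil, N0_nets_n9]
def N0_rels : List (List ℕ) := [[0, 0, 0, 0],
  [2, 2, 2, 2],
  [0, 2, 1, 3],
  [0, 18, 1, 18],
  [2, 18, 3, 18]]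
theorem N0_nets_ok : allL (Net.ok 32) N0_nets = true := by decide +kernel
theorem N0_rel_s0 : relsAt N0_nets 32 5 (List.range' 0 5) (sqW [3, 4, 6, 8, 9] ++ N0_rels) = true := by decide +kernel
theorem N0_rel : ∀ w ∈ (sqW [3, 4, 6, 8, 9] ++ N0_rels), ev (netGen N0_nets) w = 1 :=
  SlicesOk.rel (K := 5) ((SlicesOk.zero _ _ _ _).step 5 N0_rel_s0)
    N0_nets_ok (by norm_num)
theorem N0_model : Model 32 N0_nets (imOf [3, 4, 6, 8, 9]) N0_rels := Model.of_rel N0_nets_ok N0_rel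
def N0_t : Tr := (Tr.node (Tr.node (Tr.node Tr.leaf [1] 0 0 0 Tr.leaf) [2] 0 0 0 Tr.leaf) [0] 0 0 0 (Tr.node (Tr.node Tr.leaf [3] 0 0 0 Tr.leaf) [18] 0 0 0 Tr.leaf))
def N0_m0 : ℕ := (nat_lit 0x10)
def N0_m1 : ℕ := (nat_lit 0x550000)
def N0_m2 : ℕ := (nat_lit 0xaaaaaaaa)
def N0_m3 : ℕ := (nat_lit 0x44)
def N0_m4 : ℕ := (nat_lit 0x55005500)
def N0_p0 : List ℕ := [nat_lit 0x1006001007,
  nat_lit 0x1006003009,
  nat_lit 0x1006005005,
  nat_lit 0x5004003005003006,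
  nat_lit 0x5002003004001006,
  nat_lit 0x3003001002003003,
  nat_lit 0x3002006003001004,
  nat_lit 0x4002003003001003,
  nat_lit 0x1001001001001001,
  nat_lit 0x3002006003001004]
noncomputable def N0 : CE where
  p0 := 0
  F := (Nat.sub (Nat.shiftLeft 1 32) 1)
  masks := [N0_m0, N0_m1, N0_m2, N0_m3, N0_m4]
  gprog := [0, 1, 2, 3, 4, 1, 2, 3, 4, 1, 2, 4, 2]
  cprog := []
  sids := []
  t0 := N0_t
  s := 12
  progs := [N0_p0]
  O := (Nat.sub (Nat.shiftLeft 1 32) 1)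
  yids := [0, 1, 2]
theorem N0_chk : ∃ progs, CE.check { N0 with progs := progs } N0_nets (imOf [3, 4, 6, 8, 9]) N0_rels [] [[0], [2], [18]] = true :=
  ⟨N0.progs, by decide +kernel⟩
theorem N0_idx {Γ : Type*} [Group Γ] {g : ℕ → Γ} (hi : InvOk g (imOf [3, 4, 6, 8, 9])) (hr : ∀ r ∈ N0_rels, ev g r = 1)
    {H : Subgroup Γ} (hs : ∀ u ∈ ([] : List (List ℕ)), ev g u ∈ H) :
    H.relIndex (gen g [[0], [2], [18]]) ≠ 0 ∧ H.relIndex (gen g [[0], [2], [18]]) ≤ 32 :=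
  Reach.relIndex_le N0_model hi hr hs N0_chk (by decide +kernel)

def N1_nets_n3_0 : ℕ := (nat_lit 0x555555)
def N1_nets_n4_0 : ℕ := (nat_lit 0xf0f0f)
def N1_nets_n4_1 : ℕ := (nat_lit 0x44)
def N1_nets_n6_0 : ℕ := (nat_lit 0x333333)
def N1_nets_n6_1 : ℕ := (nat_lit 0x500500)
def N1_nets_n7_0 : ℕ := (nat_lit 0x44044)
def N1_nets_n7_1 : ℕ := (nat_lit 0xf)
def N1_nets_n7_2 : ℕ := (nat_lit 0xff)
def N1_nets_n7_3 : ℕ := (nat_lit 0xf0)
def N1_nets_n7_4 : ℕ := (nat_lit 0x222222)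
def N1_nets_n7_5 : ℕ := (nat_lit 0x400400)
def N1_nets_n3 : Net :=
  (Net.cons N1_nets_n3_0 (nat_lit 1) Net.nil)
def N1_nets_n4 : Net :=
  (Net.cons N1_nets_n4_0 (nat_lit 4) (Net.cons N1_nets_n4_1 (nat_lit 1) Net.nil))
def N1_nets_n6 : Net :=
  (Net.cons N1_nets_n6_0 (nat_lit 2) (Net.cons N1_nets_n6_1 (nat_lit 1) Net.nil))
def N1_nets_n7 : Net :=
  (Net.cons N1_nets_n7_0 (nat_lit 1) (Net.cons N1_nets_n7_1 (nat_lit 8) (Net.cons N1_nets_n7_2 (nat_lit 16) (Net.cons N1_nets_n7_3 (nat_lit 8) (Net.cons N1_nets_n7_4 (nat_lit 2) (Net.cons N1_nets_n7_5 (nat_lit 1) Net.nil))))))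
def N1_nets : List Net := [Net.nil, Net.nil, Net.nil, N1_nets_n3, N1_nets_n4, Net.nil, N1_nets_n6, N1_nets_n7, Net.nil, Net.nil]
def N1_rels : List (List ℕ) := [[0, 0, 0, 0],
  [2, 2, 2, 2],
  [0, 2, 1, 3],
  [0, 18, 1, 18],
  [2, 18, 3, 18],
  [6, 0, 6, 1],
  [8, 0, 8, 1],
  [12, 0, 12, 0],
  [6, 2, 6, 2],
  [8, 18, 8, 18],
  [8, 2, 8, 18, 3, 3, 0, 3],
  [6, 18, 6, 1, 1, 18],
  [12, 2, 12, 3],
  [12, 18, 12, 18, 3, 3],
  [14, 0, 15, 3],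
  [14, 2, 15, 18, 3, 3, 0, 3],
  [14, 18, 15, 18],
  [6, 8, 6, 8],
  [12, 6, 12, 6],
  [12, 8, 12, 8, 6],
  [14, 14, 14],
  [14, 6, 15, 12],
  [14, 12, 15, 12, 6],
  [8, 14, 8, 14]]
theorem N1_nets_ok : allL (Net.ok 24) N1_nets = true := by decide +kernel
theorem N1_rel_s0 : relsAt N1_nets 24 5 (List.range' 0 5) (sqW [3, 4, 6, 8, 9] ++ N1_rels) = true := by decide +kernel
theorem N1_rel : ∀ w ∈ (sqW [3, 4, 6, 8, 9] ++ N1_rels), ev (netGen N1_nets) w = 1 :=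
  SlicesOk.rel (K := 5) ((SlicesOk.zero _ _ _ _).step 5 N1_rel_s0)
    N1_nets_ok (by norm_num)
theorem N1_model : Model 24 N1_nets (imOf [3, 4, 6, 8, 9]) N1_rels := Model.of_rel N1_nets_ok N1_rel
def N1_t : Tr := (Tr.node (Tr.node (Tr.node (Tr.node Tr.leaf [1] 0 0 0 Tr.leaf) [6] 0 0 0 Tr.leaf) [2] 0 0 0 (Tr.node (Tr.node Tr.leaf [15] 0 0 0 Tr.leaf) [12] 0 0 0 Tr.leaf)) [0] 0 0 0 (Tr.node (Tr.node (Tr.node Tr.leaf [3] 0 0 0 Tr.leaf) [8] 0 0 0 Tr.leaf) [18] 0 0 0 (Tr.node Tr.leaf [14] 0 0 0 Tr.leaf)))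
def N1_m0 : ℕ := (nat_lit 0)
def N1_m1 : ℕ := (nat_lit 0)
def N1_m2 : ℕ := (nat_lit 0)
def N1_m3 : ℕ := (nat_lit 0x22002)
def N1_m4 : ℕ := (nat_lit 0xb0)
def N1_m5 : ℕ := (nat_lit 0x80084c)
def N1_m6 : ℕ := (nat_lit 0xdd000)
def N1_m7 : ℕ := (nat_lit 0)
def N1_m8 : ℕ := (nat_lit 0)
def N1_m9 : ℕ := (nat_lit 0x700700)
def N1_p0 : List ℕ := [nat_lit 0x1019007007,
  nat_lit 0x1019009009,
  nat_lit 0x101900b00b,
  nat_lit 0x101900d013,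
  nat_lit 0xd00101500d00d,
  nat_lit 0xe00a00201800900e,
  nat_lit 0x1019009009,
  nat_lit 0xd00b00401600700e,
  nat_lit 0xb00700101300700c,
  nat_lit 0x900700201200700a,
  nat_lit 0x8002005006001008,
  nat_lit 0x7003001009003008,
  nat_lit 0xb00400500d00300c,
  nat_lit 0x900200500700100a,
  nat_lit 0xb00100100800100c,
  nat_lit 0xe00700101600b00d,
  nat_lit 0x900500100a00500a,
  nat_lit 0x7009001012009008,
  nat_lit 0xe00200800f00300d,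
  nat_lit 0xd00400500f00100e,
  nat_lit 0x800a00c00301400b00a,
  nat_lit 0x101900b00b,
  nat_lit 0xb00900b00a01400700a,
  nat_lit 0x1019007007,
  nat_lit 0xe00c00d00901700b008,
  nat_lit 0x101900b00b,
  nat_lit 0xe00b00d00a01700700c,
  nat_lit 0x1019007007,
  nat_lit 0xd00500401100500e,
  nat_lit 0x700100100500400c005008,
  nat_lit 0xb00e00301600d008,
  nat_lit 0xb00900700401400900c,
  nat_lit 0xe00500101100500d,
  nat_lit 0xa00200500700100a,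
  nat_lit 0x900500100a00500a,
  nat_lit 0xe00200800f00300d,
  nat_lit 0x900400100400400500500b00300a,
  nat_lit 0x8002005006001008,
  nat_lit 0x7003001009003008,
  nat_lit 0xd00500401100500e,
  nat_lit 0x700100100500400c005008,
  nat_lit 0xe00500101100500d,
  nat_lit 0xd00400500f00100e]
noncomputable def N1 : CE where
  p0 := 0
  F := (Nat.sub (Nat.shiftLeft 1 24) 1)
  masks := [N1_m0, N1_m1, N1_m2, N1_m3, N1_m4, N1_m5, N1_m6, N1_m7, N1_m8, N1_m9]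
  gprog := [3, 4, 5, 6, 9, 3, 4, 5]
  cprog := []
  sids := [0, 1, 2]
  t0 := N1_t
  s := 12
  progs := [N1_p0]
  O := (Nat.sub (Nat.shiftLeft 1 24) 1)
  yids := [0, 1, 2, 3, 4, 5, 6]
theorem N1_chk : ∃ progs, CE.check { N1 with progs := progs } N1_nets (imOf [3, 4, 6, 8, 9]) N1_rels [[0], [2], [18]] [[0], [2], [18], [6], [8], [12], [14]] = true :=
  ⟨N1.progs, by decide +kernel⟩
theorem N1_idx {Γ : Type*} [Group Γ] {g : ℕ → Γ} (hi : InvOk g (imOf [3, 4, 6, 8, 9])) (hr : ∀ r ∈ N1_rels, ev g r = 1)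
    {H : Subgroup Γ} (hs : ∀ u ∈ ([[0], [2], [18]] : List (List ℕ)), ev g u ∈ H) :
    H.relIndex (gen g [[0], [2], [18], [6], [8], [12], [14]]) ≠ 0 ∧ H.relIndex (gen g [[0], [2], [18], [6], [8], [12], [14]]) ≤ 24 :=
  Reach.relIndex_le N1_model hi hr hs N1_chk (by decide +kernel)

def N2_nets_n0_0 : ℕ := (nat_lit 0x28)
def N2_nets_n0_1 : ℕ := (nat_lit 0x1980)
def N2_nets_n1_0 : ℕ := (nat_lit 0x2a8a)
def N2_nets_n4_0 : ℕ := (nat_lit 0x18)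
def N2_nets_n4_1 : ℕ := (nat_lit 0x500)
def N2_nets_n4_2 : ℕ := (nat_lit 0x1100)
def N2_nets_n7_0 : ℕ := (nat_lit 0x1100)
def N2_nets_n7_1 : ℕ := (nat_lit 0x6)
def N2_nets_n7_2 : ℕ := (nat_lit 0x506)
def N2_nets_n7_3 : ℕ := (nat_lit 0x1100)
def N2_nets_n8_0 : ℕ := (nat_lit 0x8a1)
def N2_nets_n8_1 : ℕ := (nat_lit 0x190)
def N2_nets_n8_2 : ℕ := (nat_lit 0x40)
def N2_nets_n8_3 : ℕ := (nat_lit 0x30)
def N2_nets_n8_4 : ℕ := (nat_lit 0x8)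
def N2_nets_n8_5 : ℕ := (nat_lit 0x10)
def N2_nets_n8_6 : ℕ := (nat_lit 0xa28)
def N2_nets_n9_0 : ℕ := (nat_lit 0x780)
def N2_nets_n0 : Net :=
  (Net.cons N2_nets_n0_0 (nat_lit 1) (Net.cons N2_nets_n0_1 (nat_lit 2) Net.nil))
def N2_nets_n1 : Net :=
  (Net.cons N2_nets_n1_0 (nat_lit 1) Net.nil)
def N2_nets_n4 : Net :=
  (Net.cons N2_nets_n4_0 (nat_lit 2) (Net.cons N2_nets_n4_1 (nat_lit 4) (Net.cons N2_nets_n4_2 (nat_lit 2) Net.nil)))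
def N2_nets_n7 : Net :=
  (Net.cons N2_nets_n7_0 (nat_lit 1) (Net.cons N2_nets_n7_1 (nat_lit 2) (Net.cons N2_nets_n7_2 (nat_lit 4) (Net.cons N2_nets_n7_3 (nat_lit 2) Net.nil))))
def N2_nets_n8 : Net :=
  (Net.cons N2_nets_n8_0 (nat_lit 1) (Net.cons N2_nets_n8_1 (nat_lit 2) (Net.cons N2_nets_n8_2 (nat_lit 4) (Net.cons N2_nets_n8_3 (nat_lit 8) (Net.cons N2_nets_n8_4 (nat_lit 4) (Net.cons N2_nets_n8_5 (nat_lit 2) (Net.cons N2_nets_n8_6 (nat_lit 1) Net.nil)))))))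
def N2_nets_n9 : Net :=
  (Net.cons N2_nets_n9_0 (nat_lit 4) Net.nil)
def N2_nets : List Net := [N2_nets_n0, N2_nets_n1, Net.nil, Net.nil, N2_nets_n4, Net.nil, Net.nil, N2_nets_n7, N2_nets_n8, N2_nets_n9]
def N2_rels : List (List ℕ) := [[0, 0, 0, 0],
  [2, 2, 2, 2],
  [0, 2, 1, 3],
  [0, 18, 1, 18],
  [2, 18, 3, 18],
  [6, 0, 6, 1],
  [8, 0, 8, 1],
  [12, 0, 12, 0],
  [6, 2, 6, 2],
  [8, 18, 8, 18],
  [8, 2, 8, 18, 3, 3, 0, 3],
  [6, 18, 6, 1, 1, 18],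
  [12, 2, 12, 3],
  [12, 18, 12, 18, 3, 3],
  [14, 0, 15, 3],
  [14, 2, 15, 18, 3, 3, 0, 3],
  [14, 18, 15, 18],
  [6, 8, 6, 8],
  [12, 6, 12, 6],
  [12, 8, 12, 8, 6],
  [14, 14, 14],
  [14, 6, 15, 12],
  [14, 12, 15, 12, 6],
  [8, 14, 8, 14],
  [16, 12, 16, 12],
  [16, 0, 16, 0],
  [16, 2, 2, 16, 6],
  [16, 18, 16, 8],
  [12, 2, 6, 16, 12, 2, 6, 16, 12, 2, 6, 16],
  [16, 2, 14, 16, 2, 14, 16, 2, 14, 16, 2, 14, 16, 2, 14],
  [16, 8, 14, 16, 8, 14, 16, 8, 14, 16, 8, 14, 16, 8, 14, 16, 8, 14, 16, 8, 14, 16, 8, 14]]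
theorem N2_nets_ok : allL (Net.ok 15) N2_nets = true := by decide +kernel
theorem N2_rel_s0 : relsAt N2_nets 15 4 (List.range' 0 4) (sqW [3, 4, 6, 8, 9] ++ N2_rels) = true := by decide +kernel
theorem N2_rel : ∀ w ∈ (sqW [3, 4, 6, 8, 9] ++ N2_rels), ev (netGen N2_nets) w = 1 :=
  SlicesOk.rel (K := 4) ((SlicesOk.zero _ _ _ _).step 4 N2_rel_s0)
    N2_nets_ok (by norm_num)
theorem N2_model : Model 15 N2_nets (imOf [3, 4, 6, 8, 9]) N2_rels := Model.of_rel N2_nets_ok N2_rel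
def N2_t : Tr := (Tr.node (Tr.node (Tr.node (Tr.node (Tr.node Tr.leaf [15] 2 1 0 Tr.leaf) [16] 0 0 0 Tr.leaf) [6] 0 0 0 (Tr.node Tr.leaf [15] 0 2 0 Tr.leaf)) [2] 0 0 0 (Tr.node (Tr.node (Tr.node Tr.leaf [] 1 0 0 Tr.leaf) [3] 0 0 0 Tr.leaf) [12] 0 0 0 (Tr.node Tr.leaf [16] 1 2 0 Tr.leaf))) [0] 0 0 0 (Tr.node (Tr.node (Tr.node (Tr.node Tr.leaf [2] 2 2 0 Tr.leaf) [1] 0 0 0 Tr.leaf) [8] 0 0 0 (Tr.node Tr.leaf [8] 2 1 0 Tr.leaf)) [18] 0 0 0 (Tr.node (Tr.node (Tr.node Tr.leaf [] 2 0 0 Tr.leaf) [15] 0 0 0 Tr.leaf) [14] 0 0 0 (Tr.node Tr.leaf [14] 0 1 0 Tr.leaf))))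
def N2_m0 : ℕ := (nat_lit 0)
def N2_m1 : ℕ := (nat_lit 0)
def N2_m2 : ℕ := (nat_lit 0)
def N2_m3 : ℕ := (nat_lit 0)
def N2_m4 : ℕ := (nat_lit 0)
def N2_m5 : ℕ := (nat_lit 0)
def N2_m6 : ℕ := (nat_lit 0x60)
def N2_m7 : ℕ := (nat_lit 0x2a82)
def N2_m8 : ℕ := (nat_lit 0)
def N2_m9 : ℕ := (nat_lit 0x1504)
def N2_m10 : ℕ := (nat_lit 0x4018)
def N2_p0 : List ℕ := [nat_lit 0x1020003013,
  nat_lit 0x102000d015,
  nat_lit 0x102000f00f,
  nat_lit 0xd00101500d00d,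
  nat_lit 0xd00400500f00100e,
  nat_lit 0xf00b00101900b010,
  nat_lit 0xf00100101a001010,
  nat_lit 0xf00500101c009010,
  nat_lit 0x300f00700701b003010,
  nat_lit 0xf00900401c005010,
  nat_lit 0xf00300300101b007010,
  nat_lit 0x3002006003001004,
  nat_lit 0x4008002009007004,
  nat_lit 0x300b00600d00b004,
  nat_lit 0x3005004005005004,
  nat_lit 0xd00400500f00100e,
  nat_lit 0xd00b00401600700e,
  nat_lit 0xd00500401100500e,
  nat_lit 0xd00b00700401700b00e,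
  nat_lit 0xe00a00201800900e,
  nat_lit 0x1020009009,
  nat_lit 0xe00700101600b00d,
  nat_lit 0xe00200800f00300d,
  nat_lit 0xe00500101100500d,
  nat_lit 0xf00b00101900b010,
  nat_lit 0xf00500101c009010,
  nat_lit 0xd00b00401600700e,
  nat_lit 0x300f00700701b003010,
  nat_lit 0xf00900401c005010,
  nat_lit 0xf00300300101b007010,
  nat_lit 0xd00400100400400500501000300e,
  nat_lit 0x400400500e00300d00f010001004,
  nat_lit 0xb00900b00a01400700a,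
  nat_lit 0x4008002009007004,
  nat_lit 0x300b00600d00b004,
  nat_lit 0xf00100101a001010,
  nat_lit 0x3005004005005004,
  nat_lit 0x1009006007009002,
  nat_lit 0xb00100100800100c,
  nat_lit 0x300900400100400400700b009006,
  nat_lit 0x1020009009,
  nat_lit 0x1005004004005002,
  nat_lit 0x700300b00f00700300b00f00700300101d00f00c,
  nat_lit 0xd00b00700401700b00e,
  nat_lit 0x1700201501f01e,
  nat_lit 0x1700200800f021018,
  nat_lit 0x1700a00201801901e,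
  nat_lit 0x1d00300f00d00300f00d00300f00d00300f01800301e01b021,
  nat_lit 0x1c01a01f01b01901700f00901e01c01a01f01b01901700f00901e01c01a01f01b01900201f023017,
  nat_lit 0x1a02400102002500a,
  nat_lit 0x2500102000d017,
  nat_lit 0xd00400500f00100e,
  nat_lit 0x1004005003003002,
  nat_lit 0x1005004004005002,
  nat_lit 0x1009006007009002,
  nat_lit 0x201000201a00f002,
  nat_lit 0x500e00301100d006,
  nat_lit 0x600300300200300e00601000d004]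
noncomputable def N2 : CE where
  p0 := 0
  F := (Nat.sub (Nat.shiftLeft 1 15) 1)
  masks := [N2_m0, N2_m1, N2_m2, N2_m3, N2_m4, N2_m5, N2_m6, N2_m7, N2_m8, N2_m9, N2_m10]
  gprog := [7, 9, 10, 6, 7, 9, 10]
  cprog := [14, 11]
  sids := [0, 1, 2, 3, 4, 5, 6]
  t0 := N2_t
  s := 12
  progs := [N2_p0]
  O := (Nat.sub (Nat.shiftLeft 1 15) 1)
  yids := [0, 1, 2, 3, 4, 5, 6, 7]
theorem N2_chk : ∃ progs, CE.check { N2 with progs := progs } N2_nets (imOf [3, 4, 6, 8, 9]) N2_rels [[0], [2], [18], [6], [8], [12], [14]] [[0], [2], [18], [6], [8], [12], [14], [16]] = true :=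
  ⟨N2.progs, by decide +kernel⟩
theorem N2_idx {Γ : Type*} [Group Γ] {g : ℕ → Γ} (hi : InvOk g (imOf [3, 4, 6, 8, 9])) (hr : ∀ r ∈ N2_rels, ev g r = 1)
    {H : Subgroup Γ} (hs : ∀ u ∈ ([[0], [2], [18], [6], [8], [12], [14]] : List (List ℕ)), ev g u ∈ H) :
    H.relIndex (gen g [[0], [2], [18], [6], [8], [12], [14], [16]]) ≠ 0 ∧ H.relIndex (gen g [[0], [2], [18], [6], [8], [12], [14], [16]]) ≤ 15 :=
  Reach.relIndex_le N2_model hi hr hs N2_chk (by decide +kernel)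

def B0_nets_n0_0 : ℕ := (nat_lit 0xf000f000f000f00)
def B0_nets_n0_1 : ℕ := (nat_lit 0xf000f000f000f0)
def B0_nets_n0_2 : ℕ := (nat_lit 0xf000f000f000f)
def B0_nets_n1_0 : ℕ := (nat_lit 0xffff00000000)
def B0_nets_n1_1 : ℕ := (nat_lit 0xffff0000)
def B0_nets_n1_2 : ℕ := (nat_lit 0xffff)
def B0_nets_n2_0 : ℕ := (nat_lit 0x3333333333333333)
def B0_nets_n2_1 : ℕ := (nat_lit 0x1111111111111111)
def B0_nets_n9_0 : ℕ := (nat_lit 0x5555555555555555)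
def B0_nets_n0 : Net :=
  (Net.cons B0_nets_n0_0 (nat_lit 4) (Net.cons B0_nets_n0_1 (nat_lit 8) (Net.cons B0_nets_n0_2 (nat_lit 4) Net.nil)))
def B0_nets_n1 : Net :=
  (Net.cons B0_nets_n1_0 (nat_lit 16) (Net.cons B0_nets_n1_1 (nat_lit 32) (Net.cons B0_nets_n1_2 (nat_lit 16) Net.nil)))
def B0_nets_n2 : Net :=
  (Net.cons B0_nets_n2_0 (nat_lit 2) (Net.cons B0_nets_n2_1 (nat_lit 1) Net.nil))
def B0_nets_n9 : Net :=
  (Net.cons B0_nets_n9_0 (nat_lit 1) Net.nil)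
def B0_nets : List Net := [B0_nets_n0, B0_nets_n1, B0_nets_n2, Net.nil, Net.nil, Net.nil, Net.nil, Net.nil, Net.nil, B0_nets_n9]
def B0_rels : List (List ℕ) := [[0, 0, 0, 0],
  [2, 2, 2, 2],
  [4, 4, 18],
  [0, 2, 1, 3],
  [0, 4, 1, 5],
  [2, 4, 3, 5],
  [0, 18, 1, 18],
  [2, 18, 3, 18]]
theorem B0_nets_ok : allL (Net.ok 64) B0_nets = true := by decide +kernel
theorem B0_rel_s0 : relsAt B0_nets 64 6 (List.range' 0 6) (sqW [3, 4, 6, 8, 9] ++ B0_rels) = true := by decide +kernel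
theorem B0_rel : ∀ w ∈ (sqW [3, 4, 6, 8, 9] ++ B0_rels), ev (netGen B0_nets) w = 1 :=
  SlicesOk.rel (K := 6) ((SlicesOk.zero _ _ _ _).step 6 B0_rel_s0)
    B0_nets_ok (by norm_num)
theorem B0_model : Model 64 B0_nets (imOf [3, 4, 6, 8, 9]) B0_rels := Model.of_rel B0_nets_ok B0_rel
def B0_t : Tr := (Tr.node (Tr.node (Tr.node Tr.leaf [18] 0 0 0 Tr.leaf) [2] 0 0 0 (Tr.node Tr.leaf [3] 0 0 0 Tr.leaf)) [0] 0 0 0 (Tr.node (Tr.node Tr.leaf [1] 0 0 0 Tr.leaf) [4] 0 0 0 (Tr.node Tr.leaf [5] 0 0 0 Tr.leaf)))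
def B0_m0 : ℕ := (nat_lit 0x100)
def B0_m1 : ℕ := (nat_lit 0x111100000000)
def B0_m2 : ℕ := (nat_lit 0x8888888888888888)
def B0_m3 : ℕ := (nat_lit 0x2222222222222222)
def B0_m4 : ℕ := (nat_lit 0x1010)
def B0_m5 : ℕ := (nat_lit 0x1111000011110000)
def B0_m6 : ℕ := (nat_lit 0x4444444444444444)
def B0_p0 : List ℕ := [nat_lit 0x1009001009,
  nat_lit 0x100900300b,
  nat_lit 0x100900500d,
  nat_lit 0x1009007007,
  nat_lit 0x5005003005008,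
  nat_lit 0x6006003007006,
  nat_lit 0x1009007007,
  nat_lit 0x7003003005005,
  nat_lit 0x7004003008003008,
  nat_lit 0x5004006006003006,
  nat_lit 0x3003001002003003,
  nat_lit 0x7002003007001008,
  nat_lit 0x5002006005001006,
  nat_lit 0x3002006004001004,
  nat_lit 0x4002003004001003,
  nat_lit 0x1001001001001001,
  nat_lit 0x3002006004001004]
noncomputable def B0 : CE where
  p0 := 0
  F := (Nat.sub (Nat.shiftLeft 1 64) 1)
  masks := [B0_m0, B0_m1, B0_m2, B0_m3, B0_m4, B0_m5, B0_m6]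
  gprog := [0, 1, 2, 3, 4, 5, 6, 1, 2, 3, 4, 5, 6, 1, 2, 3, 5, 6, 2, 3]
  cprog := []
  sids := []
  t0 := B0_t
  s := 12
  progs := [B0_p0]
  O := (Nat.sub (Nat.shiftLeft 1 64) 1)
  yids := [0, 1, 2, 3]
theorem B0_chk : ∃ progs, CE.check { B0 with progs := progs } B0_nets (imOf [3, 4, 6, 8, 9]) B0_rels [] [[0], [2], [4], [18]] = true :=
  ⟨B0.progs, by decide +kernel⟩
theorem B0_idx {Γ : Type*} [Group Γ] {g : ℕ → Γ} (hi : InvOk g (imOf [3, 4, 6, 8, 9])) (hr : ∀ r ∈ B0_rels, ev g r = 1)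
    {H : Subgroup Γ} (hs : ∀ u ∈ ([] : List (List ℕ)), ev g u ∈ H) :
    H.relIndex (gen g [[0], [2], [4], [18]]) ≠ 0 ∧ H.relIndex (gen g [[0], [2], [4], [18]]) ≤ 64 :=
  Reach.relIndex_le B0_model hi hr hs B0_chk (by decide +kernel)

def B1_nets_n3_0 : ℕ := (nat_lit 0x555555)
def B1_nets_n4_0 : ℕ := (nat_lit 0x333333)
def B1_nets_n4_1 : ℕ := (nat_lit 0x500550)
def B1_nets_n5_0 : ℕ := (nat_lit 0x44004)
def B1_nets_n5_1 : ℕ := (nat_lit 0xf)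
def B1_nets_n5_2 : ℕ := (nat_lit 0xff)
def B1_nets_n5_3 : ℕ := (nat_lit 0xf0)
def B1_nets_n5_4 : ℕ := (nat_lit 0x222222)
def B1_nets_n5_5 : ℕ := (nat_lit 0x400440)
def B1_nets_n6_0 : ℕ := (nat_lit 0xf0f0f)
def B1_nets_n3 : Net :=
  (Net.cons B1_nets_n3_0 (nat_lit 1) Net.nil)
def B1_nets_n4 : Net :=
  (Net.cons B1_nets_n4_0 (nat_lit 2) (Net.cons B1_nets_n4_1 (nat_lit 1) Net.nil))
def B1_nets_n5 : Net :=
  (Net.cons B1_nets_n5_0 (nat_lit 1) (Net.cons B1_nets_n5_1 (nat_lit 8) (Net.cons B1_nets_n5_2 (nat_lit 16) (Net.cons B1_nets_n5_3 (nat_lit 8) (Net.cons B1_nets_n5_4 (nat_lit 2) (Net.cons B1_nets_n5_5 (nat_lit 1) Net.nil))))))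
def B1_nets_n6 : Net :=
  (Net.cons B1_nets_n6_0 (nat_lit 4) Net.nil)
def B1_nets : List Net := [Net.nil, Net.nil, Net.nil, B1_nets_n3, B1_nets_n4, B1_nets_n5, B1_nets_n6, Net.nil, Net.nil, Net.nil]
def B1_rels : List (List ℕ) := [[0, 0, 0, 0],
  [2, 2, 2, 2],
  [4, 4, 18],
  [0, 2, 1, 3],
  [0, 4, 1, 5],
  [2, 4, 3, 5],
  [0, 18, 1, 18],
  [2, 18, 3, 18],
  [6, 0, 6, 1],
  [8, 0, 8, 1],
  [10, 0, 11, 1],
  [12, 0, 12, 0],
  [6, 2, 6, 2],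
  [8, 4, 8, 4],
  [8, 18, 8, 18],
  [8, 2, 8, 18, 3, 3, 0, 3],
  [6, 4, 6, 3, 3, 1, 4],
  [6, 18, 6, 1, 1, 18],
  [10, 2, 11, 5],
  [10, 4, 11, 1, 1, 4, 2],
  [12, 2, 12, 3],
  [12, 4, 12, 1, 1, 4, 2],
  [12, 18, 12, 18, 3, 3],
  [6, 8, 6, 8],
  [10, 10, 10],
  [10, 6, 11, 8],
  [10, 8, 11, 8, 6],
  [12, 10, 12, 10],
  [12, 6, 12, 6],
  [12, 8, 12, 8, 6]]
theorem B1_nets_ok : allL (Net.ok 24) B1_nets = true := by decide +kernel
theorem B1_rel_s0 : relsAt B1_nets 24 5 (List.range' 0 5) (sqW [3, 4, 6, 8, 9] ++ B1_rels) = true := by decide +kernel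
theorem B1_rel : ∀ w ∈ (sqW [3, 4, 6, 8, 9] ++ B1_rels), ev (netGen B1_nets) w = 1 :=
  SlicesOk.rel (K := 5) ((SlicesOk.zero _ _ _ _).step 5 B1_rel_s0)
    B1_nets_ok (by norm_num)
theorem B1_model : Model 24 B1_nets (imOf [3, 4, 6, 8, 9]) B1_rels := Model.of_rel B1_nets_ok B1_rel
def B1_t : Tr := (Tr.node (Tr.node (Tr.node (Tr.node Tr.leaf [12] 0 0 0 Tr.leaf) [18] 0 0 0 (Tr.node Tr.leaf [11] 0 0 0 Tr.leaf)) [2] 0 0 0 (Tr.node (Tr.node Tr.leaf [3] 0 0 0 Tr.leaf) [8] 0 0 0 Tr.leaf)) [0] 0 0 0 (Tr.node (Tr.node (Tr.node Tr.leaf [1] 0 0 0 Tr.leaf) [6] 0 0 0 Tr.leaf) [4] 0 0 0 (Tr.node (Tr.node Tr.leaf [5] 0 0 0 Tr.leaf) [10] 0 0 0 Tr.leaf)))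
def B1_m0 : ℕ := (nat_lit 0)
def B1_m1 : ℕ := (nat_lit 0)
def B1_m2 : ℕ := (nat_lit 0)
def B1_m3 : ℕ := (nat_lit 0)
def B1_m4 : ℕ := (nat_lit 0x20002)
def B1_m5 : ℕ := (nat_lit 0x88c)
def B1_m6 : ℕ := (nat_lit 0xd0000)
def B1_m7 : ℕ := (nat_lit 0xf0f070)
def B1_m8 : ℕ := (nat_lit 0)
def B1_m9 : ℕ := (nat_lit 0)
def B1_m10 : ℕ := (nat_lit 0)
def B1_m11 : ℕ := (nat_lit 0x700)
def B1_p0 : List ℕ := [nat_lit 0x101f009009,
  nat_lit 0x101f00b00b,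
  nat_lit 0x101f00d017,
  nat_lit 0x101f00f00f,
  nat_lit 0xf00d00101c00d010,
  nat_lit 0xf00900101d009010,
  nat_lit 0xd00101900d00d,
  nat_lit 0xb00900201800900c,
  nat_lit 0xd00b00401a00900e,
  nat_lit 0xa00200500900100a,
  nat_lit 0x10004005015003010,
  nat_lit 0xf00100100c001010,
  nat_lit 0x900300100d00300a,
  nat_lit 0xc00200500a00100c,
  nat_lit 0xd00200500b00100e,
  nat_lit 0xb00200500a00100c,
  nat_lit 0xe00200800b00100d,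
  nat_lit 0xe00400801300500d,
  nat_lit 0xf00b00900401e00b010,
  nat_lit 0x101f00b00b,
  nat_lit 0xe00900101a00b00d,
  nat_lit 0xf00900101d009010,
  nat_lit 0xc00e00301a00d00a,
  nat_lit 0xb00900f00601e00f00c,
  nat_lit 0xd00b00900401b00b00e,
  nat_lit 0x101f00b00b,
  nat_lit 0xb00500100e00500c,
  nat_lit 0xb00700100f00700c,
  nat_lit 0xd00600501300300e,
  nat_lit 0xb00900201800900c,
  nat_lit 0x6006003007006,
  nat_lit 0xf00100100c001010,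
  nat_lit 0x900200500900100a,
  nat_lit 0xf004005015003010,
  nat_lit 0x900100100700401200700a,
  nat_lit 0xb00e00301a00d00a,
  nat_lit 0xf007003003004017007010,
  nat_lit 0x10003005002002005016005010,
  nat_lit 0x200400400a00500101100500a,
  nat_lit 0xe00400801300500d,
  nat_lit 0xb00400100400400700501000300c,
  nat_lit 0xb00500100e00500c,
  nat_lit 0xb00700100f00700c,
  nat_lit 0xe00400801300500d,
  nat_lit 0x6006003007006,
  nat_lit 0xd00600501300300e]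
noncomputable def B1 : CE where
  p0 := 0
  F := (Nat.sub (Nat.shiftLeft 1 24) 1)
  masks := [B1_m0, B1_m1, B1_m2, B1_m3, B1_m4, B1_m5, B1_m6, B1_m7, B1_m8, B1_m9, B1_m10, B1_m11]
  gprog := [4, 5, 6, 7, 11, 4, 5, 7]
  cprog := []
  sids := [0, 1, 2, 3]
  t0 := B1_t
  s := 12
  progs := [B1_p0]
  O := (Nat.sub (Nat.shiftLeft 1 24) 1)
  yids := [0, 1, 2, 3, 4, 5, 6, 7]
theorem B1_chk : ∃ progs, CE.check { B1 with progs := progs } B1_nets (imOf [3, 4, 6, 8, 9]) B1_rels [[0], [2], [4], [18]] [[0], [2], [4], [18], [6], [8], [10], [12]] = true :=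
  ⟨B1.progs, by decide +kernel⟩
theorem B1_idx {Γ : Type*} [Group Γ] {g : ℕ → Γ} (hi : InvOk g (imOf [3, 4, 6, 8, 9])) (hr : ∀ r ∈ B1_rels, ev g r = 1)
    {H : Subgroup Γ} (hs : ∀ u ∈ ([[0], [2], [4], [18]] : List (List ℕ)), ev g u ∈ H) :
    H.relIndex (gen g [[0], [2], [4], [18], [6], [8], [10], [12]]) ≠ 0 ∧ H.relIndex (gen g [[0], [2], [4], [18], [6], [8], [10], [12]]) ≤ 24 :=
  Reach.relIndex_le B1_model hi hr hs B1_chk (by decide +kernel)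

def B2_nets_n3_0 : ℕ := (nat_lit 0x28)
def B2_nets_n4_0 : ℕ := (nat_lit 0xa)
def B2_nets_n5_0 : ℕ := (nat_lit 0x6)
def B2_nets_n5_1 : ℕ := (nat_lit 0x6)
def B2_nets_n6_0 : ℕ := (nat_lit 0x18)
def B2_nets_n7_0 : ℕ := (nat_lit 0x9)
def B2_nets_n7_1 : ℕ := (nat_lit 0x9)
def B2_nets_n3 : Net :=
  (Net.cons B2_nets_n3_0 (nat_lit 1) Net.nil)
def B2_nets_n4 : Net :=
  (Net.cons B2_nets_n4_0 (nat_lit 1) Net.nil)
def B2_nets_n5 : Net :=
  (Net.cons B2_nets_n5_0 (nat_lit 2) (Net.cons B2_nets_n5_1 (nat_lit 4) Net.nil))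
def B2_nets_n6 : Net :=
  (Net.cons B2_nets_n6_0 (nat_lit 2) Net.nil)
def B2_nets_n7 : Net :=
  (Net.cons B2_nets_n7_0 (nat_lit 1) (Net.cons B2_nets_n7_1 (nat_lit 2) Net.nil))
def B2_nets : List Net := [Net.nil, Net.nil, Net.nil, B2_nets_n3, B2_nets_n4, B2_nets_n5, B2_nets_n6, B2_nets_n7, Net.nil, Net.nil]
def B2_rels : List (List ℕ) := [[0, 0, 0, 0],
  [2, 2, 2, 2],
  [4, 4, 18],
  [0, 2, 1, 3],
  [0, 4, 1, 5],
  [2, 4, 3, 5],
  [0, 18, 1, 18],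
  [2, 18, 3, 18],
  [6, 0, 6, 1],
  [8, 0, 8, 1],
  [10, 0, 11, 1],
  [12, 0, 12, 0],
  [6, 2, 6, 2],
  [8, 4, 8, 4],
  [8, 18, 8, 18],
  [8, 2, 8, 18, 3, 3, 0, 3],
  [6, 4, 6, 3, 3, 1, 4],
  [6, 18, 6, 1, 1, 18],
  [10, 2, 11, 5],
  [10, 4, 11, 1, 1, 4, 2],
  [12, 2, 12, 3],
  [12, 4, 12, 1, 1, 4, 2],
  [12, 18, 12, 18, 3, 3],
  [14, 0, 15, 3],
  [14, 2, 15, 18, 3, 3, 0, 3],
  [14, 4, 15, 5],
  [14, 18, 15, 18],
  [6, 8, 6, 8],
  [10, 10, 10],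
  [10, 6, 11, 8],
  [10, 8, 11, 8, 6],
  [12, 10, 12, 10],
  [12, 6, 12, 6],
  [12, 8, 12, 8, 6],
  [14, 14, 14],
  [14, 6, 15, 12],
  [14, 12, 15, 12, 6],
  [8, 14, 8, 14],
  [10, 14, 6, 10, 14, 6, 10, 14, 6, 10, 14, 6, 10, 14, 6, 10, 14, 6, 10, 14, 6],
  [12, 10, 8, 14, 12, 10, 8, 14, 12, 10, 8, 14, 12, 10, 8, 14, 12, 10, 8, 14, 12, 10, 8, 14, 12, 10, 8, 14, 12, 10, 8, 14],
  [12, 11, 8, 15, 12, 11, 8, 15, 12, 11, 8, 15]]
theorem B2_nets_ok : allL (Net.ok 7) B2_nets = true := by decide +kernel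
theorem B2_rel_s0 : relsAt B2_nets 7 3 (List.range' 0 3) (sqW [3, 4, 6, 8, 9] ++ B2_rels) = true := by decide +kernel
theorem B2_rel : ∀ w ∈ (sqW [3, 4, 6, 8, 9] ++ B2_rels), ev (netGen B2_nets) w = 1 :=
  SlicesOk.rel (K := 3) ((SlicesOk.zero _ _ _ _).step 3 B2_rel_s0)
    B2_nets_ok (by norm_num)
theorem B2_model : Model 7 B2_nets (imOf [3, 4, 6, 8, 9]) B2_rels := Model.of_rel B2_nets_ok B2_rel
def B2_t : Tr := (Tr.node (Tr.node (Tr.node (Tr.node Tr.leaf [12] 0 0 0 Tr.leaf) [18] 0 0 0 (Tr.node Tr.leaf [5] 0 0 0 Tr.leaf)) [2] 0 0 0 (Tr.node (Tr.node Tr.leaf [1] 0 0 0 Tr.leaf) [8] 0 0 0 (Tr.node Tr.leaf [15] 0 0 0 Tr.leaf))) [0] 0 0 0 (Tr.node (Tr.node (Tr.node Tr.leaf [14] 0 0 0 Tr.leaf) [6] 0 0 0 (Tr.node Tr.leaf [11] 0 0 0 Tr.leaf)) [4] 0 0 0 (Tr.node (Tr.node Tr.leaf [3] 0 0 0 Tr.leaf) [10] 0 0 0 Tr.leaf)))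
def B2_m0 : ℕ := (nat_lit 0)
def B2_m1 : ℕ := (nat_lit 0)
def B2_m2 : ℕ := (nat_lit 0)
def B2_m3 : ℕ := (nat_lit 0)
def B2_m4 : ℕ := (nat_lit 0)
def B2_m5 : ℕ := (nat_lit 0)
def B2_m6 : ℕ := (nat_lit 0x60)
def B2_m7 : ℕ := (nat_lit 0)
def B2_m8 : ℕ := (nat_lit 0x4)
def B2_m9 : ℕ := (nat_lit 0)
def B2_m10 : ℕ := (nat_lit 0)
def B2_m11 : ℕ := (nat_lit 0)
def B2_m12 : ℕ := (nat_lit 0x18)
def B2_m13 : ℕ := (nat_lit 0x2)
def B2_p0 : List ℕ := [nat_lit 0x102a00d019,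
  nat_lit 0x102a01101b,
  nat_lit 0xd00101d00d00d,
  nat_lit 0x11004005018001012,
  nat_lit 0x1100600501a005012,
  nat_lit 0x11001023011011,
  nat_lit 0x1100700401b007012,
  nat_lit 0x1100f004024009012,
  nat_lit 0x1200c00202600b012,
  nat_lit 0x102a00b00b,
  nat_lit 0x12002008018003011,
  nat_lit 0x1200600801a005011,
  nat_lit 0x1200700101b007011,
  nat_lit 0x1200900102400f011,
  nat_lit 0x1100f00900402500f012,
  nat_lit 0x11004001004004007005019003012,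
  nat_lit 0xd00600501300300e,
  nat_lit 0xd00b00401e00900e,
  nat_lit 0xe01000202000f00e,
  nat_lit 0x102a00f00f,
  nat_lit 0xe00400801300500d,
  nat_lit 0xc00200500a00100c,
  nat_lit 0xd00200500b00100e,
  nat_lit 0xb00900201c00900c,
  nat_lit 0xe00200800b00100d,
  nat_lit 0xe00900101e00b00d,
  nat_lit 0xd00b00900401f00b00e,
  nat_lit 0xd00300500200200501400500e,
  nat_lit 0x6006003007006,
  nat_lit 0xf004005015003010,
  nat_lit 0xf009001021009010,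
  nat_lit 0xf00d00b01100f00d00b01100f00d00802901100c,
  nat_lit 0x1001200302401100a,
  nat_lit 0xf009012006025011010]
noncomputable def B2 : CE where
  p0 := 0
  F := (Nat.sub (Nat.shiftLeft 1 7) 1)
  masks := [B2_m0, B2_m1, B2_m2, B2_m3, B2_m4, B2_m5, B2_m6, B2_m7, B2_m8, B2_m9, B2_m10, B2_m11, B2_m12, B2_m13]
  gprog := [8, 12, 13, 6, 12]
  cprog := []
  sids := [0, 1, 2, 3, 4, 5, 6, 7]
  t0 := B2_t
  s := 12
  progs := [B2_p0]
  O := (Nat.sub (Nat.shiftLeft 1 7) 1)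
  yids := [0, 1, 2, 3, 4, 5, 6, 7, 8]
theorem B2_chk : ∃ progs, CE.check { B2 with progs := progs } B2_nets (imOf [3, 4, 6, 8, 9]) B2_rels [[0], [2], [4], [18], [6], [8], [10], [12]] [[0], [2], [4], [18], [6], [8], [10], [12], [14]] = true :=
  ⟨B2.progs, by decide +kernel⟩
theorem B2_idx {Γ : Type*} [Group Γ] {g : ℕ → Γ} (hi : InvOk g (imOf [3, 4, 6, 8, 9])) (hr : ∀ r ∈ B2_rels, ev g r = 1)
    {H : Subgroup Γ} (hs : ∀ u ∈ ([[0], [2], [4], [18], [6], [8], [10], [12]] : List (List ℕ)), ev g u ∈ H) :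
    H.relIndex (gen g [[0], [2], [4], [18], [6], [8], [10], [12], [14]]) ≠ 0 ∧ H.relIndex (gen g [[0], [2], [4], [18], [6], [8], [10], [12], [14]]) ≤ 7 :=
  Reach.relIndex_le B2_model hi hr hs B2_chk (by decide +kernel)

def chainL : List Lev := [⟨0, [[0], [2], [4], [5], [6], [8], [9]], [0, 1, 2, 4, 5, 2, 5, 2, 0], 84⟩,
  ⟨1, [[0, 9, 4, 8]], [0], 2⟩]
theorem chainL_ok : chainB M0_nets (imOf [3, 4, 6, 8, 9]) 8 [[6], [8], [10], [12], [14]] chainL [] = true := by decide +kernel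

def chainN : List Lev := [⟨0, [[0], [1], [2], [3], [4], [6], [8], [10], [12], [13], [14]], [0, 2, 4, 5, 7, 10, 5, 2], 96⟩,
  ⟨1, [[0, 10, 12], [2, 14, 3, 0], [8, 13, 14, 3]], [0, 1, 0, 2, 0, 2, 0, 1], 60⟩,
  ⟨2, [[0, 6, 8, 2, 2]], [0], 2⟩]
theorem chainN_ok : chainB M0_nets (imOf [3, 4, 6, 8, 9]) 8 [[0], [2], [18], [6], [8], [12], [14], [16]] chainN [] = true := by decide +kernel

def chainT : List Lev := [⟨0, [[0], [1], [2], [3], [4], [5], [6], [8], [10], [12], [13], [14], [16], [17], [18]], [0, 2, 6, 7, 9, 11, 14, 9, 12, 0], 176⟩,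
  ⟨1, [[0, 12, 16], [0, 14, 16], [2, 18, 5]], [0, 1, 2, 0, 2, 1, 2, 0, 1, 2, 0, 0], 175⟩,
  ⟨4, [[1, 17, 13, 18, 17], [4, 18, 16, 18, 4]], [0, 1, 0, 0, 1, 0, 1, 0, 0, 1, 0, 0, 1], 90⟩,
  ⟨9, [[8, 16, 18, 8, 6, 13, 17], [2, 8, 12, 18, 16, 12, 18, 16, 2], [18, 4, 8, 16, 13, 18, 4, 17, 18]], [0, 1, 2, 0, 2], 16⟩]
theorem chainT_ok : chainB M0_nets (imOf [3, 4, 6, 8, 9]) 8 [[0], [2], [4], [18], [6], [8], [10], [12], [14], [16]] chainT [] = true := by decide +kernel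

section
variable {Γ : Type*} [Group Γ] {g : ℕ → Γ} (hi : InvOk g (imOf [3, 4, 6, 8, 9])) (hr : ∀ r ∈ rels, ev g r = 1)
include hi hr

theorem L0_bound : Bound g [[6], [8], [10], [12]] 24 :=
  Bound.of_idx (n := 24) (m := 1) (bound_nil g)
    (L0_idx hi (conseq_sound hi hr (hs := [27649, 28673, 29697, 30721, 31745, 32769, 33793]) (by decide +kernel)))

theorem L1_bound : Bound g [[6], [8], [10], [12], [14]] 168 :=
  Bound.of_idx (n := 7) (m := 24) (L0_bound hi hr)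
    (L1_idx hi (conseq_sound hi hr (hs := [27649, 28673, 29697, 30721, 31745, 32769, 33793, 34817, 35841, 36865, 37889, 45057, 46081]) (by decide +kernel)))

theorem N0_bound : Bound g [[0], [2], [18]] 32 :=
  Bound.of_idx (n := 32) (m := 1) (bound_nil g)
    (N0_idx hi (conseq_sound hi hr (hs := [1, 1025, 3073, 6145, 7169]) (by decide +kernel)))

theorem N1_bound : Bound g [[0], [2], [18], [6], [8], [12], [14]] 768 :=
  Bound.of_idx (n := 24) (m := 32) (N0_bound hi hr)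
    (N1_idx hi (conseq_sound hi hr (hs := [1, 1025, 3073, 6145, 7169, 8193, 9217, 11265, 12289, 14337, 15361, 17409, 20481, 22529, 23553, 24577, 26625, 27649, 32769, 33793, 34817, 35841, 36865, 37889]) (by decide +kernel)))

theorem N2_bound : Bound g [[0], [2], [18], [6], [8], [12], [14], [16]] 11520 :=
  Bound.of_idx (n := 15) (m := 768) (N1_bound hi hr)
    (N2_idx hi (conseq_sound hi hr (hs := [1, 1025, 3073, 6145, 7169, 8193, 9217, 11265, 12289, 14337, 15361, 17409, 20481, 22529, 23553, 24577, 26625, 27649, 32769, 33793, 34817, 35841, 36865, 37889, 39937, 40961, 41985, 43009, 44033, 47105, 48129]) (by decide +kernel)))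

end

section
variable {Γ : Type*} [Group Γ] {g : ℕ → Γ} (hi : InvOk g (imOf [3, 4, 6, 8, 9])) (hr : ∀ r ∈ rels, ev g r = 1)
include hi hr

theorem extra_rel : ∀ r ∈ (rels ++ mapL (expand (imOf [3, 4, 6, 8, 9]) [[6], [8], [10], [12], [14]]) [[6, 5, 2, 9, 6, 5, 2, 9, 6, 5, 2, 9]]) ++ mapL (expand (imOf [3, 4, 6, 8, 9]) [[0], [2], [18], [6], [8], [12], [14], [16]]) [[14, 8, 12, 14, 8, 12, 14, 8, 12, 14, 8, 12, 10]], ev g r = 1 :=
  rels_append (rels_append hr (M0_model.rel_of_bound hi (L1_bound (hi.prod M0_model.inv) (M0_model.prod_rel hr)) chainL_ok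
    (by decide) (by decide +kernel)))
    (M0_model.rel_of_bound hi (N2_bound (hi.prod M0_model.inv) (M0_model.prod_rel hr)) chainN_ok
    (by decide) (by decide +kernel))

theorem B0_bound : Bound g [[0], [2], [4], [18]] 64 :=
  Bound.of_idx (n := 64) (m := 1) (bound_nil g)
    (B0_idx hi (conseq_sound hi (extra_rel hi hr) (hs := [1, 1025, 2049, 3073, 4097, 5121, 6145, 7169]) (by decide +kernel)))

theorem B1_bound : Bound g [[0], [2], [4], [18], [6], [8], [10], [12]] 1536 :=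
  Bound.of_idx (n := 24) (m := 64) (B0_bound hi hr)
    (B1_idx hi (conseq_sound hi (extra_rel hi hr) (hs := [1, 1025, 2049, 3073, 4097, 5121, 6145, 7169, 8193, 9217, 10241, 11265, 12289, 13313, 14337, 15361, 16385, 17409, 18433, 19457, 20481, 21505, 22529, 27649, 28673, 29697, 30721, 31745, 32769, 33793]) (by decide +kernel)))

theorem B2_bound : Bound g [[0], [2], [4], [18], [6], [8], [10], [12], [14]] 10752 :=
  Bound.of_idx (n := 7) (m := 1536) (B1_bound hi hr)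
    (B2_idx hi (conseq_sound hi (extra_rel hi hr) (hs := [1, 1025, 2049, 3073, 4097, 5121, 6145, 7169, 8193, 9217, 10241, 11265, 12289, 13313, 14337, 15361, 16385, 17409, 18433, 19457, 20481, 21505, 22529, 23553, 24577, 25601, 26625, 27649, 28673, 29697, 30721, 31745, 32769, 33793, 34817, 35841, 36865, 37889, 45057, 46081, 49153]) (by decide +kernel)))

theorem B3_bound : Bound g [[0], [2], [4], [18], [6], [8], [10], [12], [14], [16]] 44352000 :=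
  Bound.of_idx (n := 4125) (m := 10752) (B2_bound hi hr)
    (B3_idx hi (conseq_sound hi (extra_rel hi hr) (hs := [1, 1025, 2049, 3073, 4097, 5121, 6145, 7169, 8193, 9217, 10241, 11265, 12289, 13313, 14337, 15361, 16385, 17409, 18433, 19457, 20481, 21505, 22529, 23553, 24577, 25601, 26625, 27649, 28673, 29697, 30721, 31745, 32769, 33793, 34817, 35841, 36865, 37889, 38913, 39937, 40961, 41985, 43009, 44033, 45057, 46081, 47105, 48129, 49153, 50177]) (by decide +kernel)))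

end

section
variable {Γ : Type*} [Group Γ] {g : ℕ → Γ} (hi : InvOk g (imOf [3, 4, 6, 8, 9])) (hr : ∀ r ∈ rels, ev g r = 1)
include hi hr

theorem more_rel : ∀ r ∈ ([[15, 8, 16, 2, 10, 3, 16, 8, 14, 6, 2, 15, 8, 16, 2, 11, 3, 16, 8, 14, 3, 6],
  [15, 8, 16, 2, 10, 3, 16, 8, 14, 0, 0, 2, 2, 15, 8, 16, 2, 11, 3, 16, 8, 14, 3, 3, 1, 1],
  [1, 14, 16, 15, 16, 2, 10, 3, 16, 14, 16, 15, 0, 6, 2, 1, 14, 16, 15, 16, 2, 11, 3, 16, 14, 16, 15, 0, 3, 6],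
  [15, 8, 16, 2, 10, 3, 16, 8, 14, 1, 14, 16, 15, 16, 2, 10, 3, 16, 14, 16, 15, 0, 15, 8, 16, 2, 11, 3, 16, 8, 14, 1, 14, 16, 15, 16, 2, 11, 3, 16, 14, 16, 15, 0],
  [0, 0, 2, 2, 1, 14, 16, 15, 16, 2, 10, 3, 16, 14, 16, 15, 0, 0, 0, 2, 2, 1, 14, 16, 15, 16, 2, 10, 3, 16, 14, 16, 15, 0]] : List (List ℕ)), ev g r = 1 :=
  conseq_sound hi (M0_model.rel_of_bound (ws := [[17, 10, 18, 2, 12, 3, 18, 10, 16, 8, 2, 17, 10, 18, 2, 13, 3, 18, 10, 16, 3, 8],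
  [17, 10, 18, 2, 12, 3, 18, 10, 16, 0, 0, 2, 2, 17, 10, 18, 2, 13, 3, 18, 10, 16, 3, 3, 1, 1],
  [1, 16, 18, 17, 18, 2, 12, 3, 18, 16, 18, 17, 0, 8, 2, 1, 16, 18, 17, 18, 2, 13, 3, 18, 16, 18, 17, 0, 3, 8],
  [17, 10, 18, 2, 12, 3, 18, 10, 16, 1, 16, 18, 17, 18, 2, 12, 3, 18, 16, 18, 17, 0, 17, 10, 18, 2, 13, 3, 18, 10, 16, 1, 16, 18, 17, 18, 2, 13, 3, 18, 16, 18, 17, 0],
  [0, 0, 2, 2, 1, 16, 18, 17, 18, 2, 12, 3, 18, 16, 18, 17, 0, 0, 0, 2, 2, 1, 16, 18, 17, 18, 2, 12, 3, 18, 16, 18, 17, 0]]) hi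
    (B3_bound (hi.prod M0_model.inv) (M0_model.prod_rel hr)) chainT_ok
    (by decide) (by decide +kernel)) (hs := [1, 1025, 2049, 3073, 4097]) (by decide +kernel)

end

end CfsgLib.W2.HS
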