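import Mathlib

/-!
A computable model of the four groups `2^(1+4)_- . S₄` in which `S₄` acts faithfully: `EM` is the
extraspecial group, `SM` is `S₄`, `HM α β` the extension with cocycle `α c₁ + β c₂`.
-/

set_option autoImplicit false

namespace CfsgLib.W2.L34

/-- The number `b₀ + 2 b₁ + 4 b₂ + 8 b₃ + 16 b₄` is `z ^ b₄ t₁ ^ b₀ t₂ ^ b₁ t₃ ^ b₂ t₄ ^ b₃`. -/
def EM : Type := Fin 32

/-- The number `i + 2 j + 6 k` is `[1, a] i * [1, b, b a] j * [1, c, c b, c b a] k`. -/
def SM : Type := Fin 24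

namespace EM

instance : DecidableEq EM := inferInstanceAs (DecidableEq (Fin 32))
instance : Fintype EM := inferInstanceAs (Fintype (Fin 32))
instance decAll (P : EM → Prop) [h : DecidablePred P] : Decidable (∀ x, P x) :=
  @Nat.decidableForallFin 32 P h
instance decEx (P : EM → Prop) [h : DecidablePred P] : Decidable (∃ x, P x) :=
  @Nat.decidableExistsFin 32 P h

/-- The element with a given number. -/
def o (n : ℕ) : EM := ⟨Nat.mod n 32, Nat.mod_lt _ (by decide)⟩

/-- The number of an element. -/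
def v (a : EM) : ℕ := Fin.val (n := 32) a

/-- The multiplication table. -/
def mT : ℕ := 0x4453a16c74655be37cf80643254d7c274b675df0c072a92e64e17aeb3ee882622d0f6ca36a6f1fe94e1131c85d6f1973d8d10c01b5e9552d09f7f9d9ca30398a4deb387b9ac18820bdab45a928ffbbc216d784443637dfc654ba54c700653e75cf4275b292f68c0626b3fece16aad0e608272ef1ee4a37ab1c9514e01f3d9d56f0935e8590c1177f8dd2d19b98b41ca20fb9bc5eb283daa4988307fbacda938c654be75cf84443a54c74275b637df00653216d7ce16aef1ee8c062ad0e64a37a6b3fe08272292f656f0977f8d14e0135e85d2d19f3d9d90c11b1c955eb287fbac1ca203daa4da938fb9bc98830b98b4e37cfc274ba16c780643675df4655b254d704453eb3eeca36aa92e6882626f1fe4e17a2d0f60c07273d8d52d0931c8510c01f7f9dd6f19b5e9594e117b9ac5a928398a418820ffbbcdeb38bdab49ca3080643254d7c274b675df04453a16c74655be37cf882622d0f6ca36a6f1fe0c072a92e64e17aeb3ee10c01b5e9552d09f7f9d94e1131c85d6f1973d8d18820bdab45a928ffbbc9ca30398a4deb387b9aca54c700653e75cf4275b216d784443637dfc654bad0e608272ef1ee4a37a292f68c0626b3fece16a35e8590c1177f8dd2d19b1c9514e01f3d9d56f093daa4988307fbacda938b98b41ca20fb9bc5eb284275b637df00653216d7c654be75cf84443a54c74a37a6b3fe08272292f6ce16aef1ee8c062ad0e6d2d19f3d9d90c11b1c9556f0977f8d14e0135e85da938fb9bc98830b98b45eb287fbac1ca203daa4675df4655b254d704453e37cfc274ba16c7806436f1fe4e17a2d0f60c072eb3eeca36aa92e688262f7f9dd6f19b5e9594e1173d8d52d0931c8510c01ffbbcdeb38bdab49ca307b9ac5a928398a418820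

instance : Mul EM := ⟨fun a b => o (Nat.shiftRight mT (Nat.mul 5 (Nat.add (Nat.mul 32 a.v) b.v)))⟩
instance : Inv EM := ⟨fun a => o (Nat.shiftRight 0xfb9ac5a938398b41ca307fbbcdeb28bdaa498820 (Nat.mul 5 a.v))⟩
instance : One EM := ⟨o 0⟩
instance : Group EM :=
  Group.ofLeftAxioms (by decide +kernel) (by decide +kernel) (by decide +kernel)

theorem card_eq : Nat.card EM = 32 := Nat.card_fin 32

end EM

namespace SM

instance : DecidableEq SM := inferInstanceAs (DecidableEq (Fin 24))
instance : Fintype SM := inferInstanceAs (Fintype (Fin 24))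
instance decAll (P : SM → Prop) [h : DecidablePred P] : Decidable (∀ x, P x) :=
  @Nat.decidableForallFin 24 P h
instance decEx (P : SM → Prop) [h : DecidablePred P] : Decidable (∃ x, P x) :=
  @Nat.decidableExistsFin 24 P h

/-- The element with a given number. -/
def o (n : ℕ) : SM := ⟨Nat.mod n 24, Nat.mod_lt _ (by decide)⟩

/-- The number of an element. -/
def v (a : SM) : ℕ := Fin.val (n := 24) a

/-- The multiplication table. -/
def mT : ℕ := 0x184c43827249541b4b38592f5d63709c6d4bc062cd75130928dd0e552161200e3308a0d0f22c0766cd714ddf51a42f3b4ab054d32445764950459d4228b05c4481d937038347d4cc3c9b32ac915406915d160bc15750ed34d9230182720e19128a68e65b41e9aaef1385a37a4c0996ab60a44bc5c8a2ad0409c061944a0647816c39b62bba6af48de169d65a8266892e29320ab228e512058ad02b0ee970281abd8691e6d5962482923b8ac8786a0a39a799a4c638c800a543a8249d9b0196b77c52b6bce908e7532c0595d91112967410a731061029251c81b4e0d28ef58bd697b527186b3598a0bca2c20ad4839488454b216d742443a55cf00653634c78c16a292f64a062ad1ee082726b0e695276add8e6c1f1320ea4ac02090659d657a59af645d03a4cb4282301444a4ad3bd5cc8362f419475a440204a3acef2b51ed8b20e49d665206128082b5e9594e1173d8d52d0931c8510c01bdab49ca307b9ac5a928398a418820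

instance : Mul SM := ⟨fun a b => o (Nat.mod (Nat.shiftRight mT (Nat.mul 5 (Nat.add (Nat.mul 24 a.v) b.v))) 32)⟩
instance : Inv SM := ⟨fun a => o (Nat.mod (Nat.shiftRight 0xbc6af5a6d0a39489b64c398a320820 (Nat.mul 5 a.v)) 32)⟩
instance : One SM := ⟨o 0⟩
instance : Group SM :=
  Group.ofLeftAxioms (by decide +kernel) (by decide +kernel) (by decide +kernel)

theorem card_eq : Nat.card SM = 24 := Nat.card_fin 24

end SM

/-- The table of the action. -/
def aT : ℕ := 0xf9d636953171952653107df73ed721f5b42e11007df73719526953165310f9d63f5b42ed721e11007dda558d31f599454b10f9fb5dcf2171b84d0900f9dc6dcd52ed5944c7107dfd658f4269784c8500f9fb5f599458d3154b107dda571b84dcf21d09007dfd6ed594dcd524c710f9dc66978458f42c85007ace3ea4b1f28d2e6290feef36e6a176ac262080feef3f28d2ea4b1e62907ace376ac26e6a162080fb6e5da471732d4d62507f4f55e661f70c4520407b8e65aa726b2b4ce230ffaf6de862ef0a44a0207f4f5732d4da471d6250fb6e5f70c45e66152040ffaf66b2b45aa72ce2307b8e6ef0a4de8624a020fefa938cb176b9834a907adb9bcea1f2988b08807afcabccd26e7982c690fedda38ec2ea588a84807f769b9471f7358b5250fb5793d6617314831040ff96a39a72ef338ad2307bb7abd8626b12829020fb5cc3d6d45e7581c6507f7dcb94c4da548984407b9acbdab4deb389ca30ffbbc398a45a928188207adb976b9838cb134a90fefa9f2988bcea1b0880fedda6e798bccd22c6907afcaea58838ec2a8480fb579f7358b9471b52507f769731483d661310407bb7aef33839a72ad230ff96a6b128bd862290207f7dc5e7583d6d41c650fb5ccda548b94c498440ffbbcdeb38bdab49ca307b9ac5a928398a418820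

/-- `S₄` permutes `t₁, …, t₄`. -/
def act (s : SM) (e : EM) : EM := EM.o (Nat.shiftRight aT (Nat.mul 5 (Nat.add (Nat.mul 32 s.v) e.v)))

/-- The table of the cocycle. -/
def cT (α β : Bool) : ℕ :=
  cond α (cond β 0xc9fa06350ac6e542f21a17f2e6ef0635a23293a05c6f509c8fd4a4707ea48c8a5c6f0464a999c056ccc0fccc6a03666afc33c056996acb2cb218618692492471c71caaaaaa000000
    0x52b672ae46b27e0e86815b867da372aeee46f42ce408dc24e8581c17f21ceb06e40888dc333f6acc6a6a666ac099c0c066956acc3fc0cb2cb218618692492471c71caaaaaa000000)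
    (cond β 0x9b4c749b4c749b4c749b4c749b4c749b4c74678cb8678cb8678cb8678cb8678cb8678cb89aa6aa9aa6aa9aa6aa9aa6aa9aa6aa9aa6aa000000000000000000000000000000000000 0)

/-- The cocycle. -/
def coc (α β : Bool) (s t : SM) : EM := EM.o (Nat.mul 16 (Nat.shiftRight (cT α β) (Nat.add (Nat.mul 24 s.v) t.v)))

theorem act_mul : ∀ s a b, act s (a * b) = act s a * act s b := by decide +kernel
theorem mul_act : ∀ s t a, act (s * t) a = act s (act t a) := by decide +kernel
theorem one_act : ∀ a, act 1 a = a := by decide +kernel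
theorem act_one : ∀ s, act s 1 = 1 := by decide +kernel
theorem coc_cases : ∀ α β s t, coc α β s t = 1 ∨ coc α β s t = EM.o 16 := by decide +kernel
theorem coc_one : ∀ α β s, coc α β 1 s = 1 := by decide +kernel
theorem coc_coc : ∀ α β s t u,
    coc α β s t * coc α β (s * t) u = coc α β t u * coc α β s (t * u) := by decide +kernel
theorem z_comm : ∀ a : EM, EM.o 16 * a = a * EM.o 16 := by decide +kernel
theorem act_z : ∀ s, act s (EM.o 16) = EM.o 16 := by decide +kernel

theorem coc_comm (α β : Bool) (s t : SM) (a : EM) : coc α β s t * a = a * coc α β s t := by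
  rcases coc_cases α β s t with h | h <;> rw [h]
  exacts [by simp, z_comm a]

theorem act_coc (α β : Bool) (s t u : SM) : act s (coc α β t u) = coc α β t u := by
  rcases coc_cases α β t u with h | h <;> rw [h]
  exacts [act_one s, act_z s]

/-- The element `e σ(s)`. -/
structure HM (α β : Bool) where
  s : SM
  e : EM

namespace HM

variable {α β : Bool}

instance : DecidableEq (HM α β) := fun x y =>
  decidable_of_iff (x.s = y.s ∧ x.e = y.e) (by cases x; cases y; simp)
instance decAll (P : HM α β → Prop) [DecidablePred P] : Decidable (∀ x, P x) :=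
  decidable_of_iff (∀ s e, P ⟨s, e⟩) ⟨fun h x => h x.s x.e, fun h _ _ => h _⟩
instance decEx (P : HM α β → Prop) [DecidablePred P] : Decidable (∃ x, P x) :=
  decidable_of_iff (∃ s e, P ⟨s, e⟩) ⟨fun ⟨_, _, h⟩ => ⟨_, h⟩, fun ⟨x, h⟩ => ⟨x.s, x.e, h⟩⟩

/-- The underlying product. -/
def equivProd (α β : Bool) : SM × EM ≃ HM α β :=
  ⟨fun p => ⟨p.1, p.2⟩, fun x => (x.s, x.e), fun _ => rfl, fun _ => rfl⟩

instance : Fintype (HM α β) := Fintype.ofEquiv _ (equivProd α β)

theorem card_eq : Nat.card (HM α β) = 768 := by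
  rw [← Nat.card_congr (equivProd α β), Nat.card_prod, SM.card_eq, EM.card_eq]

instance : Mul (HM α β) := ⟨fun x y => ⟨x.s * y.s, x.e * act x.s y.e * coc α β x.s y.s⟩⟩
instance : One (HM α β) := ⟨⟨1, 1⟩⟩
instance : Inv (HM α β) := ⟨fun x => ⟨x.s⁻¹, act x.s⁻¹ x.e⁻¹ * coc α β x.s⁻¹ x.s⟩⟩

theorem mk_mul (s t : SM) (a b : EM) :
    (⟨s, a⟩ : HM α β) * ⟨t, b⟩ = ⟨s * t, a * act s b * coc α β s t⟩ := rfl

theorem one_def : (1 : HM α β) = ⟨1, 1⟩ := rfl

instance : Group (HM α β) := Group.ofLeftAxioms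
  (by
    rintro ⟨s, a⟩ ⟨t, b⟩ ⟨u, c⟩
    simp only [mk_mul, act_mul, mul_act, act_coc, mul_assoc]
    rw [← mul_assoc (coc α β s t), coc_comm α β s t, mul_assoc, coc_coc])
  (by rintro ⟨s, a⟩; simp only [one_def, mk_mul, one_act, coc_one, one_mul, mul_one])
  (by revert α β; decide +kernel)

/-- The element with given numbers. -/
def m (s e : ℕ) : HM α β := ⟨SM.o s, EM.o e⟩

/-- The projection to `S₄`. -/
def pr : HM α β →* SM := MonoidHom.mk' HM.s fun _ _ => rfl

end HM

end CfsgLib.W2.L34
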